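import Mathlib

set_option autoImplicit false

namespace Cfsg.Agent.Lib.Helper38

/-- In a finite `p`-group a nontrivial normal subgroup meets the centre nontrivially. -/
theorem normal_inf_center_ne_bot {P : Type*} [Group P] [Finite P] (p : ℕ) [Fact p.Prime]
    (hP : IsPGroup p P) (N : Subgroup P) [N.Normal] (hN : N ≠ ⊥) :
    ∃ x : P, x ∈ N ∧ x ∈ Subgroup.center P ∧ x ≠ 1 := by
  have hNp : IsPGroup p ↥N := hP.to_subgroup N
  have hnt : Nontrivial ↥N := (Subgroup.nontrivial_iff_ne_bot N).mpr hN
  have dvd : p ∣ Nat.card ↥N := by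
    obtain ⟨n, hn0, hn⟩ := hNp.nontrivial_iff_card.mp hnt
    exact hn.symm ▸ dvd_pow_self _ (ne_of_gt hn0)
  have hone : (1 : ↥N) ∈ MulAction.fixedPoints (ConjAct P) ↥N := by
    intro g
    apply Subtype.ext
    rw [ConjAct.Subgroup.val_conj_smul]
    simp
  obtain ⟨b, hb, hb1⟩ := (hP.of_equiv ConjAct.toConjAct).exists_fixed_point_of_prime_dvd_card_of_fixed_point
    (α := ↥N) dvd hone
  refine ⟨b, b.2, ?_, ?_⟩
  · rw [Subgroup.mem_center_iff]
    intro g
    have := hb (ConjAct.toConjAct g)
    have h2 := congrArg Subtype.val this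
    rw [ConjAct.Subgroup.val_conj_smul, ConjAct.toConjAct_smul] at h2
    have h3 := congrArg (· * g) h2
    simpa [mul_assoc] using h3
  · intro h
    apply hb1
    apply Subtype.ext
    exact h.symm

/-- A nonidentity element of a `p`-group has a power of order exactly `p`. -/
theorem exists_pow_orderOf_eq_prime {P : Type*} [Group P] (p : ℕ) [hp : Fact p.Prime]
    (x : P) (hx : x ≠ 1) (hpx : ∃ k : ℕ, orderOf x = p ^ k) :
    ∃ n : ℕ, orderOf (x ^ n) = p := by
  obtain ⟨k, hk⟩ := hpx
  cases k with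
  | zero =>
    exfalso
    apply hx
    rw [pow_zero] at hk
    exact orderOf_eq_one_iff.mp hk
  | succ k =>
    refine ⟨p ^ k, ?_⟩
    have hne : p ^ k ≠ 0 := pow_ne_zero _ hp.out.ne_zero
    rw [orderOf_pow_of_dvd hne (by rw [hk]; exact pow_dvd_pow p (Nat.le_succ k)), hk, pow_succ]
    exact Nat.mul_div_cancel_left _ (Nat.pos_of_ne_zero hne)

/-- In a finite cyclic group, two elements of order 2 coincide. -/
theorem eq_of_orderOf_eq_two_of_isCyclic {H : Type*} [Group H] [Finite H] [IsCyclic H]
    (x y : H) (hx : orderOf x = 2) (hy : orderOf y = 2) : x = y := by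
  classical
  have : Fintype H := Fintype.ofFinite H
  have hd : 2 ∣ Fintype.card H := by
    rw [← hx, ← Nat.card_eq_fintype_card]
    exact orderOf_dvd_natCard x
  have hcard := IsCyclic.card_orderOf_eq_totient (α := H) hd
  rw [Nat.totient_two] at hcard
  have hxm : x ∈ Finset.univ.filter (fun a : H => orderOf a = 2) := by simp [hx]
  have hym : y ∈ Finset.univ.filter (fun a : H => orderOf a = 2) := by simp [hy]
  exact Finset.card_le_one.mp (le_of_eq hcard) x hxm y hym


theorem frattini_eq_bot_of_sq_eq_one {T : Type*} [Group T] [Finite T] (h : ∀ t : T, t ^ 2 = 1) :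
    frattini T = ⊥ := by
  have hinv : ∀ a : T, a⁻¹ = a := by
    intro a
    have := h a
    rw [pow_two] at this
    exact inv_eq_of_mul_eq_one_left this
  have hcomm : ∀ a b : T, a * b = b * a := by
    intro a b
    have h1 := h (a * b)
    rw [pow_two] at h1
    have h2 : a * b = (a * b)⁻¹ := (hinv (a * b)).symm
    rw [h2, mul_inv_rev, hinv, hinv]
  rw [eq_bot_iff]
  intro x hx
  rw [Subgroup.mem_bot]
  by_contra hx1
  have hfin : {K : Subgroup T | x ∉ K}.Finite := Set.toFinite _
  have hne : {K : Subgroup T | x ∉ K}.Nonempty := ⟨⊥, by simpa [Subgroup.mem_bot] using hx1⟩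
  obtain ⟨K, hK⟩ := hfin.exists_maximal hne
  have hxK : x ∉ K := hK.prop
  have hKn : K.Normal := ⟨fun n hn g => by rw [hcomm g n, mul_assoc, mul_inv_cancel, mul_one]; exact hn⟩
  have hco : IsCoatom K := by
    refine ⟨fun htop => hxK (htop ▸ Subgroup.mem_top x), fun L hKL => ?_⟩
    have hxL : x ∈ L := by
      by_contra hxL
      exact absurd (hK.le_of_ge hxL hKL.le) (not_le_of_gt hKL)
    rw [eq_top_iff]
    intro y _
    by_cases hyK : y ∈ K
    · exact hKL.le hyK
    · have hlt : K < K ⊔ Subgroup.zpowers y := by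
        apply lt_of_le_of_ne le_sup_left
        intro heq
        apply hyK
        rw [heq]
        exact (le_sup_right : Subgroup.zpowers y ≤ K ⊔ Subgroup.zpowers y) (Subgroup.mem_zpowers y)
      have hx2 : x ∈ K ⊔ Subgroup.zpowers y := by
        by_contra hx2
        exact absurd (hK.le_of_ge hx2 hlt.le) (not_le_of_gt hlt)
      rw [sup_comm, ← SetLike.mem_coe, Subgroup.mul_normal, Set.mem_mul] at hx2
      obtain ⟨z, hz, k, hk, hzk⟩ := hx2
      obtain ⟨i, rfl⟩ := Subgroup.mem_zpowers_iff.mp hz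
      rcases Int.even_or_odd i with ⟨j, rfl⟩ | ⟨j, rfl⟩
      · exfalso
        apply hxK
        have : y ^ (j + j) = 1 := by
          rw [← two_mul, zpow_mul, zpow_ofNat, h, one_zpow]
        rw [this, one_mul] at hzk
        rw [← hzk]; exact hk
      · have : y ^ (2 * j + 1) = y := by
          rw [zpow_add, zpow_mul, zpow_ofNat, h, one_zpow, one_mul, zpow_one]
        rw [this] at hzk
        have : y = x * k⁻¹ := by rw [← hzk]; group
        rw [this]
        exact L.mul_mem hxL (L.inv_mem (hKL.le hk))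
  exact hxK (frattini_le_coatom hco hx)

theorem exists_normal_ne_top_of_pgroup {D : Type*} [Group D] [Finite D] (p : ℕ) [Fact p.Prime]
    (hD : IsPGroup p D) (R : Subgroup D) (hR : R ≠ ⊤) :
    ∃ N : Subgroup D, N.Normal ∧ R ≤ N ∧ N ≠ ⊤ := by
  rcases eq_top_or_exists_le_coatom R with h | ⟨N, hN, hRN⟩
  · exact absurd h hR
  · have hnil : Group.IsNilpotent D := hD.isNilpotent
    have hnc : NormalizerCondition D := Group.normalizerCondition_of_isNilpotent
    exact ⟨N, Subgroup.NormalizerCondition.normal_of_coatom N hnc hN, hRN, hN.1⟩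

end Cfsg.Agent.Lib.Helper38
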