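import Mathlib
import Cfsg.Agent.Lib.Helper73.RUDefs
import Cfsg.Agent.Lib.Helper07.SLGen

set_option autoImplicit false

/-!
# K-RU pack (S2280), LEAF E: if all `e_jᵀ` are axes of `G` then `G = ⊤`
-/

namespace Cfsg.Agent.Lib.Helper38.RU

open Matrix Cfsg.Agent.Lib.Helper73.RU

theorem eq_top_of_single_mem_Ax {n : ℕ} {F : Type*} [Field F]
    (G : Subgroup (SpecialLinearGroup (Fin n) F))
    (h : ∀ j : Fin n, (Pi.single j 1 : Fin n → F) ∈ Ax G) : G = ⊤ := by
  apply Cfsg.Agent.Lib.Helper07.eq_top_of_transvection_mem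
  intro i j hij c
  have hdot : (Pi.single j 1 : Fin n → F) ⬝ᵥ (c • (Pi.single i 1 : Fin n → F)) = 0 := by
    rw [dotProduct_smul, single_dotProduct, one_mul, Pi.single_apply, if_neg hij.symm, smul_zero]
  obtain ⟨g, hg, hgc⟩ := h j (c • (Pi.single i 1 : Fin n → F)) hdot
  have e : g = SpecialLinearGroup.transvection hij c := by
    apply Subtype.ext
    rw [SpecialLinearGroup.transvection_coe]
    show (g : Matrix (Fin n) (Fin n) F) = _
    rw [hgc]
    unfold tvm
    congr 1
    ext a b
    simp only [vecMulVec_apply, Pi.smul_apply, Pi.single_apply, smul_eq_mul, Matrix.single_apply]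
    by_cases h1 : a = i <;> by_cases h2 : b = j
    · subst h1 h2; simp
    · subst h1
      have h2' : ¬ j = b := fun e => h2 e.symm
      simp [h2, h2']
    · subst h2
      have h1' : ¬ i = a := fun e => h1 e.symm
      simp [h1, h1']
    · have h1' : ¬ i = a := fun e => h1 e.symm
      simp [h1, h2, h1']
  rw [← e]
  exact hg

end Cfsg.Agent.Lib.Helper38.RU
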