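import Mathlib

/-!
# K-S3360-SYM (for helper6's S3360): the symplectic prime bound

A nondegenerate alternating bimultiplicative pairing `W × W → Z` with `|Z| = r` prime forces
`|W| = r ^ (2 m)`; an automorphism of prime order `l ≠ r` preserving the pairing gives
`l ∣ r ^ (2 j) - 1` with `0 < j` and `r ^ (2 j) ≤ |W|`.
-/

set_option autoImplicit false

namespace Cfsg.Agent.Lib.Helper38.NF2

universe u

section Pairing

variable {W Z : Type u} [CommGroup W] [CommGroup Z] (f : W → W → Z)

theorem pair_one_left (hmul1 : ∀ u v w, f (u * v) w = f u w * f v w) (w : W) : f 1 w = 1 := by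
  have h := hmul1 1 1 w
  rw [mul_one] at h
  exact (mul_eq_left.mp h.symm)

theorem pair_one_right (hmul2 : ∀ u v w, f u (v * w) = f u v * f u w) (u : W) : f u 1 = 1 := by
  have h := hmul2 u 1 1
  rw [mul_one] at h
  exact (mul_eq_left.mp h.symm)

/-- `u ↦ f u w` as a homomorphism -/
def homL (hmul1 : ∀ u v w, f (u * v) w = f u w * f v w) (w : W) : W →* Z where
  toFun u := f u w
  map_one' := pair_one_left f hmul1 w
  map_mul' u v := hmul1 u v w

/-- `w ↦ f u w` as a homomorphism -/
def homR (hmul2 : ∀ u v w, f u (v * w) = f u v * f u w) (u : W) : W →* Z where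
  toFun w := f u w
  map_one' := pair_one_right f hmul2 u
  map_mul' v w := hmul2 u v w

theorem pair_skew (hmul1 : ∀ u v w, f (u * v) w = f u w * f v w)
    (hmul2 : ∀ u v w, f u (v * w) = f u v * f u w) (halt : ∀ v, f v v = 1) (u v : W) :
    f u v * f v u = 1 := by
  have h := halt (u * v)
  rw [hmul1, hmul2, hmul2, halt, halt, one_mul, mul_one] at h
  exact h

theorem pair_swap (hmul1 : ∀ u v w, f (u * v) w = f u w * f v w)
    (hmul2 : ∀ u v w, f u (v * w) = f u v * f u w) (halt : ∀ v, f v v = 1) (u v : W) :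
    f v u = (f u v)⁻¹ :=
  eq_inv_of_mul_eq_one_right (pair_skew f hmul1 hmul2 halt u v)

end Pairing

/-- the order of a finite commutative group carrying a nondegenerate alternating pairing into a group
of prime order `r` is an even power of `r` -/
theorem even_card_aux {Z : Type u} [CommGroup Z] (r : ℕ) (hr : r.Prime) (hZ : Nat.card Z = r) :
    ∀ (n : ℕ) (W : Type u) [CommGroup W] [Finite W], Nat.card W = n →
      ∀ f : W → W → Z, (∀ u v w, f (u * v) w = f u w * f v w) →
        (∀ u v w, f u (v * w) = f u v * f u w) → (∀ v, f v v = 1) →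
        (∀ v, (∀ w, f v w = 1) → v = 1) → ∃ m : ℕ, n = r ^ (2 * m) := by
  intro n
  induction n using Nat.strong_induction_on with
  | _ n ih =>
    intro W _ _ hn f hmul1 hmul2 halt hnd
    have : Fact r.Prime := ⟨hr⟩
    have : Finite Z := Nat.finite_of_card_ne_zero (by rw [hZ]; exact hr.ne_zero)
    by_cases htriv : ∀ v : W, v = 1
    · refine ⟨0, ?_⟩
      have : Subsingleton W := ⟨fun a b => (htriv a).trans (htriv b).symm⟩
      rw [← hn, Nat.card_of_subsingleton (1 : W)]
      simp
    · push Not at htriv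
      obtain ⟨v, hv⟩ := htriv
      have hex : ∃ w, f v w ≠ 1 := by
        by_contra hcon
        push Not at hcon
        exact hv (hnd v hcon)
      obtain ⟨w, hvw⟩ := hex
      set a : Z := f v w with ha
      have hwv : f w v = a⁻¹ := pair_swap f hmul1 hmul2 halt v w
      have htop : Subgroup.zpowers a = ⊤ := zpowers_eq_top_of_prime_card hZ hvw
      -- the homomorphism `u ↦ (f u v, f u w)`
      let φ : W →* Z × Z := (homL f hmul1 v).prod (homL f hmul1 w)
      have hφ : ∀ u, φ u = (f u v, f u w) := fun u => rfl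
      -- values on `w ^ i * v ^ j`
      have hval : ∀ i j : ℤ, φ (w ^ i * v ^ j) = (a⁻¹ ^ i, a ^ j) := by
        intro i j
        rw [map_mul, map_zpow, map_zpow, hφ, hφ, hwv, halt, halt, ← ha]
        simp
      have hsurj' : ∀ z : Z × Z, ∃ i j : ℤ, φ (w ^ i * v ^ j) = z := by
        rintro ⟨z1, z2⟩
        have h1 : z1 ∈ Subgroup.zpowers a := by rw [htop]; exact Subgroup.mem_top _
        have h2 : z2 ∈ Subgroup.zpowers a := by rw [htop]; exact Subgroup.mem_top _
        obtain ⟨k1, rfl⟩ := Subgroup.mem_zpowers_iff.mp h1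
        obtain ⟨k2, rfl⟩ := Subgroup.mem_zpowers_iff.mp h2
        refine ⟨-k1, k2, ?_⟩
        rw [hval]
        simp
      have hsurj : Function.Surjective φ := by
        intro z
        obtain ⟨i, j, hij⟩ := hsurj' z
        exact ⟨_, hij⟩
      -- cardinalities
      have hcard : Nat.card W = r * r * Nat.card φ.ker := by
        rw [Subgroup.card_eq_card_quotient_mul_card_subgroup φ.ker,
          Nat.card_congr (QuotientGroup.quotientKerEquivOfSurjective φ hsurj).toEquiv,
          Nat.card_prod, hZ]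
      -- nondegeneracy on the kernel
      have hker : ∀ u : W, u ∈ φ.ker ↔ f u v = 1 ∧ f u w = 1 := by
        intro u
        rw [MonoidHom.mem_ker, hφ, Prod.mk_eq_one]
      have hnd' : ∀ u : φ.ker, (∀ t : φ.ker, f u.1 t.1 = 1) → u = 1 := by
        intro u hu
        apply Subtype.ext
        apply hnd
        intro x
        obtain ⟨i, j, hij⟩ := hsurj' (φ x)
        have hx' : x * (w ^ i * v ^ j)⁻¹ ∈ φ.ker := by
          rw [MonoidHom.mem_ker, map_mul, map_inv, hij, mul_inv_cancel]
        have h1 := hu ⟨_, hx'⟩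
        have huk := (hker u.1).mp u.2
        have huv : f u.1 v = 1 := huk.1
        have huw : f u.1 w = 1 := huk.2
        have h2 : f u.1 (w ^ i * v ^ j) = 1 := by
          have e1 : f u.1 (w ^ i * v ^ j) = homR f hmul2 u.1 (w ^ i * v ^ j) := rfl
          rw [e1, map_mul, map_zpow, map_zpow]
          have e2 : homR f hmul2 u.1 w = 1 := huw
          have e3 : homR f hmul2 u.1 v = 1 := huv
          rw [e2, e3, one_zpow, one_zpow, one_mul]
        have h3 : x = x * (w ^ i * v ^ j)⁻¹ * (w ^ i * v ^ j) := by group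
        rw [h3, hmul2, h2, mul_one]
        exact h1
      have hpos : 0 < Nat.card φ.ker := Nat.card_pos
      have hr2 : 2 ≤ r := hr.two_le
      have hlt : Nat.card φ.ker < n := by
        rw [← hn, hcard]
        have : 4 ≤ r * r := Nat.mul_le_mul hr2 hr2
        nlinarith
      obtain ⟨m', hm'⟩ := ih (Nat.card φ.ker) hlt φ.ker rfl (fun a b => f a.1 b.1)
        (fun a b c => hmul1 a.1 b.1 c.1) (fun a b c => hmul2 a.1 b.1 c.1) (fun a => halt a.1) hnd'
      refine ⟨m' + 1, ?_⟩
      rw [← hn, hcard, hm']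
      ring

theorem symplectic_prime_bound {W Z : Type u} [CommGroup W] [Finite W] [CommGroup Z] (r l : ℕ)
    (hr : r.Prime) (hl : l.Prime) (hlr : l ≠ r) (hZ : Nat.card Z = r) (f : W → W → Z)
    (hmul1 : ∀ u v w, f (u * v) w = f u w * f v w) (hmul2 : ∀ u v w, f u (v * w) = f u v * f u w)
    (halt : ∀ v, f v v = 1) (hnd : ∀ v, (∀ w, f v w = 1) → v = 1)
    (y : MulAut W) (hinv : ∀ u v, f (y u) (y v) = f u v) (hyl : y ^ l = 1) (hy1 : ∃ w, y w ≠ w) :
    ∃ j : ℕ, 0 < j ∧ r ^ (2 * j) ≤ Nat.card W ∧ l ∣ r ^ (2 * j) - 1 := by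
  classical
  have : Fact r.Prime := ⟨hr⟩
  have : Fact l.Prime := ⟨hl⟩
  have : Finite Z := Nat.finite_of_card_ne_zero (by rw [hZ]; exact hr.ne_zero)
  have hzr : ∀ z : Z, z ^ r = 1 := fun z => by rw [← hZ]; exact pow_card_eq_one'
  have hwr : ∀ w : W, w ^ r = 1 := by
    intro w
    apply hnd
    intro t
    have h1 : f (w ^ r) t = (f w t) ^ r := map_pow (homL f hmul1 t) w r
    rw [h1, hzr]
  -- the displacement homomorphism
  let δ : W →* W :=
    { toFun := fun u => y u * u⁻¹
      map_one' := by simp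
      map_mul' := fun a b => by rw [map_mul, mul_inv]; exact mul_mul_mul_comm _ _ _ _ }
  have hδ : ∀ u, δ u = y u * u⁻¹ := fun u => rfl
  set U : Subgroup W := δ.range with hU
  have hUy : ∀ a, a ∈ U → y a ∈ U := by
    rintro _ ⟨t, rfl⟩
    refine ⟨y t, ?_⟩
    rw [hδ, hδ, map_mul, map_inv]
  have hUy' : ∀ a, y a ∈ U → a ∈ U := by
    rintro a ⟨t, ht⟩
    refine ⟨y⁻¹ t, ?_⟩
    rw [hδ, MulAut.apply_inv_self]
    have h1 : a = y⁻¹ (y a) := (MulAut.inv_apply_self _ y a).symm
    rw [h1, ← ht, hδ, map_mul, map_inv, MulAut.inv_apply_self]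
  -- no fixed points in `U`
  have hUfix : ∀ v ∈ U, y v = v → v = 1 := by
    rintro v ⟨u, rfl⟩ hfix
    have hyu : y u = u * δ u := by rw [hδ]; simp
    have hk : ∀ k : ℕ, (y ^ k) u = u * (δ u) ^ k := by
      intro k
      induction k with
      | zero => simp
      | succ k ih =>
        rw [pow_succ', MulAut.mul_apply, ih, map_mul, map_pow, hfix, hyu, pow_succ, mul_assoc,
          mul_comm (δ u) ((δ u) ^ k)]
    have h1 := hk l
    rw [hyl, MulAut.one_apply] at h1
    have hvl : (δ u) ^ l = 1 := by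
      have : u * 1 = u * (δ u) ^ l := by rw [mul_one]; exact h1
      exact (mul_left_cancel this).symm
    have hvr : (δ u) ^ r = 1 := hwr _
    have hg := (pow_gcd_eq_one (a := δ u) (m := l) (n := r)).mpr ⟨hvl, hvr⟩
    rw [(Nat.coprime_primes hl hr).mpr hlr, pow_one] at hg
    exact hg
  -- nondegeneracy on `U`
  have hndU : ∀ v : U, (∀ t : U, f v.1 t.1 = 1) → v = 1 := by
    intro v hv
    have h1 : ∀ u, f v.1 (y u) = f v.1 u := by
      intro u
      have h := hv ⟨δ u, ⟨u, rfl⟩⟩
      have e1 : f v.1 (δ u) = homR f hmul2 v.1 (y u * u⁻¹) := rfl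
      have e2 : f v.1 (δ u) = 1 := h
      rw [e1, map_mul, map_inv, mul_inv_eq_one] at e2
      exact e2
    have h2 : ∀ t, f (y v.1) t = f v.1 t := by
      intro t
      calc f (y v.1) t = f (y v.1) (y (y⁻¹ t)) := by rw [MulAut.apply_inv_self]
        _ = f v.1 (y⁻¹ t) := hinv _ _
        _ = f v.1 (y (y⁻¹ t)) := (h1 _).symm
        _ = f v.1 t := by rw [MulAut.apply_inv_self]
    have hfix : y v.1 = v.1 := by
      have h3 : y v.1 * (v.1)⁻¹ = 1 := by
        apply hnd
        intro t
        rw [hmul1, h2, ← hmul1, mul_inv_cancel]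
        exact pair_one_left f hmul1 t
      exact mul_inv_eq_one.mp h3
    exact Subtype.ext (hUfix v.1 v.2 hfix)
  obtain ⟨j, hj⟩ := even_card_aux r hr hZ (Nat.card U) U rfl (fun a b => f a.1 b.1)
    (fun a b c => hmul1 a.1 b.1 c.1) (fun a b c => hmul2 a.1 b.1 c.1) (fun a => halt a.1) hndU
  obtain ⟨w0, hw0⟩ := hy1
  have hU1 : δ w0 ≠ 1 := by
    rw [hδ]
    intro h
    exact hw0 (mul_inv_eq_one.mp h)
  have hjpos : 0 < j := by
    by_contra h0
    have hj0 : j = 0 := by omega
    rw [hj0, mul_zero, pow_zero] at hj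
    have hsub : Subsingleton U := (Nat.card_eq_one_iff_unique.mp hj).1
    have : (⟨δ w0, ⟨w0, rfl⟩⟩ : U) = 1 := Subsingleton.elim _ _
    exact hU1 (congrArg Subtype.val this)
  refine ⟨j, hjpos, ?_, ?_⟩
  · rw [← hj]
    exact Subgroup.card_le_card_group U
  · have : Fintype U := Fintype.ofFinite U
    let σ : Equiv.Perm U := y.toEquiv.subtypeEquiv (fun a => ⟨hUy a, hUy' a⟩)
    have hσ : ∀ a : U, ((σ a : U) : W) = y a.1 := fun a => rfl
    have hσk : ∀ (k : ℕ) (a : U), (((σ ^ k) a : U) : W) = (y ^ k) a.1 := by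
      intro k
      induction k with
      | zero => intro a; simp
      | succ k ih =>
        intro a
        rw [pow_succ', Equiv.Perm.mul_apply, hσ, ih, pow_succ', MulAut.mul_apply]
    have hσpow : σ ^ l ^ 1 = 1 := by
      rw [pow_one]
      ext a
      rw [hσk, hyl]
      rfl
    have hmod := Equiv.Perm.card_compl_support_modEq (p := l) (n := 1) hσpow
    have hcompl : σ.supportᶜ = {1} := by
      ext a
      rw [Finset.mem_compl, Equiv.Perm.mem_support, not_not, Finset.mem_singleton]
      constructor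
      · intro h
        have h' : y a.1 = a.1 := by rw [← hσ, h]
        exact Subtype.ext (hUfix a.1 a.2 h')
      · rintro rfl
        apply Subtype.ext
        rw [hσ]
        exact map_one y
    rw [hcompl, Finset.card_singleton, ← Nat.card_eq_fintype_card, hj] at hmod
    have hpos : 1 ≤ r ^ (2 * j) := Nat.one_le_pow _ _ hr.pos
    exact (Nat.modEq_iff_dvd' hpos).mp hmod

end Cfsg.Agent.Lib.Helper38.NF2
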