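import Mathlib
import Cfsg.Prelude.Def_GeometricClasses
import Cfsg.Agent.Lib.Helper61.AschDefs

/-!
# K-S5630-A2 (for helper61's S5630): if `V` is not isotypic for a subalgebra `A` normalized by the
irreducible group `K`, the isotypic components of `V` form a decomposition permuted by `K`.

Semisimplicity of `V` over `A` is not needed here: the supremum of one `K`-orbit of isotypic
components is `K`-invariant, hence everything, and the components are independent.
-/

set_option autoImplicit false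

namespace Cfsg.Agent.Lib.Helper38.Asch

open Cfsg Cfsg.Geo Cfsg.Agent.Lib.Helper61.Asch
open scoped Matrix Kronecker MatrixGroups

variable {F : Type*} [Field F] [Fintype F] {n : ℕ}

local notation "V" => (Fin n → F)
local notation "Mat" => Matrix (Fin n) (Fin n) F

/-- a pair of mutually inverse matrices both conjugating the subalgebra `A` into itself -/
structure Nrm (A : Subalgebra F Mat) where
  P : Mat
  Q : Mat
  hPQ : P * Q = 1
  hQP : Q * P = 1
  hA : ∀ x ∈ A, Q * x * P ∈ A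
  hA' : ∀ x ∈ A, P * x * Q ∈ A

namespace Nrm

variable {A : Subalgebra F (Matrix (Fin n) (Fin n) F)}

/-- the inverse pair -/
def symm (N : Nrm A) : Nrm A := ⟨N.Q, N.P, N.hQP, N.hPQ, N.hA', N.hA⟩

theorem Q_mulVec_P (N : Nrm A) (v : V) : N.Q *ᵥ (N.P *ᵥ v) = v := by
  rw [Matrix.mulVec_mulVec, N.hQP, Matrix.one_mulVec]

theorem P_mulVec_Q (N : Nrm A) (v : V) : N.P *ᵥ (N.Q *ᵥ v) = v := by
  rw [Matrix.mulVec_mulVec, N.hPQ, Matrix.one_mulVec]

/-- transport of an `A`-submodule: `P m = {w | Q w ∈ m}` -/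
def tr (N : Nrm A) (m : Submodule A V) : Submodule A V where
  carrier := {w | N.Q *ᵥ w ∈ m}
  zero_mem' := by
    show N.Q *ᵥ (0 : V) ∈ m
    rw [Matrix.mulVec_zero]; exact m.zero_mem
  add_mem' := by
    intro a b ha hb
    show N.Q *ᵥ (a + b) ∈ m
    rw [Matrix.mulVec_add]; exact m.add_mem ha hb
  smul_mem' := by
    intro a w hw
    show N.Q *ᵥ (a • w) ∈ m
    have h : N.Q *ᵥ (a • w) = (⟨N.Q * (a : Mat) * N.P, N.hA a a.2⟩ : A) • (N.Q *ᵥ w) := by
      change N.Q *ᵥ ((a : Mat) *ᵥ w) = (N.Q * (a : Mat) * N.P) *ᵥ (N.Q *ᵥ w)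
      rw [Matrix.mulVec_mulVec, Matrix.mulVec_mulVec, Matrix.mul_assoc (N.Q * (a : Mat)), N.hPQ,
        Matrix.mul_one]
    rw [h]; exact m.smul_mem _ hw

theorem mem_tr (N : Nrm A) (m : Submodule A V) (w : V) : w ∈ N.tr m ↔ N.Q *ᵥ w ∈ m := Iff.rfl

theorem tr_mono (N : Nrm A) {m m' : Submodule A V} (h : m ≤ m') : N.tr m ≤ N.tr m' :=
  fun _ hw => h hw

theorem symm_tr_tr (N : Nrm A) (m : Submodule A V) : N.symm.tr (N.tr m) = m := by
  ext w
  rw [mem_tr, mem_tr]
  show N.Q *ᵥ (N.P *ᵥ w) ∈ m ↔ _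
  rw [N.Q_mulVec_P]

theorem tr_symm_tr (N : Nrm A) (m : Submodule A V) : N.tr (N.symm.tr m) = m :=
  N.symm.symm_tr_tr m

/-- transport as an order isomorphism -/
def trIso (N : Nrm A) : Submodule A V ≃o Submodule A V where
  toFun := N.tr
  invFun := N.symm.tr
  left_inv := N.symm_tr_tr
  right_inv := N.tr_symm_tr
  map_rel_iff' := by
    intro a b
    show N.tr a ≤ N.tr b ↔ a ≤ b
    constructor
    · intro h
      have := N.symm.tr_mono h
      rwa [N.symm_tr_tr, N.symm_tr_tr] at this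
    · exact N.tr_mono

theorem trIso_apply (N : Nrm A) (m : Submodule A V) : N.trIso m = N.tr m := rfl

theorem isSimpleModule_tr (N : Nrm A) (m : Submodule A V) [hm : IsSimpleModule A m] :
    IsSimpleModule A (N.tr m) :=
  isSimpleModule_iff_isAtom.mpr ((N.trIso.isAtom_iff m).mpr (isSimpleModule_iff_isAtom.mp hm))

/-- the additive bijection `m → P m` -/
def addEquiv (N : Nrm A) (m : Submodule A V) : m ≃+ N.tr m where
  toFun v := ⟨N.P *ᵥ v.1, by
    show N.Q *ᵥ (N.P *ᵥ v.1) ∈ m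
    rw [N.Q_mulVec_P]; exact v.2⟩
  invFun w := ⟨N.Q *ᵥ w.1, w.2⟩
  left_inv v := Subtype.ext (N.Q_mulVec_P v.1)
  right_inv w := Subtype.ext (N.P_mulVec_Q w.1)
  map_add' v w := by
    apply Subtype.ext
    show N.P *ᵥ (v.1 + w.1) = N.P *ᵥ v.1 + N.P *ᵥ w.1
    exact Matrix.mulVec_add _ _ _

theorem addEquiv_apply_coe (N : Nrm A) (m : Submodule A V) (v : m) :
    ((N.addEquiv m v : N.tr m) : V) = N.P *ᵥ v.1 := rfl

theorem addEquiv_symm_apply_coe (N : Nrm A) (m : Submodule A V) (w : N.tr m) :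
    (((N.addEquiv m).symm w : m) : V) = N.Q *ᵥ w.1 := rfl

theorem addEquiv_smul (N : Nrm A) (m : Submodule A V) (a : A) (v : m) :
    N.addEquiv m (a • v) = (⟨N.P * (a : Mat) * N.Q, N.hA' a a.2⟩ : A) • N.addEquiv m v := by
  apply Subtype.ext
  rw [Submodule.coe_smul, addEquiv_apply_coe, addEquiv_apply_coe, Submodule.coe_smul]
  change N.P *ᵥ ((a : Mat) *ᵥ v.1) = (N.P * (a : Mat) * N.Q) *ᵥ (N.P *ᵥ v.1)
  rw [Matrix.mulVec_mulVec, Matrix.mulVec_mulVec, Matrix.mul_assoc (N.P * (a : Mat)), N.hQP,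
    Matrix.mul_one]

theorem addEquiv_symm_smul (N : Nrm A) (m : Submodule A V) (a : A) (w : N.tr m) :
    (N.addEquiv m).symm (a • w) =
      (⟨N.Q * (a : Mat) * N.P, N.hA a a.2⟩ : A) • (N.addEquiv m).symm w := by
  apply Subtype.ext
  rw [Submodule.coe_smul, addEquiv_symm_apply_coe, addEquiv_symm_apply_coe, Submodule.coe_smul]
  change N.Q *ᵥ ((a : Mat) *ᵥ w.1) = (N.Q * (a : Mat) * N.P) *ᵥ (N.Q *ᵥ w.1)
  rw [Matrix.mulVec_mulVec, Matrix.mulVec_mulVec, Matrix.mul_assoc (N.Q * (a : Mat)), N.hPQ,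
    Matrix.mul_one]

/-- transport of an `A`-linear equivalence -/
def trEquiv (N : Nrm A) {m S : Submodule A V} (e : m ≃ₗ[A] S) : N.tr m ≃ₗ[A] N.tr S where
  toFun w := N.addEquiv S (e ((N.addEquiv m).symm w))
  invFun w := N.addEquiv m (e.symm ((N.addEquiv S).symm w))
  map_add' := by
    intro x y
    simp only [map_add]
  map_smul' := by
    intro a w
    simp only [RingHom.id_apply]
    rw [addEquiv_symm_smul, map_smul, addEquiv_smul]
    congr 1
    apply Subtype.ext
    show N.P * (N.Q * (a : Mat) * N.P) * N.Q = (a : Mat)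
    calc N.P * (N.Q * (a : Mat) * N.P) * N.Q = (N.P * N.Q) * (a : Mat) * (N.P * N.Q) := by
          simp only [Matrix.mul_assoc]
      _ = (a : Mat) := by rw [N.hPQ, Matrix.one_mul, Matrix.mul_one]
  left_inv := by
    intro w
    simp
  right_inv := by
    intro w
    simp

theorem tr_isotypicComponent_le (N : Nrm A) (S : Submodule A V) :
    N.tr (isotypicComponent A V S) ≤ isotypicComponent A V (N.tr S) := by
  have h := N.trIso.map_sSup {m : Submodule A V | Nonempty (m ≃ₗ[A] S)}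
  rw [trIso_apply] at h
  unfold isotypicComponent
  rw [h]
  exact iSup₂_le fun m ⟨e⟩ => le_sSup ⟨N.trEquiv e⟩

theorem tr_isotypicComponent (N : Nrm A) (S : Submodule A V) :
    N.tr (isotypicComponent A V S) = isotypicComponent A V (N.tr S) := by
  apply le_antisymm (N.tr_isotypicComponent_le S)
  have h := N.symm.tr_isotypicComponent_le (N.tr S)
  rw [N.symm_tr_tr] at h
  have h2 := N.tr_mono h
  rwa [N.tr_symm_tr] at h2

theorem tr_mem_isotypicComponents (N : Nrm A) {c : Submodule A V}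
    (hc : c ∈ isotypicComponents A V) : N.tr c ∈ isotypicComponents A V := by
  obtain ⟨S, hS, rfl⟩ := hc
  exact ⟨N.tr S, N.isSimpleModule_tr S, N.tr_isotypicComponent S⟩

theorem restrictScalars_tr (N : Nrm A) (m : Submodule A V) :
    (N.tr m).restrictScalars F = (m.restrictScalars F).map (Matrix.toLin' N.P) := by
  ext w
  rw [Submodule.restrictScalars_mem, mem_tr, Submodule.mem_map]
  constructor
  · intro hw
    refine ⟨N.Q *ᵥ w, hw, ?_⟩
    rw [Matrix.toLin'_apply, N.P_mulVec_Q]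
  · rintro ⟨v, hv, rfl⟩
    rw [Matrix.toLin'_apply, N.Q_mulVec_P]
    exact hv

theorem tr_congr (N N' : Nrm A) (h : N.Q = N'.Q) (m : Submodule A V) : N.tr m = N'.tr m := by
  ext w
  rw [mem_tr, mem_tr, h]

/-- the pair attached to a member of a group normalizing `A` -/
def ofMem (K : Subgroup (GL (Fin n) F)) (hKA : NormAlg K A) (k : GL (Fin n) F) (hk : k ∈ K) :
    Nrm A where
  P := (k : Mat)
  Q := ((k⁻¹ : GL (Fin n) F) : Mat)
  hPQ := by rw [← Units.val_mul, mul_inv_cancel, Units.val_one]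
  hQP := by rw [← Units.val_mul, inv_mul_cancel, Units.val_one]
  hA := fun x hx => by
    have := hKA k⁻¹ (K.inv_mem hk) x hx
    rwa [inv_inv] at this
  hA' := hKA k hk

theorem ofMem_tr_tr (K : Subgroup (GL (Fin n) F)) (hKA : NormAlg K A) (k k' : GL (Fin n) F)
    (hk : k ∈ K) (hk' : k' ∈ K) (m : Submodule A V) :
    (ofMem K hKA k' hk').tr ((ofMem K hKA k hk).tr m) =
      (ofMem K hKA (k' * k) (K.mul_mem hk' hk)).tr m := by
  ext w
  rw [mem_tr, mem_tr, mem_tr]
  show ((k⁻¹ : GL (Fin n) F) : Mat) *ᵥ (((k'⁻¹ : GL (Fin n) F) : Mat) *ᵥ w) ∈ m ↔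
    (((k' * k)⁻¹ : GL (Fin n) F) : Mat) *ᵥ w ∈ m
  rw [Matrix.mulVec_mulVec, mul_inv_rev, Units.val_mul]

theorem ofMem_one_tr (K : Subgroup (GL (Fin n) F)) (hKA : NormAlg K A) (m : Submodule A V) :
    (ofMem K hKA 1 K.one_mem).tr m = m := by
  ext w
  rw [mem_tr]
  show (((1 : GL (Fin n) F)⁻¹ : GL (Fin n) F) : Mat) *ᵥ w ∈ m ↔ _
  rw [inv_one, Units.val_one, Matrix.one_mulVec]

end Nrm

/-- the core: two simple `A`-submodules which are not isomorphic -/
theorem c2_core (K : Subgroup (GL (Fin n) F)) (A : Subalgebra F Mat)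
    (hK : ActsIrreducibly (matrixSet K)) (hKA : NormAlg K A)
    (S₀ S₁ : Submodule A V) [IsSimpleModule A S₀] [IsSimpleModule A S₁]
    (hne : ¬ Nonempty (S₁ ≃ₗ[A] S₀)) :
    ∃ (t m : ℕ) (D : Fin t → Submodule F V), IsMDecomposition m D ∧ K ≤ decompositionStabilizer D := by
  classical
  have : IsNoetherian A V := isNoetherian_of_tower F inferInstance
  set C := isotypicComponents A V with hC
  set c₀ := isotypicComponent A V S₀ with hc₀
  set c₁ := isotypicComponent A V S₁ with hc₁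
  have hc₀C : c₀ ∈ C := ⟨S₀, inferInstance, rfl⟩
  have hc₁C : c₁ ∈ C := ⟨S₁, inferInstance, rfl⟩
  have hc01 : c₀ ≠ c₁ := by
    intro h
    apply hne
    have hle : S₁ ≤ c₀ := h ▸ S₁.le_isotypicComponent
    exact isIsotypicOfType_submodule_iff.mp (IsIsotypicOfType.isotypicComponent A V S₀) S₁ hle
  -- the orbit of `c₀`
  set O : Set (Submodule A V) := {c | ∃ k, ∃ hk : k ∈ K, c = (Nrm.ofMem K hKA k hk).tr c₀} with hO
  have hOC : O ⊆ C := by
    rintro c ⟨k, hk, rfl⟩
    exact Nrm.tr_mem_isotypicComponents _ hc₀C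
  have hc₀O : c₀ ∈ O := ⟨1, K.one_mem, (Nrm.ofMem_one_tr K hKA c₀).symm⟩
  have hOtr : ∀ k (hk : k ∈ K), ∀ c ∈ O, (Nrm.ofMem K hKA k hk).tr c ∈ O := by
    rintro k hk c ⟨k', hk', rfl⟩
    exact ⟨k * k', K.mul_mem hk hk', Nrm.ofMem_tr_tr K hKA k' k hk' hk c₀⟩
  have hWinv : ∀ k (hk : k ∈ K), (Nrm.ofMem K hKA k hk).tr (sSup O) ≤ sSup O := by
    intro k hk
    have h := (Nrm.ofMem K hKA k hk).trIso.map_sSup O
    rw [Nrm.trIso_apply] at h
    rw [h]
    exact iSup₂_le fun c hc => le_sSup (hOtr k hk c hc)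
  have hWtop : sSup O = ⊤ := by
    have h := hK ((sSup O).restrictScalars F) (by
      rintro s ⟨g, hg, rfl⟩
      have h1 := Nrm.restrictScalars_tr (Nrm.ofMem K hKA g hg) (sSup O)
      change _ = Submodule.map (Matrix.toLin' (g : Mat)) _ at h1
      rw [← h1]
      exact fun w hw => hWinv g hg hw)
    rcases h with h | h
    · exfalso
      rw [Submodule.restrictScalars_eq_bot_iff] at h
      have h2 : c₀ ≤ sSup O := le_sSup hc₀O
      rw [h, le_bot_iff] at h2
      exact (bot_lt_isotypicComponents hc₀C).ne' h2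
    · exact (Submodule.restrictScalars_eq_top_iff F A V).mp h
  have hOeq : ∀ c ∈ C, c ∈ O := by
    intro c hc
    by_contra hcO
    have hdis := sSupIndep_isotypicComponents A V hc
    have hle : sSup O ≤ sSup (C \ {c}) := by
      apply sSup_le_sSup
      intro c' hc'
      exact ⟨hOC hc', fun h => hcO (h ▸ hc')⟩
    rw [hWtop, top_le_iff] at hle
    rw [hle, disjoint_top] at hdis
    exact (bot_lt_isotypicComponents hc).ne' hdis
  have hCtop : sSup C = ⊤ := by
    apply top_le_iff.mp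
    rw [← hWtop]
    exact sSup_le_sSup hOC
  -- common dimension
  have hinj : ∀ g : GL (Fin n) F, Function.Injective (Matrix.toLin' (g : Mat)) := by
    intro g
    apply Function.LeftInverse.injective (g := Matrix.toLin' ((g⁻¹ : GL (Fin n) F) : Mat))
    intro v
    rw [← LinearMap.comp_apply, ← Matrix.toLin'_mul, ← Units.val_mul, inv_mul_cancel, Units.val_one,
      Matrix.toLin'_one]
    rfl
  have hdim : ∀ c ∈ C, Module.finrank F (c.restrictScalars F) =
      Module.finrank F (c₀.restrictScalars F) := by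
    intro c hc
    obtain ⟨k, hk, rfl⟩ := hOeq c hc
    rw [Nrm.restrictScalars_tr]
    exact (Submodule.equivMapOfInjective _ (hinj k) _).finrank_eq.symm
  have hpos : 0 < Module.finrank F (c₀.restrictScalars F) := by
    have : c₀.restrictScalars F ≠ ⊥ := by
      rw [Ne, Submodule.restrictScalars_eq_bot_iff]
      exact (bot_lt_isotypicComponents hc₀C).ne'
    exact Submodule.one_le_finrank_iff.mpr this
  -- enumeration
  have : Finite C := by rw [hC]; infer_instance
  have : Nontrivial C := ⟨⟨⟨c₀, hc₀C⟩, ⟨c₁, hc₁C⟩, fun h => hc01 (congrArg Subtype.val h)⟩⟩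
  let e : C ≃ Fin (Nat.card C) := Finite.equivFin C
  have hind : iSupIndep (fun i : Fin (Nat.card C) => ((e.symm i : C) : Submodule A V)) :=
    ((sSupIndep_iff _).mp (sSupIndep_isotypicComponents A V)).comp e.symm.injective
  refine ⟨Nat.card C, Module.finrank F (c₀.restrictScalars F),
    fun i => ((e.symm i : C) : Submodule A V).restrictScalars F, ⟨?_, hpos, ?_, ?_, ?_⟩, ?_⟩
  · exact Finite.one_lt_card
  · intro i
    exact hdim _ (e.symm i).2
  · intro i
    have h := hind i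
    rw [disjoint_iff] at h ⊢
    have h2 : (⨆ j, ⨆ (_ : j ≠ i), ((e.symm j : C) : Submodule A V).restrictScalars F) =
        (⨆ j, ⨆ (_ : j ≠ i), ((e.symm j : C) : Submodule A V)).restrictScalars F := by
      simp only [Submodule.restrictScalars_iSup]
    rw [h2, ← Submodule.restrictScalars_inf, h, Submodule.restrictScalars_bot]
  · rw [← Submodule.restrictScalars_iSup, Submodule.restrictScalars_eq_top_iff]
    apply top_le_iff.mp
    rw [← hCtop]
    apply sSup_le
    intro c hc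
    have : c = ((e.symm (e ⟨c, hc⟩) : C) : Submodule A V) := by rw [Equiv.symm_apply_apply]
    rw [this]
    exact le_iSup (fun i : Fin (Nat.card C) => ((e.symm i : C) : Submodule A V)) (e ⟨c, hc⟩)
  · intro k hk
    let π : C ≃ C :=
      { toFun := fun c => ⟨(Nrm.ofMem K hKA k hk).tr c.1, Nrm.tr_mem_isotypicComponents _ c.2⟩
        invFun := fun c => ⟨(Nrm.ofMem K hKA k hk).symm.tr c.1,
          Nrm.tr_mem_isotypicComponents _ c.2⟩
        left_inv := fun c => Subtype.ext (Nrm.symm_tr_tr _ c.1)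
        right_inv := fun c => Subtype.ext (Nrm.tr_symm_tr _ c.1) }
    refine ⟨e.symm.trans (π.trans e), fun i => ?_⟩
    have h1 := Nrm.restrictScalars_tr (Nrm.ofMem K hKA k hk) ((e.symm i : C) : Submodule A V)
    change _ = Submodule.map (Matrix.toLin' (k : Mat)) _ at h1
    rw [← h1]
    simp only [Equiv.trans_apply, Equiv.symm_apply_apply]
    rfl

theorem c2_of_not_isIsotypic (K : Subgroup (GL (Fin n) F)) (A : Subalgebra F Mat)
    (hK : ActsIrreducibly (matrixSet K)) (hKA : NormAlg K A) (hiso : ¬ IsIsotypic A V) :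
    ∃ (t m : ℕ) (D : Fin t → Submodule F V), IsMDecomposition m D ∧ K ≤ decompositionStabilizer D := by
  by_contra hcon
  apply hiso
  intro m hm m' hm'
  by_contra hne
  exact hcon (c2_core K A hK hKA m m' hne)

end Cfsg.Agent.Lib.Helper38.Asch
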