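import Mathlib
import Cfsg.Prelude.Def_GeometricClasses

/-!
# K-SpMax-Y3a: a plus-type symmetric form on `F^4` (char ≠ 2) has a hyperbolic basis
-/

set_option autoImplicit false
set_option linter.unusedSectionVars false

namespace Cfsg.Agent.Lib.Helper38.SpMax

open Cfsg Cfsg.Geo
open scoped Matrix Kronecker MatrixGroups

variable {F : Type*} [Field F]

/-- the standard hyperbolic Gram matrix on F^4: pairs (0,2) and (1,3) -/
def hypGram4 (F : Type*) [Field F] : Matrix (Fin 4) (Fin 4) F :=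
  !![0, 0, 1, 0; 0, 0, 0, 1; 1, 0, 0, 0; 0, 1, 0, 0]

section Bilin

variable {κ : Type} [Fintype κ] [DecidableEq κ] {f : (κ → F) → (κ → F) → F}

theorem y3_neg_left (hb : IsBilinearForm f) (u w : κ → F) : f (-u) w = - f u w := by
  have := hb.smul_left (-1) u w
  simpa using this

theorem y3_neg_right (hb : IsBilinearForm f) (u w : κ → F) : f u (-w) = - f u w := by
  have := hb.smul_right (-1) u w
  simpa using this

theorem y3_sub_left (hb : IsBilinearForm f) (u v w : κ → F) : f (u - v) w = f u w - f v w := by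
  rw [sub_eq_add_neg, hb.add_left, y3_neg_left hb, ← sub_eq_add_neg]

theorem y3_sub_right (hb : IsBilinearForm f) (u v w : κ → F) : f u (v - w) = f u v - f u w := by
  rw [sub_eq_add_neg, hb.add_right, y3_neg_right hb, ← sub_eq_add_neg]

theorem y3_zero_left (hb : IsBilinearForm f) (w : κ → F) : f 0 w = 0 := by
  have := hb.smul_left 0 0 w
  simpa using this

theorem y3_sum_left (hb : IsBilinearForm f) {ι : Type} (s : Finset ι) (c : ι → F) (v : ι → κ → F) (w : κ → F) :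
    f (∑ i ∈ s, c i • v i) w = ∑ i ∈ s, c i * f (v i) w := by
  classical
  induction s using Finset.induction_on with
  | empty => simp [y3_zero_left hb]
  | insert a s ha ih => rw [Finset.sum_insert ha, Finset.sum_insert ha, hb.add_left, hb.smul_left, ih]

theorem y3_zero_right (hb : IsBilinearForm f) (w : κ → F) : f w 0 = 0 := by
  have := hb.smul_right 0 w 0
  simpa using this

theorem y3_sum_right (hb : IsBilinearForm f) {ι : Type} (s : Finset ι) (c : ι → F) (v : ι → κ → F) (w : κ → F) :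
    f w (∑ i ∈ s, c i • v i) = ∑ i ∈ s, c i * f w (v i) := by
  classical
  induction s using Finset.induction_on with
  | empty => simp [y3_zero_right hb]
  | insert a s ha ih => rw [Finset.sum_insert ha, Finset.sum_insert ha, hb.add_right, hb.smul_right, ih]

/-- a bilinear form is the form of its Gram matrix -/
theorem y3_bilin_eq_gram (hb : IsBilinearForm f) (x y : κ → F) : f x y = x ⬝ᵥ (gramMatrix f *ᵥ y) := by
  have hx : x = ∑ a, x a • (Pi.single a (1 : F) : κ → F) := by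
    ext k
    simp [Finset.sum_apply, Pi.single_apply]
  have hy : y = ∑ a, y a • (Pi.single a (1 : F) : κ → F) := by
    ext k
    simp [Finset.sum_apply, Pi.single_apply]
  conv_lhs => rw [hx, y3_sum_left hb]
  simp only [dotProduct, Matrix.mulVec, gramMatrix]
  apply Finset.sum_congr rfl
  intro a _
  congr 1
  conv_lhs => rw [hy, y3_sum_right hb]
  apply Finset.sum_congr rfl
  intro b _
  ring

end Bilin

theorem exists_hyperbolic_gram (h2 : (2 : F) ≠ 0) (f₂ : (Fin 4 → F) → (Fin 4 → F) → F)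
    (h₂ : IsSymmetricForm f₂) (hplus : IsPlusTypeOn (fun v : Fin 4 → F => f₂ v v) ⊤) :
    ∃ C : GL (Fin 4) F,
      (C : Matrix (Fin 4) (Fin 4) F)ᵀ * gramMatrix f₂ * (C : Matrix (Fin 4) (Fin 4) F) = hypGram4 F := by
  have hb := h₂.bilinear
  have hs := h₂.symm
  obtain ⟨U, -, hU0, hUr⟩ := hplus
  have hUr2 : Module.finrank F U = 2 := by
    have h4 : Module.finrank F (⊤ : Submodule F (Fin 4 → F)) = 4 := by
      rw [finrank_top]; simp
    rw [h4] at hUr
    omega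
  -- (0) the form vanishes on `U`
  have hUU : ∀ u ∈ U, ∀ u' ∈ U, f₂ u u' = 0 := by
    intro u hu u' hu'
    have h1 : f₂ (u + u') (u + u') = 0 := hU0 _ (U.add_mem hu hu')
    have h3 : f₂ u u = 0 := hU0 _ hu
    have h4 : f₂ u' u' = 0 := hU0 _ hu'
    rw [hb.add_left, hb.add_right, hb.add_right, h3, h4, hs u' u] at h1
    have h5 : 2 * f₂ u u' = 0 := by linear_combination h1
    rcases mul_eq_zero.mp h5 with h | h
    · exact absurd h h2
    · exact h
  -- (1) a1, v1, a2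
  have hUne : U ≠ ⊥ := by
    intro h
    rw [h, finrank_bot] at hUr2
    omega
  obtain ⟨a1, ha1U, ha1⟩ := Submodule.exists_mem_ne_zero_of_ne_bot hUne
  obtain ⟨v1, hv1⟩ := (h₂.nondegenerate a1 ha1).2
  have hlt : Submodule.span F {a1} < U := by
    refine lt_of_le_of_ne ((Submodule.span_singleton_le_iff_mem a1 U).mpr ha1U) ?_
    intro h
    have h1 : Module.finrank F (Submodule.span F {a1}) = 1 := finrank_span_singleton ha1
    rw [h, hUr2] at h1
    omega
  obtain ⟨u, huU, hu⟩ := SetLike.exists_of_lt hlt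
  obtain ⟨a2, ha2def⟩ : ∃ x : Fin 4 → F, x = u - (f₂ u v1 / f₂ a1 v1) • a1 := ⟨_, rfl⟩
  have ha2U : a2 ∈ U := by rw [ha2def]; exact U.sub_mem huU (U.smul_mem _ ha1U)
  have ha2 : a2 ≠ 0 := by
    intro h
    apply hu
    have : u = (f₂ u v1 / f₂ a1 v1) • a1 := by rw [ha2def] at h; exact sub_eq_zero.mp h
    rw [this]
    exact Submodule.smul_mem _ _ (Submodule.mem_span_singleton_self a1)
  have ha2v1 : f₂ a2 v1 = 0 := by
    rw [ha2def, y3_sub_left hb, hb.smul_left]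
    field_simp
    ring
  -- (2)
  obtain ⟨v2, hv2⟩ := (h₂.nondegenerate a2 ha2).2
  obtain ⟨v2', hv2'def⟩ : ∃ x : Fin 4 → F, x = v2 - (f₂ a1 v2 / f₂ a1 v1) • v1 := ⟨_, rfl⟩
  have ha1v2' : f₂ a1 v2' = 0 := by
    rw [hv2'def, y3_sub_right hb, hb.smul_right]
    field_simp
    ring
  have ha2v2' : f₂ a2 v2' = f₂ a2 v2 := by
    rw [hv2'def, y3_sub_right hb, hb.smul_right, ha2v1, mul_zero, sub_zero]
  obtain ⟨b1', hb1'def⟩ : ∃ x : Fin 4 → F, x = (f₂ a1 v1)⁻¹ • v1 := ⟨_, rfl⟩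
  obtain ⟨b2', hb2'def⟩ : ∃ x : Fin 4 → F, x = (f₂ a2 v2)⁻¹ • v2' := ⟨_, rfl⟩
  have h11' : f₂ a1 b1' = 1 := by rw [hb1'def, hb.smul_right, inv_mul_cancel₀ hv1]
  have h21' : f₂ a2 b1' = 0 := by rw [hb1'def, hb.smul_right, ha2v1, mul_zero]
  have h12' : f₂ a1 b2' = 0 := by rw [hb2'def, hb.smul_right, ha1v2', mul_zero]
  have h22' : f₂ a2 b2' = 1 := by rw [hb2'def, hb.smul_right, ha2v2', inv_mul_cancel₀ hv2]
  have h_a1a1 : f₂ a1 a1 = 0 := hUU _ ha1U _ ha1U
  have h_a1a2 : f₂ a1 a2 = 0 := hUU _ ha1U _ ha2U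
  have h_a2a1 : f₂ a2 a1 = 0 := hUU _ ha2U _ ha1U
  have h_a2a2 : f₂ a2 a2 = 0 := hUU _ ha2U _ ha2U
  -- (3)
  obtain ⟨b1, hb1def⟩ : ∃ x : Fin 4 → F, x = b1' - (f₂ b1' b1' / 2) • a1 := ⟨_, rfl⟩
  have h11 : f₂ a1 b1 = 1 := by
    rw [hb1def, y3_sub_right hb, hb.smul_right, h_a1a1, h11']; ring
  have h21 : f₂ a2 b1 = 0 := by
    rw [hb1def, y3_sub_right hb, hb.smul_right, h_a2a1, h21']; ring
  have hb1b1 : f₂ b1 b1 = 0 := by
    rw [hb1def, y3_sub_left hb, y3_sub_right hb, y3_sub_right hb, hb.smul_left, hb.smul_right, hb.smul_right,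
      hb.smul_left, h_a1a1, h11', hs b1' a1, h11']
    field_simp
    ring
  obtain ⟨b2, hb2def⟩ : ∃ x : Fin 4 → F, x = b2' - (f₂ b2' b2' / 2) • a2 - (f₂ b1 b2') • a1 := ⟨_, rfl⟩
  have h12 : f₂ a1 b2 = 0 := by
    rw [hb2def, y3_sub_right hb, y3_sub_right hb, hb.smul_right, hb.smul_right, h_a1a1, h_a1a2, h12']; ring
  have h22 : f₂ a2 b2 = 1 := by
    rw [hb2def, y3_sub_right hb, y3_sub_right hb, hb.smul_right, hb.smul_right, h_a2a1, h_a2a2, h22']; ring
  have hb1b2 : f₂ b1 b2 = 0 := by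
    rw [hb2def, y3_sub_right hb, y3_sub_right hb, hb.smul_right, hb.smul_right, hs b1 a2, h21, hs b1 a1, h11]; ring
  have hb2b2 : f₂ b2 b2 = 0 := by
    have key : ∀ w, f₂ b2 w = f₂ b2' w - (f₂ b2' b2' / 2) * f₂ a2 w - (f₂ b1 b2') * f₂ a1 w := by
      intro w
      rw [hb2def, y3_sub_left hb, y3_sub_left hb, hb.smul_left, hb.smul_left]
    have key' : f₂ b2' b2 = f₂ b2' b2' - (f₂ b2' b2' / 2) * f₂ b2' a2 - (f₂ b1 b2') * f₂ b2' a1 := by
      rw [hb2def, y3_sub_right hb, y3_sub_right hb, hb.smul_right, hb.smul_right]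
    rw [key b2, h22, h12, key', hs b2' a2, h22', hs b2' a1, h12']
    field_simp
    ring
  -- (4) the matrix
  let cols : Fin 4 → (Fin 4 → F) := ![a1, a2, b1, b2]
  let C : Matrix (Fin 4) (Fin 4) F := Matrix.of (fun r k => cols k r)
  have hgram : ∀ k l, (Cᵀ * gramMatrix f₂ * C) k l = f₂ (cols k) (cols l) := by
    intro k l
    rw [Matrix.mul_assoc, y3_bilin_eq_gram hb]
    rfl
  have hCGC : Cᵀ * gramMatrix f₂ * C = hypGram4 F := by
    ext k l
    rw [hgram]
    fin_cases k <;> fin_cases l <;>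
      simp [cols, hypGram4, h_a1a1, h_a1a2, h_a2a1, h_a2a2, h11, h21, h12, h22, hb1b1, hb1b2, hb2b2,
        hs b1 a1, hs b1 a2, hs b2 a1, hs b2 a2, hs b2 b1]
  have hHH : hypGram4 F * hypGram4 F = 1 := by
    ext i j
    fin_cases i <;> fin_cases j <;> simp [hypGram4, Matrix.mul_apply, Fin.sum_univ_four]
  have hQC : (hypGram4 F * Cᵀ * gramMatrix f₂) * C = 1 := by
    rw [Matrix.mul_assoc, Matrix.mul_assoc, ← Matrix.mul_assoc Cᵀ, hCGC, hHH]
  have hCQ : C * (hypGram4 F * Cᵀ * gramMatrix f₂) = 1 := mul_eq_one_comm.mp hQC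
  exact ⟨⟨C, _, hCQ, hQC⟩, hCGC⟩

end Cfsg.Agent.Lib.Helper38.SpMax
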