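import Mathlib
import Cfsg.Agent.Lib.Helper74.FCDefs
import Cfsg.Agent.Lib.Helper62.SL25Pres

/-!
# K-S3359-7 : `|Aut SL(2,5)| ≤ 120`

Orbit-stabiliser for the action of `MulAut SL25` on `SL25` at the generator `X5` of order 3:
the orbit lies among the 20 elements of order 3, and an automorphism fixing `X5` is determined by
the image of `Y5`, which is one of 6 elements.
-/

set_option autoImplicit false

namespace Cfsg.Agent.Lib.Helper38.FC

open Cfsg.Agent.Lib.Helper74.FC Cfsg.Agent.Lib.Helper62.SL25Pres

/-- the elements of order 3 -/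
def T3 : Finset SL25 := Finset.univ.filter fun a : SL25 => a ^ 3 = 1 ∧ a ≠ 1

/-- the candidates for the image of `Y5` under an automorphism fixing `X5` -/
def T5 : Finset SL25 := Finset.univ.filter fun b : SL25 =>
  b ^ 5 = 1 ∧ b ≠ 1 ∧ ((X5 * b) ^ 2) ^ 2 = 1 ∧ (X5 * b) ^ 2 ≠ 1

set_option maxRecDepth 100000 in
theorem card_T3 : T3.card = 20 := by decide +kernel

set_option maxRecDepth 100000 in
theorem card_T5 : T5.card = 6 := by decide +kernel

theorem X5_ne_one : X5 ≠ 1 := by
  intro h; have := congrArg Subtype.val h; revert this; decide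

theorem Z5_ne_one : Z5 ≠ 1 := by
  intro h; have := congrArg Subtype.val h; revert this; decide

theorem eq_of_agree (α β : MulAut SL25) (hX : α X5 = β X5) (hY : α Y5 = β Y5) : α = β := by
  have h : (α : SL25 →* SL25) = (β : SL25 →* SL25) := by
    apply MonoidHom.eq_of_eqOn_dense gen_SL25
    intro x hx
    simp only [Set.mem_insert_iff, Set.mem_singleton_iff] at hx
    rcases hx with rfl | rfl | rfl
    · exact hX
    · exact hY
    · show α Z5 = β Z5
      rw [← X5_Y5, map_pow, map_pow, map_mul, map_mul, hX, hY]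
  apply MulEquiv.ext
  intro x
  exact DFunLike.congr_fun h x

theorem card_mulAut_sl25_le : Nat.card (MulAut SL25) ≤ 120 := by
  have h1 : (MulAction.stabilizer (MulAut SL25) X5).index *
      Nat.card (MulAction.stabilizer (MulAut SL25) X5) = Nat.card (MulAut SL25) :=
    Subgroup.index_mul_card _
  have h2 : (MulAction.stabilizer (MulAut SL25) X5).index ≤ 20 := by
    rw [MulAction.index_stabilizer, ← card_T3, ← Set.ncard_coe_finset]
    apply Set.ncard_le_ncard _ (Finset.finite_toSet _)
    rintro _ ⟨α, rfl⟩
    show α X5 ∈ (T3 : Set SL25)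
    simp only [T3, Finset.coe_filter, Finset.mem_univ, true_and, Set.mem_ofPred_eq]
    refine ⟨by rw [← map_pow, X5_pow, map_one], ?_⟩
    intro h
    exact X5_ne_one (by rwa [map_eq_one_iff α α.injective] at h)
  have h3 : Nat.card (MulAction.stabilizer (MulAut SL25) X5) ≤ 6 := by
    have hmem : ∀ α : MulAction.stabilizer (MulAut SL25) X5, (α : MulAut SL25) Y5 ∈ T5 := by
      intro α
      have hα : (α : MulAut SL25) X5 = X5 := α.2
      simp only [T5, Finset.mem_filter, Finset.mem_univ, true_and]
      have hZ : (X5 * (α : MulAut SL25) Y5) ^ 2 = (α : MulAut SL25) Z5 := by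
        rw [← X5_Y5, map_pow, map_mul, hα]
      refine ⟨by rw [← map_pow, Y5_pow, map_one], ?_, ?_, ?_⟩
      · intro h
        exact Y5_ne (by rwa [map_eq_one_iff _ (α : MulAut SL25).injective] at h)
      · rw [hZ, ← map_pow, Z5_pow, map_one]
      · rw [hZ]
        intro h
        exact Z5_ne_one (by rwa [map_eq_one_iff _ (α : MulAut SL25).injective] at h)
    have hinj : Function.Injective
        (fun α : MulAction.stabilizer (MulAut SL25) X5 => (⟨(α : MulAut SL25) Y5, hmem α⟩ : T5)) := by
      intro α β hab
      have hY : (α : MulAut SL25) Y5 = (β : MulAut SL25) Y5 := congrArg Subtype.val hab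
      have hX : (α : MulAut SL25) X5 = (β : MulAut SL25) X5 := by
        rw [show (α : MulAut SL25) X5 = X5 from α.2, show (β : MulAut SL25) X5 = X5 from β.2]
      exact Subtype.ext (eq_of_agree _ _ hX hY)
    have h4 := Nat.card_le_card_of_injective _ hinj
    have h5 : Nat.card (T5 : Finset SL25) = 6 := by
      rw [Nat.card_eq_fintype_card, Fintype.card_coe, card_T5]
    rwa [h5] at h4
  calc Nat.card (MulAut SL25) = (MulAction.stabilizer (MulAut SL25) X5).index *
      Nat.card (MulAction.stabilizer (MulAut SL25) X5) := h1.symm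
    _ ≤ 20 * 6 := Nat.mul_le_mul h2 h3
    _ = 120 := by norm_num

end Cfsg.Agent.Lib.Helper38.FC
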