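import Cfsg.Agent.Lib.Helper21.KRDefs
import Cfsg.Agent.Lib.Helper82.SubsectionBlocks

/-!
Keystone K-S4651-A (KR-A) for S4651 (architect helper21): pure counting,
`|G| (⟨θ,θ⟩ - ⟨θ°,θ⟩) = Σ_{1≠x p-element} |C(x)| ⟨secLin x θ, secLin x θ⟩`.
-/

set_option autoImplicit false
set_option linter.style.haveILetI false
set_option linter.unusedSectionVars false
open Cfsg

namespace Cfsg.Agent.Lib.Helper38.KR

open Cfsg.Agent.Lib.Helper82
open scoped ComplexConjugate

universe u

open Classical in
/-- the counting heart: for every `g`, the number of `x` that are nontrivial `p`-elements with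
`x⁻¹ g` a `p`-regular element of `C(x)` is one if `g` is `p`-singular and zero otherwise. -/
theorem sum_ppart_indicator {G : Type u} [Group G] [Fintype G] {p : ℕ} (hp : p.Prime) (g : G)
    (a : ℂ) :
    (∑ x : G, if ((x ≠ 1 ∧ ∃ k : ℕ, orderOf x = p ^ k) ∧
        (x⁻¹ * g ∈ Subgroup.centralizer ({x} : Set G) ∧ ¬ p ∣ orderOf (x⁻¹ * g))) then a else 0) =
      if p ∣ orderOf g then a else 0 := by
  classical
  by_cases hg : p ∣ orderOf g
  · rw [if_pos hg]
    obtain ⟨w, hw⟩ := exists_isPPart hp g (orderOf_pos g)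
    have key : ∀ x : G, ((x ≠ 1 ∧ ∃ k : ℕ, orderOf x = p ^ k) ∧
        (x⁻¹ * g ∈ Subgroup.centralizer ({x} : Set G) ∧ ¬ p ∣ orderOf (x⁻¹ * g))) ↔ x = w := by
      intro x
      constructor
      · rintro ⟨⟨_, hk⟩, hc, hreg⟩
        have hcomm : Commute x (x⁻¹ * g) := by
          rw [Subgroup.mem_centralizer_iff] at hc
          exact hc x (Set.mem_singleton x)
        have : IsPPart p g x := ⟨x⁻¹ * g, by group, hcomm, hk, hreg⟩
        exact isPPart_unique hp this hw
      · rintro rfl
        obtain ⟨y, hxy, hc, hk, hy⟩ := hw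
        have hy' : x⁻¹ * g = y := by rw [← hxy]; group
        refine ⟨⟨?_, hk⟩, ?_, ?_⟩
        · rintro rfl
          rw [one_mul] at hxy
          rw [← hxy] at hg
          exact hy hg
        · rw [hy', Subgroup.mem_centralizer_iff]
          intro h hh
          rw [Set.mem_singleton_iff] at hh
          rw [hh]; exact hc.eq
        · rw [hy']; exact hy
    simp only [key]
    rw [Finset.sum_ite_eq' Finset.univ w (fun _ => a)]
    simp
  · rw [if_neg hg]
    apply Finset.sum_eq_zero
    intro x _
    rw [if_neg]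
    rintro ⟨⟨hx1, k, hk⟩, hc, hreg⟩
    apply hg
    have hcomm : Commute x (x⁻¹ * g) := by
      rw [Subgroup.mem_centralizer_iff] at hc
      exact hc x (Set.mem_singleton x)
    have hcop : (orderOf x).Coprime (orderOf (x⁻¹ * g)) := by
      rw [hk]
      exact Nat.Coprime.pow_left k ((Nat.Prime.coprime_iff_not_dvd hp).2 hreg)
    have hord := hcomm.orderOf_mul_eq_mul_orderOf_of_coprime hcop
    have hxg : x * (x⁻¹ * g) = g := by group
    rw [hxg] at hord
    rw [hord, hk]
    have hk0 : k ≠ 0 := by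
      rintro rfl
      rw [pow_zero, orderOf_eq_one_iff] at hk
      exact hx1 hk
    exact Dvd.dvd.mul_right (dvd_pow_self p hk0) _

theorem card_mul_inner_sub_eq_sum_sections {G : Type u} [Group G] [Fintype G] {p : ℕ}
    (hp : p.Prime) [∀ x : G, Fintype (Subgroup.centralizer ({x} : Set G))] (θ : G → ℂ) :
    (Nat.card G : ℂ) * (classInner θ θ - classInner (pRegularPart p θ) θ) =
      ∑ᶠ x ∈ {x : G | x ≠ 1 ∧ ∃ k : ℕ, orderOf x = p ^ k},
        (Nat.card (Subgroup.centralizer ({x} : Set G)) : ℂ) *
          classInner (secLin p x θ) (secLin p x θ) := by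
  classical
  have hG : (Nat.card G : ℂ) ≠ 0 := by
    exact_mod_cast (Nat.card_pos (α := G)).ne'
  have hL : (Nat.card G : ℂ) * (classInner θ θ - classInner (pRegularPart p θ) θ)
      = ∑ g : G, if p ∣ orderOf g then θ g * conj (θ g) else 0 := by
    rw [classInner, classInner, ← mul_sub, ← mul_assoc, mul_inv_cancel₀ hG, one_mul,
      ← Finset.sum_sub_distrib]
    apply Finset.sum_congr rfl
    intro g _
    by_cases h : p ∣ orderOf g
    · rw [if_pos h, pRegularPart_of_singular θ h]; ring
    · rw [if_neg h, pRegularPart_of_regular θ h]; ring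
  have hR : ∀ x : G, (Nat.card (Subgroup.centralizer ({x} : Set G)) : ℂ) *
        classInner (secLin p x θ) (secLin p x θ)
      = ∑ y : G, if (y ∈ Subgroup.centralizer ({x} : Set G) ∧ ¬ p ∣ orderOf y)
          then θ (x * y) * conj (θ (x * y)) else 0 := by
    intro x
    have hC : (Nat.card (Subgroup.centralizer ({x} : Set G)) : ℂ) ≠ 0 := by
      exact_mod_cast (Nat.card_pos (α := Subgroup.centralizer ({x} : Set G))).ne'
    rw [classInner, ← mul_assoc, mul_inv_cancel₀ hC, one_mul]
    have h1 : ∀ c : Subgroup.centralizer ({x} : Set G),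
        secLin p x θ c * conj (secLin p x θ c) =
          (fun y : G => if (y ∈ Subgroup.centralizer ({x} : Set G) ∧ ¬ p ∣ orderOf y)
            then θ (x * y) * conj (θ (x * y)) else 0) (c : G) := by
      intro c
      rw [secLin_apply]
      by_cases h : p ∣ orderOf c
      · rw [pRegularPart_of_singular _ h]
        have h' : p ∣ orderOf (c : G) := by rwa [Subgroup.orderOf_coe]
        show (0 : ℂ) * conj 0 = if ((c : G) ∈ Subgroup.centralizer ({x} : Set G) ∧ ¬ p ∣ orderOf (c : G))
            then θ (x * (c : G)) * conj (θ (x * (c : G))) else 0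
        rw [if_neg (fun hh => hh.2 h'), zero_mul]
      · rw [pRegularPart_of_regular _ h]
        have h' : ¬ p ∣ orderOf (c : G) := by rwa [Subgroup.orderOf_coe]
        show secFun x θ c * conj (secFun x θ c) =
          if ((c : G) ∈ Subgroup.centralizer ({x} : Set G) ∧ ¬ p ∣ orderOf (c : G))
            then θ (x * (c : G)) * conj (θ (x * (c : G))) else 0
        rw [if_pos ⟨c.2, h'⟩]
        rfl
    rw [Finset.sum_congr rfl (fun c _ => h1 c)]
    rw [← Finset.sum_subtype (Finset.univ.filter (fun y : G => y ∈ Subgroup.centralizer ({x} : Set G)))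
      (by intro y; simp)
      (fun y : G => if (y ∈ Subgroup.centralizer ({x} : Set G) ∧ ¬ p ∣ orderOf y)
            then θ (x * y) * conj (θ (x * y)) else 0)]
    rw [Finset.sum_filter]
    apply Finset.sum_congr rfl
    intro y _
    by_cases hy : y ∈ Subgroup.centralizer ({x} : Set G)
    · rw [if_pos hy]
    · rw [if_neg hy, if_neg (fun h => hy h.1)]
  rw [hL, finsum_mem_def, finsum_eq_sum_of_fintype]
  have hR' : ∀ x : G, Set.indicator {x : G | x ≠ 1 ∧ ∃ k : ℕ, orderOf x = p ^ k}
      (fun x => (Nat.card (Subgroup.centralizer ({x} : Set G)) : ℂ) *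
          classInner (secLin p x θ) (secLin p x θ)) x
      = ∑ g : G, if ((x ≠ 1 ∧ ∃ k : ℕ, orderOf x = p ^ k) ∧
        (x⁻¹ * g ∈ Subgroup.centralizer ({x} : Set G) ∧ ¬ p ∣ orderOf (x⁻¹ * g)))
          then θ g * conj (θ g) else 0 := by
    intro x
    by_cases hx : x ≠ 1 ∧ ∃ k : ℕ, orderOf x = p ^ k
    · rw [Set.indicator_of_mem (by exact hx), hR x]
      refine Fintype.sum_equiv (Equiv.mulLeft x) _ _ ?_
      intro y
      have e2 : (Equiv.mulLeft x) y = x * y := rfl
      have e1 : x⁻¹ * (x * y) = y := by group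
      rw [e2, e1]
      by_cases hy : (y ∈ Subgroup.centralizer ({x} : Set G) ∧ ¬ p ∣ orderOf y)
      · rw [if_pos hy, if_pos ⟨hx, hy⟩]
      · rw [if_neg hy, if_neg (fun h => hy h.2)]
    · rw [Set.indicator_of_notMem (by exact hx)]
      symm
      apply Finset.sum_eq_zero
      intro g _
      rw [if_neg (fun h => hx h.1)]
  rw [Finset.sum_congr rfl (fun x _ => hR' x), Finset.sum_comm]
  apply Finset.sum_congr rfl
  intro g _
  exact (sum_ppart_indicator hp g (θ g * conj (θ g))).symm

end Cfsg.Agent.Lib.Helper38.KR
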