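import Mathlib
import Cfsg.Agent.Lib.Helper12.SmallSimple
import Cfsg.Agent.Lib.Helper23.SylowEmbed
import Cfsg.Agent.Lib.Helper23.SylowCount
import Cfsg.Agent.Lib.Helper23.SylowPerm

/-!
# K-S0496-T1 : Sylow subgroup of prime order, numerical data of `N_G(P) / C_G(P)`
-/

set_option autoImplicit false

namespace Cfsg.Agent.Lib.Helper38.Small1092

open Subgroup MulAction

theorem sylow_prime_data {G : Type*} [Group G] [Finite G] [IsSimpleGroup G]
    (hG : ¬ IsMulCommutative G)
    (p m : ℕ) [Fact p.Prime] (h : Nat.card G = p * m) (hm : ¬ p ∣ m) (P : Sylow p G) :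
    Nat.card (Sylow p G) * (m / Nat.card (Sylow p G)) = m ∧
    Nat.card (normalizer ((P : Subgroup G) : Set G)) = p * (m / Nat.card (Sylow p G)) ∧
    (centralizer ((P : Subgroup G) : Set G)).relIndex (normalizer ((P : Subgroup G) : Set G)) ∣ p - 1 ∧
    (centralizer ((P : Subgroup G) : Set G)).relIndex (normalizer ((P : Subgroup G) : Set G)) ∣
      m / Nat.card (Sylow p G) ∧
    (centralizer ((P : Subgroup G) : Set G)).relIndex (normalizer ((P : Subgroup G) : Set G)) ≠ 1 ∧
    Nat.card (centralizer ((P : Subgroup G) : Set G)) *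
      (centralizer ((P : Subgroup G) : Set G)).relIndex (normalizer ((P : Subgroup G) : Set G)) =
      p * (m / Nat.card (Sylow p G)) := by
  have hp : p.Prime := Fact.out
  have h' : Nat.card G = p ^ 1 * m := by rw [pow_one]; exact h
  have hP : Nat.card (P : Subgroup G) = p := by
    have := Cfsg.Agent.Lib.Helper23.sylow_card_of_card_eq p 1 m h' hm P
    rwa [pow_one] at this
  have hd : Nat.card (Sylow p G) ∣ m := Cfsg.Agent.Lib.Helper23.card_sylow_dvd_of_card_eq p 1 m h' hm
  set d := Nat.card (Sylow p G) with hd_def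
  have hdpos : 0 < d := Nat.card_pos
  have c1 : d * (m / d) = m := Nat.mul_div_cancel' hd
  have hN := Cfsg.Agent.Lib.Helper23.card_normalizer_mul_card_sylow p P
  rw [← hd_def, h] at hN
  have c2 : Nat.card (normalizer ((P : Subgroup G) : Set G)) = p * (m / d) := by
    apply Nat.eq_of_mul_eq_mul_right hdpos
    rw [hN]
    calc p * m = p * (d * (m / d)) := by rw [c1]
      _ = p * (m / d) * d := by ring
  have c3 := Cfsg.Agent.Lib.Helper23.SylowPerm.relIndex_centralizer_normalizer_dvd_pred p
    (P : Subgroup G) hP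
  have hCk := Cfsg.Agent.Lib.Helper23.SylowPerm.card_centralizer_mul_relIndex (P : Subgroup G)
  set k := (centralizer ((P : Subgroup G) : Set G)).relIndex
    (normalizer ((P : Subgroup G) : Set G)) with hk_def
  have c6 : Nat.card (centralizer ((P : Subgroup G) : Set G)) * k = p * (m / d) := by
    rw [hCk, c2]
  -- `P` is abelian, so `P ≤ C_G(P)`
  have hPC : (P : Subgroup G) ≤ centralizer ((P : Subgroup G) : Set G) := by
    have hcyc : IsCyclic (P : Subgroup G) := isCyclic_of_prime_card hP
    intro x hx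
    rw [mem_centralizer_iff]
    intro y hy
    have := hcyc.isMulCommutative.is_comm.comm (⟨y, hy⟩ : (P : Subgroup G)) ⟨x, hx⟩
    exact congrArg Subtype.val this
  have hpC : p ∣ Nat.card (centralizer ((P : Subgroup G) : Set G)) := by
    have := Subgroup.card_dvd_of_le hPC
    rwa [hP] at this
  have c4 : k ∣ m / d := by
    obtain ⟨c, hc⟩ := hpC
    rw [hc, mul_assoc] at c6
    have := Nat.eq_of_mul_eq_mul_left hp.pos c6
    exact ⟨c, by rw [← this, mul_comm]⟩
  have c5 : k ≠ 1 := by
    intro hk1
    have hle : normalizer ((P : Subgroup G) : Set G) ≤ centralizer ((P : Subgroup G) : Set G) :=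
      Subgroup.relIndex_eq_one.mp hk1
    apply Cfsg.Agent.Lib.Helper12.false_of_normalizer_le_centralizer hG p P hle
    intro hbot
    rw [hbot, Subgroup.card_bot] at hP
    exact hp.one_lt.ne hP
  exact ⟨c1, c2, c3, c4, c5, c6⟩

end Cfsg.Agent.Lib.Helper38.Small1092
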