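import Mathlib
import Cfsg.Agent.Lib.Helper12.SmallSimple
import Cfsg.Agent.Lib.Helper23.SylowEmbed
import Cfsg.Agent.Lib.Helper23.SylowCount
import Cfsg.Agent.Lib.Helper23.SylowPerm
import Cfsg.Agent.Lib.Helper23.SylowPerm2

/-!
# K-S0496-T5 : `|C_G(P)| = 2p`, fixed points of the involution of `C_G(P)` on the Sylow `p`-subgroups
-/

set_option autoImplicit false

namespace Cfsg.Agent.Lib.Helper38.Small1092

open Subgroup MulAction

/-- An involution `t` centralizing a subgroup `P` of odd prime order `p` with `|C_G(P)| = 2p` is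
centralized by `N_G(P)`. -/
theorem normalizer_le_centralizer_involution {G : Type*} [Group G] [Finite G] (p : ℕ) [Fact p.Prime]
    (hp2 : p ≠ 2) (P : Subgroup G) (hP : Nat.card P = p)
    (hC : Nat.card (centralizer (P : Set G)) = 2 * p) (t : G) (htC : t ∈ centralizer (P : Set G))
    (ht2 : t ^ 2 = 1) (ht1 : t ≠ 1) :
    normalizer (P : Set G) ≤ centralizer ({t} : Set G) := by
  have hp : p.Prime := Fact.out
  -- elements of `P` of square one are trivial
  have hodd : ∀ y ∈ P, y ^ 2 = 1 → y = 1 := by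
    intro y hy hy2
    have h1 : orderOf y ∣ 2 := orderOf_dvd_of_pow_eq_one hy2
    have h2 : orderOf y ∣ p := by
      have := Subgroup.orderOf_dvd_natCard P hy
      rwa [hP] at this
    have hcop : Nat.Coprime 2 p := (Nat.coprime_primes Nat.prime_two hp).mpr (Ne.symm hp2)
    have h3 : orderOf y = 1 := Nat.eq_one_of_dvd_coprimes hcop h1 h2
    exact orderOf_eq_one_iff.mp h3
  have hcyc : IsCyclic P := isCyclic_of_prime_card hP
  have hPC : P ≤ centralizer (P : Set G) := by
    intro x hx
    rw [mem_centralizer_iff]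
    intro y hy
    have := hcyc.isMulCommutative.is_comm.comm (⟨y, hy⟩ : P) ⟨x, hx⟩
    exact congrArg Subtype.val this
  -- `P` has index 2 in its centralizer
  have hidx : (P.subgroupOf (centralizer (P : Set G))).index = 2 := by
    have h1 := Subgroup.card_mul_index (P.subgroupOf (centralizer (P : Set G)))
    rw [Nat.card_congr (Subgroup.subgroupOfEquivOfLe hPC).toEquiv, hP, hC] at h1
    have : p * (P.subgroupOf (centralizer (P : Set G))).index = p * 2 := by rw [h1]; ring
    exact Nat.eq_of_mul_eq_mul_left hp.pos this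
  intro g hg
  rw [mem_centralizer_iff]
  intro h hh
  rw [Set.mem_singleton_iff] at hh
  subst hh
  -- `s = g t g⁻¹`
  have hginv : g⁻¹ ∈ normalizer (P : Set G) := inv_mem hg
  have hsC : g * h * g⁻¹ ∈ centralizer (P : Set G) := by
    rw [mem_centralizer_iff]
    intro x hx
    have hx' : g⁻¹ * x * g ∈ P := by
      have := (mem_normalizer_iff.mp hginv x).mp hx
      simpa using this
    have hcomm := mem_centralizer_iff.mp htC _ hx'
    calc x * (g * h * g⁻¹) = g * ((g⁻¹ * x * g) * h) * g⁻¹ := by group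
      _ = g * (h * (g⁻¹ * x * g)) * g⁻¹ := by rw [hcomm]
      _ = g * h * g⁻¹ * x := by group
  have hs2 : (g * h * g⁻¹) ^ 2 = 1 := by
    have : (g * h * g⁻¹) ^ 2 = g * h ^ 2 * g⁻¹ := by
      rw [pow_two, pow_two]; group
    rw [this, ht2]; group
  have hs1 : g * h * g⁻¹ ≠ 1 := by
    intro h1
    apply ht1
    calc h = g⁻¹ * (g * h * g⁻¹) * g := by group
      _ = 1 := by rw [h1]; group
  have htP : h ∉ P := fun hmem => ht1 (hodd h hmem ht2)
  have hsP : g * h * g⁻¹ ∉ P := fun hmem => hs1 (hodd _ hmem hs2)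
  have hprod : g * h * g⁻¹ * h ∈ P := by
    have key := Subgroup.mul_mem_iff_of_index_two hidx
      (a := (⟨g * h * g⁻¹, hsC⟩ : centralizer (P : Set G))) (b := ⟨h, htC⟩)
    rw [mem_subgroupOf, mem_subgroupOf, mem_subgroupOf] at key
    exact key.mpr ⟨fun hmem => absurd hmem hsP, fun hmem => absurd hmem htP⟩
  -- `y = s t` commutes with `t`
  have hyt := mem_centralizer_iff.mp htC _ hprod
  have hh2 : h * h = 1 := by rw [← pow_two]; exact ht2
  have hst : g * h * g⁻¹ * h = h * (g * h * g⁻¹) := by
    calc g * h * g⁻¹ * h = (g * h * g⁻¹ * h * h) * h := by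
          rw [mul_assoc (g * h * g⁻¹) h h, hh2, mul_one]
      _ = (h * (g * h * g⁻¹ * h)) * h := by rw [hyt]
      _ = h * (g * h * g⁻¹) * (h * h) := by group
      _ = h * (g * h * g⁻¹) := by rw [hh2, mul_one]
  have hy2 : (g * h * g⁻¹ * h) ^ 2 = 1 := by
    have hs2' : g * h * g⁻¹ * (g * h * g⁻¹) = 1 := by rw [← pow_two]; exact hs2
    calc (g * h * g⁻¹ * h) ^ 2 = (g * h * g⁻¹ * h) * (g * h * g⁻¹ * h) := pow_two _
      _ = (g * h * g⁻¹ * h) * (h * (g * h * g⁻¹)) := by rw [← hst]
      _ = (g * h * g⁻¹) * (h * h) * (g * h * g⁻¹) := by group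
      _ = 1 := by rw [hh2, mul_one, hs2']
  have hy1 := hodd _ hprod hy2
  -- so `g t g⁻¹ = t⁻¹ = t`
  have : g * h * g⁻¹ = h := by
    calc g * h * g⁻¹ = (g * h * g⁻¹ * h) * h := by
          rw [mul_assoc (g * h * g⁻¹) h h, hh2, mul_one]
      _ = h := by rw [hy1, one_mul]
  calc h * g = (g * h * g⁻¹) * g := by rw [this]
    _ = g * h := by group

theorem exists_fixed_of_card_centralizer_eq_two_mul {G : Type*} [Group G] [Finite G] [IsSimpleGroup G]
    (hG : ¬ IsMulCommutative G) (p m : ℕ) [Fact p.Prime] (hp2 : p ≠ 2) (h : Nat.card G = p * m)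
    (hm : ¬ p ∣ m)
    (P : Sylow p G) (hC : Nat.card (centralizer ((P : Subgroup G) : Set G)) = 2 * p) :
    ∃ f : ℕ, f % p = 1 ∧ f % 4 = Nat.card (Sylow p G) % 4 ∧ f < Nat.card (Sylow p G) ∧
      (p * (f - 1) ≤ Nat.card (Sylow p G) - 1 ∨ f ∣ Nat.card (Sylow p G)) := by
  have hp : p.Prime := Fact.out
  have h' : Nat.card G = p ^ 1 * m := by rw [pow_one]; exact h
  have hPall : ∀ R : Sylow p G, Nat.card (R : Subgroup G) = p := fun R => by
    have := Cfsg.Agent.Lib.Helper23.sylow_card_of_card_eq p 1 m h' hm R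
    rwa [pow_one] at this
  obtain ⟨-, -, hne, -⟩ := Cfsg.Agent.Lib.Helper12.sylow_count_spec hG p 1 m one_pos h' hm
  have hm0 : m ≠ 0 := by rintro rfl; exact hm (dvd_zero p)
  have hp3 : 3 ≤ p := by
    have := hp.two_le
    omega
  have hcard : 2 < Nat.card G := by
    rw [h]
    have : 1 ≤ m := Nat.one_le_iff_ne_zero.mpr hm0
    nlinarith
  -- the involution
  have : Fact (Nat.Prime 2) := ⟨Nat.prime_two⟩
  obtain ⟨t', ht'⟩ := exists_prime_orderOf_dvd_card'
    (G := centralizer ((P : Subgroup G) : Set G)) 2 (by rw [hC]; exact dvd_mul_right 2 p)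
  obtain ⟨t, htC⟩ := t'
  have hto : orderOf t = 2 := by
    rw [← ht']
    exact (Subgroup.orderOf_mk t htC).symm
  have ht2 : t ^ 2 = 1 := by rw [← hto]; exact pow_orderOf_eq_one t
  have ht1 : t ≠ 1 := by
    intro h1
    rw [h1, orderOf_one] at hto
    omega
  refine ⟨Nat.card (fixedBy (Sylow p G) t), ?_, ?_, ?_, ?_⟩
  · have := Cfsg.Agent.Lib.Helper23.SylowPerm.card_fixedBy_modEq_one p P t htC
    rw [Nat.ModEq, Nat.mod_eq_of_lt hp.one_lt] at this
    exact this
  · obtain ⟨s, hs⟩ := Cfsg.Agent.Lib.Helper23.SylowPerm.card_fixedBy_involution p hcard t ht2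
    omega
  · exact Cfsg.Agent.Lib.Helper23.SylowPerm.card_fixedBy_lt p hne t ht1
  · by_cases hbig : p * (Nat.card (fixedBy (Sylow p G) t) - 1) ≤ Nat.card (Sylow p G) - 1
    · exact Or.inl hbig
    · right
      push Not at hbig
      have e1 := Cfsg.Agent.Lib.Helper23.SylowPerm.card_centralized_eq_card_fixedBy_of_lt p hPall t hbig
      have hiff : ∀ R : Sylow p G, t ∈ centralizer ((R : Subgroup G) : Set G) ↔
          (R : Subgroup G) ≤ centralizer ({t} : Set G) := by
        intro R
        constructor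
        · intro h x hx
          rw [mem_centralizer_iff]
          intro y hy
          rw [Set.mem_singleton_iff] at hy
          subst hy
          exact (mem_centralizer_iff.mp h x hx).symm
        · intro h
          rw [mem_centralizer_iff]
          intro x hx
          exact (mem_centralizer_iff.mp (h hx) t (Set.mem_singleton t)).symm
      have e2 : Nat.card {R : Sylow p G // t ∈ centralizer ((R : Subgroup G) : Set G)} =
          Nat.card {R : Sylow p G // (R : Subgroup G) ≤ centralizer ({t} : Set G)} :=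
        Nat.card_congr (Equiv.subtypeEquivRight hiff)
      have hPCt : (P : Subgroup G) ≤ centralizer ({t} : Set G) := (hiff P).mp htC
      have e3 := Cfsg.Agent.Lib.Helper23.SylowPerm.card_sylow_le_eq p _ P hPCt
      have hN_le := normalizer_le_centralizer_involution p hp2 (P : Subgroup G) (hPall P) hC t htC
        ht2 ht1
      have e4 := Cfsg.Agent.Lib.Helper23.card_normalizer_mul_card_sylow p (P.subtype hPCt)
      have e5 : Nat.card (normalizer (((P.subtype hPCt : Sylow p (centralizer ({t} : Set G))) :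
          Subgroup (centralizer ({t} : Set G))) : Set (centralizer ({t} : Set G)))) =
          Nat.card (normalizer ((P : Subgroup G) : Set G)) := by
        rw [Sylow.coe_subtype, ← subgroupOf_normalizer_eq hPCt]
        exact Nat.card_congr (subgroupOfEquivOfLe hN_le).toEquiv
      have e6 := Cfsg.Agent.Lib.Helper23.card_normalizer_mul_card_sylow p P
      have e7 : Nat.card (centralizer ({t} : Set G)) ∣ Nat.card G :=
        Subgroup.card_subgroup_dvd_card _
      rw [← e4, ← e6, e5, ← e3, ← e2, e1] at e7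
      exact Nat.dvd_of_mul_dvd_mul_left Nat.card_pos e7

end Cfsg.Agent.Lib.Helper38.Small1092
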