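import Mathlib
import Cfsg.Agent.Lib.Helper38.PGroup

/-!
# Vaughan-Lee's theorem, Lemma Q

`G` a finite `p`-group generated by the family `x`, `N ⊴ G`:
`|[N, G]| ≤ ∏ i, |N : C_N(x i)|`, the index `|N : C_N(x)|` being counted as the number of
`N`-conjugates of `x`.
-/

set_option autoImplicit false

namespace Cfsg.Agent.Lib.Helper38.VL

open Subgroup
open scoped commutatorElement

universe u v

/-- the `N`-conjugates of `x` -/
def conjSet {G : Type*} [Group G] (N : Subgroup G) (x : G) : Set G :=
  Set.range fun n : N => (n : G) * x * (n : G)⁻¹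

theorem mem_conjSet {G : Type*} [Group G] {N : Subgroup G} {x y : G} :
    y ∈ conjSet N x ↔ ∃ n ∈ N, n * x * n⁻¹ = y := by
  constructor
  · rintro ⟨n, rfl⟩
    exact ⟨n, n.2, rfl⟩
  · rintro ⟨n, hn, rfl⟩
    exact ⟨⟨n, hn⟩, rfl⟩

theorem self_mem_conjSet {G : Type*} [Group G] (N : Subgroup G) (x : G) : x ∈ conjSet N x :=
  mem_conjSet.mpr ⟨1, N.one_mem, by simp⟩

theorem one_le_ncard_conjSet {G : Type*} [Group G] [Finite G] (N : Subgroup G) (x : G) :
    1 ≤ (conjSet N x).ncard :=
  (Set.ncard_pos (Set.toFinite _)).mpr ⟨x, self_mem_conjSet N x⟩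

/-- the conjugates of the image are the images of the conjugates -/
theorem conjSet_map {G H : Type*} [Group G] [Group H] (f : G →* H) (N : Subgroup G) (x : G) :
    conjSet (N.map f) (f x) = f '' conjSet N x := by
  ext y
  rw [mem_conjSet, Set.mem_image]
  constructor
  · rintro ⟨_, ⟨n, hn, rfl⟩, rfl⟩
    exact ⟨n * x * n⁻¹, mem_conjSet.mpr ⟨n, hn, rfl⟩, by simp⟩
  · rintro ⟨_, h, rfl⟩
    obtain ⟨n, hn, rfl⟩ := mem_conjSet.mp h
    exact ⟨f n, mem_map_of_mem f hn, by simp⟩

/-- `[n ^ k, g] = [n, g] ^ k` when `[n, g]` is central -/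
theorem commutatorElement_pow_left {G : Type*} [Group G] {n g : G}
    (h : ⁅n, g⁆ ∈ center G) (k : ℕ) : ⁅n ^ k, g⁆ = ⁅n, g⁆ ^ k := by
  induction k with
  | zero => simp
  | succ k ih =>
    have h1 : ⁅n ^ (k + 1), g⁆ = (n ^ k * ⁅n, g⁆ * (n ^ k)⁻¹) * ⁅n ^ k, g⁆ := by
      simp only [commutatorElement_def, pow_succ]
      group
    have h2 : n ^ k * ⁅n, g⁆ * (n ^ k)⁻¹ = ⁅n, g⁆ := by
      rw [mem_center_iff] at h
      rw [h (n ^ k), mul_inv_cancel_right]
    rw [h1, h2, ih, pow_succ']

/-- cardinality of the image of a subgroup containing the kernel -/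
theorem card_map_mk_mul_card {G : Type*} [Group G] [Finite G] (K : Subgroup G) [K.Normal]
    (L : Subgroup G) (hKL : K ≤ L) :
    Nat.card ↥(L.map (QuotientGroup.mk' K)) * Nat.card K = Nat.card L := by
  have h1 : (L.map (QuotientGroup.mk' K)).index = L.index :=
    Subgroup.index_map_eq L (QuotientGroup.mk'_surjective K) (by rwa [QuotientGroup.ker_mk'])
  have h2 := Subgroup.index_mul_card (L.map (QuotientGroup.mk' K))
  have h3 := Subgroup.index_mul_card L
  have h4 := Subgroup.card_eq_card_quotient_mul_card_subgroup K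
  have h5 : 0 < L.index := Nat.pos_of_ne_zero Subgroup.index_ne_zero_of_finite
  rw [h1] at h2
  have h6 : L.index * (Nat.card ↥(L.map (QuotientGroup.mk' K)) * Nat.card K) =
      L.index * Nat.card L := by
    rw [← mul_assoc, h2, h3, h4]
  exact Nat.eq_of_mul_eq_mul_left h5 h6

theorem lemmaQ_aux (m : ℕ) : ∀ {G : Type u} [Group G] [Finite G] {p : ℕ} [Fact p.Prime],
    IsPGroup p G → Nat.card G = m → ∀ (N : Subgroup G) [N.Normal] {ι : Type v} [Fintype ι]
      (x : ι → G), closure (Set.range x) = ⊤ →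
      Nat.card ↥(⁅N, (⊤ : Subgroup G)⁆ : Subgroup G) ≤ ∏ i, (conjSet N (x i)).ncard := by
  induction m using Nat.strong_induction_on with
  | _ m ih =>
  intro G _ _ p _ hG hm N _ ι _ x hx
  classical
  by_cases hbot : (⁅N, (⊤ : Subgroup G)⁆ : Subgroup G) = ⊥
  · rw [hbot, Subgroup.card_bot]
    exact Nat.one_le_iff_ne_zero.mpr (Finset.prod_ne_zero_iff.mpr fun i _ =>
      Nat.one_le_iff_ne_zero.mp (one_le_ncard_conjSet N (x i)))
  · -- `N` is not central
    have hNZ : ¬ N ≤ center G := by
      intro h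
      apply hbot
      rw [eq_bot_iff, commutator_le]
      intro a ha g _
      rw [mem_bot, commutatorElement_def]
      have := mem_center_iff.mp (h ha) g
      rw [← this, mul_inv_cancel_right, mul_inv_cancel]
    -- an element of `N`, not central, central modulo the centre
    obtain ⟨n, hnN, hnZ, hn2⟩ : ∃ n ∈ N, n ∉ center G ∧ ∀ g : G, ⁅n, g⁆ ∈ center G := by
      have hbar : N.map (QuotientGroup.mk' (center G)) ≠ ⊥ := by
        intro h
        rw [Subgroup.map_eq_bot_iff, QuotientGroup.ker_mk'] at h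
        exact hNZ h
      have : (N.map (QuotientGroup.mk' (center G))).Normal :=
        Subgroup.Normal.map inferInstance _ (QuotientGroup.mk'_surjective _)
      obtain ⟨nb, hnb, hnbZ, hnb1⟩ := Cfsg.Agent.Lib.Helper38.normal_inf_center_ne_bot p
        (hG.to_quotient (center G)) (N.map (QuotientGroup.mk' (center G))) hbar
      obtain ⟨n, hn, rfl⟩ := hnb
      refine ⟨n, hn, ?_, ?_⟩
      · intro h
        apply hnb1
        rw [QuotientGroup.mk'_apply, QuotientGroup.eq_one_iff]
        exact h
      · intro g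
        rw [← QuotientGroup.eq_one_iff, ← QuotientGroup.mk'_apply, map_commutatorElement,
          commutatorElement_def]
        have := mem_center_iff.mp hnbZ ((QuotientGroup.mk' (center G)) g)
        rw [← this, mul_inv_cancel_right, mul_inv_cancel]
    -- a generator not commuting with `n`
    obtain ⟨j, hj⟩ : ∃ j, ⁅n, x j⁆ ≠ 1 := by
      by_contra hcon
      apply hnZ
      have h1 : closure (Set.range x) ≤ centralizer {n} := by
        rw [closure_le]
        rintro _ ⟨i, rfl⟩
        rw [SetLike.mem_coe, mem_centralizer_singleton_iff]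
        have h2 : ⁅n, x i⁆ = 1 := by
          by_contra h3
          exact hcon ⟨i, h3⟩
        rw [commutatorElement_eq_one_iff_mul_comm] at h2
        exact h2.symm
      rw [hx] at h1
      rw [mem_center_iff]
      intro g
      have := h1 (mem_top g)
      rw [mem_centralizer_singleton_iff] at this
      exact this
    -- the central element `z₀` of order `p`
    set z := ⁅n, x j⁆ with hz
    have hzc : z ∈ center G := hn2 (x j)
    have hpz : p ∣ orderOf z := by
      obtain ⟨e, he⟩ := (IsPGroup.iff_orderOf.mp hG) z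
      rw [he]
      rcases Nat.eq_zero_or_pos e with rfl | hepos
      · rw [pow_zero, orderOf_eq_one_iff] at he
        exact absurd he hj
      · exact dvd_pow_self p hepos.ne'
    set k := orderOf z / p with hk
    set z₀ := z ^ k with hz₀
    have hz₀ord : orderOf z₀ = p := orderOf_pow_orderOf_div (orderOf_pos z).ne' hpz
    have hz₀c : z₀ ∈ center G := (center G).pow_mem hzc k
    have hn'N : n ^ k ∈ N := N.pow_mem hnN k
    have hz₀comm : ⁅n ^ k, x j⁆ = z₀ := commutatorElement_pow_left hzc k
    have hz₀c' : ⁅n ^ k, x j⁆ ∈ center G := hz₀comm ▸ hz₀c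
    -- the quotient by `⟨z₀⟩`
    have hZ0le : zpowers z₀ ≤ center G := by rw [zpowers_le]; exact hz₀c
    have hZ0n : (zpowers z₀).Normal := by
      refine ⟨fun a ha g => ?_⟩
      have := mem_center_iff.mp (hZ0le ha) g
      rw [this, mul_inv_cancel_right]
      exact ha
    have hZ0card : Nat.card (zpowers z₀) = p := by rw [Nat.card_zpowers, hz₀ord]
    have hZ0comm : zpowers z₀ ≤ ⁅N, (⊤ : Subgroup G)⁆ := by
      rw [zpowers_le, ← hz₀comm]
      exact commutator_mem_commutator hn'N (mem_top _)
    have hcardq : Nat.card (G ⧸ zpowers z₀) < m := by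
      have h := Subgroup.card_eq_card_quotient_mul_card_subgroup (zpowers z₀)
      rw [hZ0card, hm] at h
      have hp2 : 2 ≤ p := (Fact.out : p.Prime).two_le
      have hpos : 0 < Nat.card (G ⧸ zpowers z₀) := Nat.card_pos
      nlinarith
    have : (N.map (QuotientGroup.mk' (zpowers z₀))).Normal :=
      Subgroup.Normal.map inferInstance _ (QuotientGroup.mk'_surjective _)
    have hxq : closure (Set.range fun i => (QuotientGroup.mk' (zpowers z₀)) (x i)) = ⊤ := by
      have h1 : (Set.range fun i => (QuotientGroup.mk' (zpowers z₀)) (x i)) =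
          (QuotientGroup.mk' (zpowers z₀)) '' Set.range x := by
        rw [← Set.range_comp]
        rfl
      rw [h1, ← MonoidHom.map_closure, hx,
        Subgroup.map_top_of_surjective _ (QuotientGroup.mk'_surjective _)]
    have hIH := ih _ hcardq (hG.to_quotient (zpowers z₀)) rfl
      (N.map (QuotientGroup.mk' (zpowers z₀)))
      (fun i => (QuotientGroup.mk' (zpowers z₀)) (x i)) hxq
    -- the commutator subgroup of the quotient
    have hcq : (⁅N.map (QuotientGroup.mk' (zpowers z₀)), (⊤ : Subgroup (G ⧸ zpowers z₀))⁆ :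
        Subgroup (G ⧸ zpowers z₀)) =
        (⁅N, (⊤ : Subgroup G)⁆ : Subgroup G).map (QuotientGroup.mk' (zpowers z₀)) := by
      rw [map_commutator, Subgroup.map_top_of_surjective _ (QuotientGroup.mk'_surjective _)]
    have hcard1 := card_map_mk_mul_card (zpowers z₀) ⁅N, (⊤ : Subgroup G)⁆ hZ0comm
    rw [hZ0card] at hcard1
    rw [hcq] at hIH
    -- the conjugates
    have hle : ∀ i, (conjSet (N.map (QuotientGroup.mk' (zpowers z₀)))
        ((QuotientGroup.mk' (zpowers z₀)) (x i))).ncard ≤ (conjSet N (x i)).ncard := by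
      intro i
      rw [conjSet_map]
      exact Set.ncard_image_le (Set.toFinite _)
    -- at `j` the number of conjugates drops
    have hdrop : (conjSet (N.map (QuotientGroup.mk' (zpowers z₀)))
        ((QuotientGroup.mk' (zpowers z₀)) (x j))).ncard * p ≤ (conjSet N (x j)).ncard := by
      rw [conjSet_map]
      -- the set of conjugates is stable under multiplication by `⟨z₀⟩`
      have hstab : ∀ w ∈ zpowers z₀, ∀ a ∈ conjSet N (x j), w * a ∈ conjSet N (x j) := by
        intro w hw a ha
        obtain ⟨e, rfl⟩ : ∃ e : ℕ, z₀ ^ e = w := by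
          have hfin : IsOfFinOrder z₀ := isOfFinOrder_of_finite z₀
          have := (hfin.mem_powers_iff_mem_zpowers).mpr hw
          exact (Submonoid.mem_powers_iff _ _).mp this
        obtain ⟨n₁, hn₁, rfl⟩ := mem_conjSet.mp ha
        refine mem_conjSet.mpr ⟨n₁ * (n ^ k) ^ e, N.mul_mem hn₁ (N.pow_mem hn'N e), ?_⟩
        have h1 : ⁅(n ^ k) ^ e, x j⁆ = z₀ ^ e := by
          rw [commutatorElement_pow_left hz₀c' e, hz₀comm]
        have h2 : (n ^ k) ^ e * x j * ((n ^ k) ^ e)⁻¹ = z₀ ^ e * x j := by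
          rw [← h1, commutatorElement_def]
          group
        have h3 : z₀ ^ e ∈ center G := (center G).pow_mem hz₀c e
        calc n₁ * (n ^ k) ^ e * x j * (n₁ * (n ^ k) ^ e)⁻¹
            = n₁ * ((n ^ k) ^ e * x j * ((n ^ k) ^ e)⁻¹) * n₁⁻¹ := by group
          _ = n₁ * (z₀ ^ e * x j) * n₁⁻¹ := by rw [h2]
          _ = z₀ ^ e * (n₁ * x j * n₁⁻¹) := by
              rw [← mul_assoc, mem_center_iff.mp h3 n₁]
              group
      -- an injection `π(S) × ⟨z₀⟩ → S`
      have hex : ∀ b : ↥((QuotientGroup.mk' (zpowers z₀)) '' conjSet N (x j)),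
          ∃ a ∈ conjSet N (x j), (QuotientGroup.mk' (zpowers z₀)) a = b := fun b => b.2
      choose sec hsec1 hsec2 using hex
      let F : ↥((QuotientGroup.mk' (zpowers z₀)) '' conjSet N (x j)) × ↥(zpowers z₀) →
          ↥(conjSet N (x j)) := fun bw => ⟨(bw.2 : G) * sec bw.1, hstab _ bw.2.2 _ (hsec1 bw.1)⟩
      have hF : Function.Injective F := by
        rintro ⟨b, w⟩ ⟨b', w'⟩ h
        have h1 : (w : G) * sec b = (w' : G) * sec b' := congrArg Subtype.val h
        have h2 : (b : G ⧸ zpowers z₀) = b' := by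
          have := congrArg (QuotientGroup.mk' (zpowers z₀)) h1
          rw [map_mul, map_mul, hsec2, hsec2, QuotientGroup.mk'_apply, QuotientGroup.mk'_apply,
            (QuotientGroup.eq_one_iff _).mpr w.2, (QuotientGroup.eq_one_iff _).mpr w'.2,
            one_mul, one_mul] at this
          exact this
        have h3 : b = b' := Subtype.ext h2
        subst h3
        have h4 : (w : G) = w' := mul_right_cancel h1
        rw [Subtype.ext h4]
      have hfin : Finite ↥(conjSet N (x j)) := Set.toFinite _ |>.to_subtype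
      have h := Nat.card_le_card_of_injective F hF
      rw [Nat.card_prod, hZ0card, Nat.card_coe_set_eq, Nat.card_coe_set_eq] at h
      exact h
    -- conclusion
    rw [← hcard1]
    calc Nat.card ↥((⁅N, (⊤ : Subgroup G)⁆ : Subgroup G).map (QuotientGroup.mk' (zpowers z₀))) * p
        ≤ (∏ i, (conjSet (N.map (QuotientGroup.mk' (zpowers z₀)))
            ((QuotientGroup.mk' (zpowers z₀)) (x i))).ncard) * p := Nat.mul_le_mul_right _ hIH
      _ = ((conjSet (N.map (QuotientGroup.mk' (zpowers z₀)))
            ((QuotientGroup.mk' (zpowers z₀)) (x j))).ncard * p) *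
          ∏ i ∈ Finset.univ.erase j, (conjSet (N.map (QuotientGroup.mk' (zpowers z₀)))
            ((QuotientGroup.mk' (zpowers z₀)) (x i))).ncard := by
          rw [← Finset.mul_prod_erase Finset.univ _ (Finset.mem_univ j)]
          ring
      _ ≤ (conjSet N (x j)).ncard * ∏ i ∈ Finset.univ.erase j, (conjSet N (x i)).ncard :=
          Nat.mul_le_mul hdrop (Finset.prod_le_prod' fun i _ => hle i)
      _ = ∏ i, (conjSet N (x i)).ncard :=
          Finset.mul_prod_erase Finset.univ (fun i => (conjSet N (x i)).ncard) (Finset.mem_univ j)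

/-- the number of `N`-conjugates of `x` is `|N : C_N(x)|` -/
theorem ncard_conjSet {G : Type*} [Group G] (N : Subgroup G) (x : G) :
    (conjSet N x).ncard = (centralizer {x}).relIndex N := by
  rw [Subgroup.relIndex, Subgroup.index, ← Nat.card_coe_set_eq]
  symm
  apply Nat.card_congr
  refine Equiv.ofBijective (Quotient.lift
    (fun n : N => (⟨(n : G) * x * (n : G)⁻¹, ⟨n, rfl⟩⟩ : conjSet N x)) ?_) ⟨?_, ?_⟩
  · intro a b hab
    have h : a⁻¹ * b ∈ (centralizer {x}).subgroupOf N := QuotientGroup.leftRel_apply.mp hab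
    rw [mem_subgroupOf, mem_centralizer_singleton_iff] at h
    apply Subtype.ext
    simp only [coe_mul, coe_inv] at h
    show (a : G) * x * (a : G)⁻¹ = (b : G) * x * (b : G)⁻¹
    have h2 : x = (a : G)⁻¹ * (b : G) * x * ((a : G)⁻¹ * (b : G))⁻¹ := by
      rw [h]; group
    calc (a : G) * x * (a : G)⁻¹
        = (a : G) * ((a : G)⁻¹ * (b : G) * x * ((a : G)⁻¹ * (b : G))⁻¹) * (a : G)⁻¹ := by
          rw [← h2]
      _ = (b : G) * x * (b : G)⁻¹ := by group
  · intro qa qb
    induction qa using Quotient.inductionOn with | _ a => ?_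
    induction qb using Quotient.inductionOn with | _ b => ?_
    intro hab
    apply Quotient.sound
    apply QuotientGroup.leftRel_apply.mpr
    rw [mem_subgroupOf, mem_centralizer_singleton_iff]
    have h : (a : G) * x * (a : G)⁻¹ = (b : G) * x * (b : G)⁻¹ := congrArg Subtype.val hab
    simp only [coe_mul, coe_inv]
    calc (a : G)⁻¹ * (b : G) * x = (a : G)⁻¹ * ((b : G) * x * (b : G)⁻¹) * (b : G) := by group
      _ = (a : G)⁻¹ * ((a : G) * x * (a : G)⁻¹) * (b : G) := by rw [h]
      _ = x * ((a : G)⁻¹ * (b : G)) := by group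
  · rintro ⟨_, ⟨n, rfl⟩⟩
    exact ⟨Quotient.mk _ n, rfl⟩

/-- **Lemma Q**, counting conjugates. -/
theorem lemmaQ {G : Type u} [Group G] [Finite G] {p : ℕ} [Fact p.Prime] (hG : IsPGroup p G)
    (N : Subgroup G) [N.Normal] {ι : Type v} [Fintype ι] (x : ι → G)
    (hx : closure (Set.range x) = ⊤) :
    Nat.card ↥(⁅N, (⊤ : Subgroup G)⁆ : Subgroup G) ≤ ∏ i, (conjSet N (x i)).ncard :=
  lemmaQ_aux _ hG rfl N x hx

/-- **Lemma Q**: `|[N, G]| ≤ ∏ i, |N : C_N(x i)|` for a generating family `x` of the finite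
`p`-group `G` and `N ⊴ G`. -/
theorem lemmaQ_relIndex {G : Type u} [Group G] [Finite G] {p : ℕ} [Fact p.Prime]
    (hG : IsPGroup p G) (N : Subgroup G) [N.Normal] {ι : Type v} [Fintype ι] (x : ι → G)
    (hx : closure (Set.range x) = ⊤) :
    Nat.card ↥(⁅N, (⊤ : Subgroup G)⁆ : Subgroup G) ≤
      ∏ i, (centralizer ({x i} : Set G)).relIndex N := by
  have h := lemmaQ hG N x hx
  simp only [ncard_conjSet] at h
  exact h

/-- **Lemma Q** for a finite generating set. -/
theorem lemmaQ_finset {G : Type u} [Group G] [Finite G] {p : ℕ} [Fact p.Prime]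
    (hG : IsPGroup p G) (N : Subgroup G) [N.Normal] (X : Finset G)
    (hX : closure (X : Set G) = ⊤) :
    Nat.card ↥(⁅N, (⊤ : Subgroup G)⁆ : Subgroup G) ≤
      ∏ x ∈ X, (centralizer ({x} : Set G)).relIndex N := by
  have h := lemmaQ_relIndex hG N (fun i : X => (i : G)) (by
    have : Set.range (fun i : X => (i : G)) = (X : Set G) := by
      ext y; simp
    rw [this, hX])
  rw [Finset.prod_coe_sort X (fun y => (centralizer ({y} : Set G)).relIndex N)] at h
  exact h

end Cfsg.Agent.Lib.Helper38.VL

namespace Cfsg.Agent.Lib.Helper38.VLQ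

variable {G : Type*} [Group G] [Finite G] {p : ℕ} [hp : Fact p.Prime]

/-- S3777 keystone K-B (Lemma Q), exact spec signature. -/
theorem card_commutator_top_le_prod (hG : IsPGroup p G) (N : Subgroup G) [N.Normal] (X : Finset G)
    (hX : Subgroup.closure (X : Set G) = ⊤) :
    Nat.card (⁅N, (⊤ : Subgroup G)⁆ : Subgroup G)
      ≤ ∏ x ∈ X, (Subgroup.centralizer ({x} : Set G)).relIndex N :=
  Cfsg.Agent.Lib.Helper38.VL.lemmaQ_finset hG N X hX

end Cfsg.Agent.Lib.Helper38.VLQ
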