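import Mathlib

/-!
# Vaughan-Lee's theorem, Lemma W (Wiegold chain)

`N` normal in the finite `p`-group `G` with `G' ≤ N` and `|G : N| ≤ p ^ k`:
`|G'| ≤ |[N, G]| * p ^ (k (k - 1) / 2)`.
-/

set_option autoImplicit false

namespace Cfsg.Agent.Lib.Helper38.VL

open Subgroup
open scoped commutatorElement

variable {G : Type*} [Group G]

/-- a subgroup containing the derived subgroup is normal -/
theorem normal_of_commutator_le38 {K : Subgroup G} (h : commutator G ≤ K) : K.Normal := by
  refine ⟨fun a ha g => ?_⟩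
  have h1 : ⁅g, a⁆ ∈ commutator G := by
    rw [_root_.commutator_def]
    exact commutator_mem_commutator (mem_top g) (mem_top a)
  have h2 : g * a * g⁻¹ = ⁅g, a⁆ * a := by
    rw [commutatorElement_def]
    group
  rw [h2]
  exact K.mul_mem (h h1) ha

/-- `g c g⁻¹ ≡ c` modulo `[N, G]` for `c ∈ N` -/
theorem conj_mul_inv_mem_commutator {N : Subgroup G} {c : G} (hc : c ∈ N) (g : G) :
    g * c * g⁻¹ * c⁻¹ ∈ ⁅N, (⊤ : Subgroup G)⁆ := by
  rw [commutator_comm]
  exact commutator_mem_commutator (mem_top g) hc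

/-- one step of the Wiegold chain -/
theorem card_commutator_sup_zpowers_le [Finite G] (N : Subgroup G) [N.Normal]
    (hN : commutator G ≤ N) (x : G) :
    Nat.card ↥(⁅N ⊔ zpowers x, (⊤ : Subgroup G)⁆ : Subgroup G) ≤
      Nat.card ↥(⁅N, (⊤ : Subgroup G)⁆ : Subgroup G) * (N ⊔ zpowers x).index := by
  classical
  set M : Subgroup G := ⁅N, (⊤ : Subgroup G)⁆ with hM
  have hMn : M.Normal := by rw [hM]; infer_instance
  -- commutators `[x, g]` lie in `N`
  have hxg : ∀ g : G, ⁅x, g⁆ ∈ N := fun g => hN (by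
    rw [_root_.commutator_def]; exact commutator_mem_commutator (mem_top x) (mem_top g))
  -- images of elements of `N` are central in `G ⧸ M`
  have hcentral : ∀ c ∈ N, ∀ g : G,
      (QuotientGroup.mk (g * c * g⁻¹) : G ⧸ M) = QuotientGroup.mk c := by
    intro c hc g
    rw [QuotientGroup.eq]
    have h := conj_mul_inv_mem_commutator (N := N) (N.inv_mem hc) g
    have h2 : (g * c * g⁻¹)⁻¹ * c = g * c⁻¹ * g⁻¹ * c⁻¹⁻¹ := by group
    rw [h2]
    exact h
  -- the homomorphism `g ↦ [x, g] M`
  let φ : G →* G ⧸ M :=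
    { toFun := fun g => QuotientGroup.mk ⁅x, g⁆
      map_one' := by simp
      map_mul' := by
        intro g h
        have h1 : ⁅x, g * h⁆ = ⁅x, g⁆ * (g * ⁅x, h⁆ * g⁻¹) := by
          simp only [commutatorElement_def]
          group
        rw [h1, QuotientGroup.mk_mul, hcentral _ (hxg h) g] }
  have hφ : ∀ g, φ g = QuotientGroup.mk ⁅x, g⁆ := fun g => rfl
  -- `N ⊔ ⟨x⟩ ≤ ker φ`
  have hker : N ⊔ zpowers x ≤ φ.ker := by
    rw [sup_le_iff]
    constructor
    · intro n hn
      rw [MonoidHom.mem_ker, hφ, QuotientGroup.eq_one_iff, hM, commutator_comm]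
      exact commutator_mem_commutator (mem_top x) hn
    · rw [zpowers_le, MonoidHom.mem_ker, hφ]
      simp
  -- the image of `[N ⊔ ⟨x⟩, G]` lies in the range of `φ`
  have hrange : (⁅N ⊔ zpowers x, (⊤ : Subgroup G)⁆).map (QuotientGroup.mk' M) ≤ φ.range := by
    rw [map_le_iff_le_comap, commutator_le]
    intro a ha g _
    rw [mem_comap]
    have hcomm : ∀ y : G, ⁅y, g⁆ ∈ N := fun y => hN (by
      rw [_root_.commutator_def]; exact commutator_mem_commutator (mem_top y) (mem_top g))
    -- `[x^k, g] ≡ [x, g]^k`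
    have hpow : ∀ k : ℕ, (QuotientGroup.mk' M) ⁅x ^ k, g⁆ = (φ g) ^ k := by
      intro k
      induction k with
      | zero => simp
      | succ k ih =>
        have h1 : ⁅x ^ (k + 1), g⁆ = (x * ⁅x ^ k, g⁆ * x⁻¹) * ⁅x, g⁆ := by
          simp only [commutatorElement_def, pow_succ']
          group
        rw [h1, map_mul, QuotientGroup.mk'_apply, QuotientGroup.mk'_apply,
          hcentral _ (hcomm _) x, ← QuotientGroup.mk'_apply, ih, pow_succ, hφ]
    have hinv : ∀ y : G, (QuotientGroup.mk' M) ⁅y, g⁆ ∈ φ.range →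
        (QuotientGroup.mk' M) ⁅y⁻¹, g⁆ ∈ φ.range := by
      intro y hy
      have h1 : ⁅y⁻¹, g⁆ = y⁻¹ * ⁅y, g⁆⁻¹ * y⁻¹⁻¹ := by
        simp only [commutatorElement_def]
        group
      rw [h1, QuotientGroup.mk'_apply, hcentral _ (N.inv_mem (hcomm y)) y⁻¹,
        QuotientGroup.mk_inv]
      exact inv_mem hy
    have hz : ∀ z ∈ zpowers x, (QuotientGroup.mk' M) ⁅z, g⁆ ∈ φ.range := by
      intro z hz
      obtain ⟨k, rfl⟩ := mem_zpowers_iff.mp hz
      rcases Int.eq_nat_or_neg k with ⟨m, rfl | rfl⟩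
      · rw [zpow_natCast, hpow]
        exact (φ.range).pow_mem ⟨g, rfl⟩ _
      · rw [zpow_neg, zpow_natCast]
        apply hinv
        rw [hpow]
        exact (φ.range).pow_mem ⟨g, rfl⟩ _
    rw [← SetLike.mem_coe, normal_mul, Set.mem_mul] at ha
    obtain ⟨n, hn, z, hz', rfl⟩ := ha
    have h1 : ⁅n * z, g⁆ = (n * ⁅z, g⁆ * n⁻¹) * ⁅n, g⁆ := by
      simp only [commutatorElement_def]
      group
    have h2 : ⁅n, g⁆ ∈ M := by
      rw [hM]; exact commutator_mem_commutator hn (mem_top g)
    rw [h1, map_mul, QuotientGroup.mk'_apply, QuotientGroup.mk'_apply,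
      hcentral _ (hcomm z) n, (QuotientGroup.eq_one_iff _).mpr h2, mul_one,
      ← QuotientGroup.mk'_apply]
    exact hz z hz'
  -- counting
  set L : Subgroup G := ⁅N ⊔ zpowers x, (⊤ : Subgroup G)⁆ with hL
  have hc1 : Nat.card L ≤ Nat.card M * Nat.card (L.map (QuotientGroup.mk' M)) := by
    -- the restriction of `mk' M` to `L`
    let ψ : L →* G ⧸ M := (QuotientGroup.mk' M).comp L.subtype
    have h1 : Nat.card L = Nat.card ψ.ker * Nat.card ψ.range := by
      rw [← Subgroup.index_ker, mul_comm, Subgroup.index_mul_card]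
    have h2 : ψ.range = L.map (QuotientGroup.mk' M) := by
      rw [MonoidHom.range_comp, Subgroup.range_subtype]
    have h3 : Nat.card ψ.ker ≤ Nat.card M := by
      apply Nat.card_le_card_of_injective (fun a : ψ.ker => (⟨(a : L), by
        have := a.2
        rw [MonoidHom.mem_ker, MonoidHom.comp_apply, QuotientGroup.mk'_apply,
          QuotientGroup.eq_one_iff] at this
        exact this⟩ : M))
      intro a b hab
      have := congrArg Subtype.val hab
      exact Subtype.ext (Subtype.ext this)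
    rw [h1, h2]
    exact Nat.mul_le_mul_right _ h3
  have hc2 : Nat.card (L.map (QuotientGroup.mk' M)) ≤ (N ⊔ zpowers x).index := by
    calc Nat.card (L.map (QuotientGroup.mk' M)) ≤ Nat.card φ.range :=
          Subgroup.card_le_of_le hrange
      _ = φ.ker.index := (Subgroup.index_ker φ).symm
      _ ≤ (N ⊔ zpowers x).index :=
          Nat.le_of_dvd (Nat.pos_of_ne_zero Subgroup.index_ne_zero_of_finite)
            (Subgroup.index_dvd_of_le hker)
  exact hc1.trans (Nat.mul_le_mul_left _ hc2)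

/-- **Lemma W** (Wiegold chain): `N ⊴ G` with `G' ≤ N` and `|G : N| ≤ p ^ k` in a finite
`p`-group: `|G'| ≤ |[N, G]| * p ^ (k (k - 1) / 2)`. -/
theorem wiegold_chain [Finite G] {p : ℕ} [Fact p.Prime] (hG : IsPGroup p G) :
    ∀ (k : ℕ) (N : Subgroup G) [N.Normal], commutator G ≤ N → N.index ≤ p ^ k →
      Nat.card ↥(commutator G) ≤
        Nat.card ↥(⁅N, (⊤ : Subgroup G)⁆ : Subgroup G) * p ^ (k * (k - 1) / 2) := by
  have hp : 0 < p := (Fact.out : p.Prime).pos
  have htop : ∀ e : ℕ, Nat.card ↥(commutator G) ≤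
      Nat.card ↥(⁅(⊤ : Subgroup G), (⊤ : Subgroup G)⁆ : Subgroup G) * p ^ e := by
    intro e
    rw [← _root_.commutator_def]
    exact Nat.le_mul_of_pos_right _ (pow_pos hp e)
  intro k
  induction k with
  | zero =>
    intro N _ _ hidx
    have h1 : N.index = 1 := by
      have := Nat.pos_of_ne_zero (Subgroup.index_ne_zero_of_finite (H := N))
      simp at hidx
      omega
    rw [Subgroup.index_eq_one] at h1
    subst h1
    exact htop _
  | succ k ih =>
    intro N _ hN hidx
    by_cases hNtop : N = ⊤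
    · subst hNtop
      exact htop _
    · obtain ⟨x, hx⟩ : ∃ x : G, x ∉ N := by
        by_contra hcon
        apply hNtop
        rw [eq_top_iff]
        intro y _
        by_contra hy
        exact hcon ⟨y, hy⟩
      have hle : N ≤ N ⊔ zpowers x := le_sup_left
      have hn' : (N ⊔ zpowers x).Normal := normal_of_commutator_le38 (hN.trans hle)
      -- the index drops by at least `p`
      have hrel : p ≤ N.relIndex (N ⊔ zpowers x) := by
        obtain ⟨e, he⟩ := (hG.to_subgroup (N ⊔ zpowers x)).index (N.subgroupOf (N ⊔ zpowers x))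
        have he' : N.relIndex (N ⊔ zpowers x) = p ^ e := he
        rw [he']
        rcases Nat.eq_zero_or_pos e with rfl | hepos
        · exfalso
          rw [pow_zero, Subgroup.relIndex_eq_one] at he'
          exact hx (he' (le_sup_right (a := N) (mem_zpowers x)))
        · calc p = p ^ 1 := (pow_one p).symm
            _ ≤ p ^ e := Nat.pow_le_pow_right hp hepos
      have hmul := Subgroup.relIndex_mul_index hle
      have hidx' : (N ⊔ zpowers x).index ≤ p ^ k := by
        have h1 : p * (N ⊔ zpowers x).index ≤ p * p ^ k := by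
          calc p * (N ⊔ zpowers x).index ≤ N.relIndex (N ⊔ zpowers x) * (N ⊔ zpowers x).index :=
                Nat.mul_le_mul_right _ hrel
            _ = N.index := hmul
            _ ≤ p ^ (k + 1) := hidx
            _ = p * p ^ k := pow_succ' p k
        exact Nat.le_of_mul_le_mul_left h1 hp
      have h1 := ih (N ⊔ zpowers x) (hN.trans hle) hidx'
      have h2 := card_commutator_sup_zpowers_le N hN x
      have hexp : (k + 1) * (k + 1 - 1) / 2 = k * (k - 1) / 2 + k := by
        rw [← Nat.choose_two_right, ← Nat.choose_two_right, Nat.choose_succ_succ' k 1,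
          Nat.choose_one_right]
        ring
      rw [hexp, pow_add]
      calc Nat.card ↥(commutator G)
          ≤ Nat.card ↥(⁅N ⊔ zpowers x, (⊤ : Subgroup G)⁆ : Subgroup G) * p ^ (k * (k - 1) / 2) := h1
        _ ≤ (Nat.card ↥(⁅N, (⊤ : Subgroup G)⁆ : Subgroup G) * (N ⊔ zpowers x).index) *
              p ^ (k * (k - 1) / 2) := Nat.mul_le_mul_right _ h2
        _ ≤ (Nat.card ↥(⁅N, (⊤ : Subgroup G)⁆ : Subgroup G) * p ^ k) * p ^ (k * (k - 1) / 2) :=
            Nat.mul_le_mul_right _ (Nat.mul_le_mul_left _ hidx')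
        _ = Nat.card ↥(⁅N, (⊤ : Subgroup G)⁆ : Subgroup G) * (p ^ (k * (k - 1) / 2) * p ^ k) := by
            ring

end Cfsg.Agent.Lib.Helper38.VL

namespace Cfsg.Agent.Lib.Helper38.VLW

variable {G : Type*} [Group G] [Finite G] {p : ℕ} [hp : Fact p.Prime]

/-- S3777 keystone K-C (Lemma W), exact spec signature. -/
theorem card_commutator_le_mul_pow (hG : IsPGroup p G) (N : Subgroup G) [N.Normal]
    (hN : commutator G ≤ N) (k : ℕ) (hk : N.index ≤ p ^ k) :
    Nat.card (commutator G)
      ≤ Nat.card (⁅N, (⊤ : Subgroup G)⁆ : Subgroup G) * p ^ (k * (k - 1) / 2) :=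
  Cfsg.Agent.Lib.Helper38.VL.wiegold_chain hG k N hN hk

end Cfsg.Agent.Lib.Helper38.VLW
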