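import Mathlib
import Cfsg.Prelude.Def_Local
import Cfsg.Prelude.Def_EvenType

set_option autoImplicit false

namespace Cfsg.Agent.Lib.Helper38

open Cfsg

theorem map_center_mulEquiv {H H' : Type*} [Group H] [Group H'] (e : H ≃* H') :
    (Subgroup.center H).map e.toMonoidHom = Subgroup.center H' := by
  ext x
  constructor
  · rintro ⟨z, hz, rfl⟩
    rw [SetLike.mem_coe, Subgroup.mem_center_iff] at hz
    rw [Subgroup.mem_center_iff]
    intro g
    obtain ⟨g', rfl⟩ := e.surjective g
    show e g' * e z = e z * e g'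
    rw [← map_mul, ← map_mul, hz g']
  · intro hx
    refine ⟨e.symm x, ?_, by simp⟩
    rw [Subgroup.mem_center_iff] at hx
    rw [SetLike.mem_coe, Subgroup.mem_center_iff]
    intro g
    apply e.injective
    rw [map_mul, map_mul, e.apply_symm_apply]
    exact hx (e g)

theorem isQuasisimple_of_mulEquiv {H H' : Type*} [Group H] [Group H'] (e : H ≃* H')
    (h : IsQuasisimple H) : IsQuasisimple H' := by
  obtain ⟨hp, hs⟩ := h
  refine ⟨?_, ?_⟩
  · have := hp
    exact Group.IsPerfect.ofSurjective (f := e.toMonoidHom) e.surjective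
  · let q : H ⧸ Subgroup.center H ≃* H' ⧸ Subgroup.center H' :=
      QuotientGroup.congr (Subgroup.center H) (Subgroup.center H') e (map_center_mulEquiv e)
    have := hs
    exact q.symm.isSimpleGroup

theorem pRankAtLeast_of_subgroup {G : Type*} [Group G] (p k : ℕ) (H : Subgroup G)
    (h : Cfsg.PRankAtLeast p k ↥H) : Cfsg.PRankAtLeast p k G := by
  obtain ⟨A, hAc, hAe, hAcard⟩ := h
  refine ⟨A.map H.subtype, ?_, ?_, ?_⟩
  · constructor
    constructor
    rintro ⟨a, ha⟩ ⟨b, hb⟩
    obtain ⟨a', ha', rfl⟩ := ha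
    obtain ⟨b', hb', rfl⟩ := hb
    have := hAc.is_comm.comm ⟨a', ha'⟩ ⟨b', hb'⟩
    apply Subtype.ext
    have h2 := congrArg (fun x : ↥A => ((x : ↥H) : G)) this
    simpa using h2
  · rintro a ⟨a', ha', rfl⟩
    have := hAe a' ha'
    simpa using congrArg (fun x : ↥H => (x : G)) this
  · have : Nat.card ↥(A.map H.subtype) = Nat.card ↥A :=
      Nat.card_congr (A.equivMapOfInjective H.subtype H.subtype_injective).symm.toEquiv
    rw [this]; exact hAcard

end Cfsg.Agent.Lib.Helper38
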