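import Mathlib
import Cfsg.Prelude.Def_Local
import Cfsg.Agent.Lib.Helper38.Basic

set_option autoImplicit false

namespace Cfsg.Agent.Lib.Helper38

open Cfsg

variable {G G' : Type*} [Group G] [Group G']

theorem isComponent_map_equiv (e : G ≃* G') (K : Subgroup G) (h : IsComponent K) :
    IsComponent (K.map e.toMonoidHom) := by
  obtain ⟨hs, hq⟩ := h
  refine ⟨hs.map e.surjective, ?_⟩
  exact isQuasisimple_of_mulEquiv (K.equivMapOfInjective e.toMonoidHom e.injective) hq

theorem map_layer_le (e : G ≃* G') : (layer G).map e.toMonoidHom ≤ layer G' := by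
  unfold layer
  rw [Subgroup.map_le_iff_le_comap]
  apply sSup_le
  intro K hK
  rw [← Subgroup.map_le_iff_le_comap]
  exact le_sSup (isComponent_map_equiv e K hK)

theorem map_symm_map (e : G ≃* G') (H : Subgroup G') :
    (H.map e.symm.toMonoidHom).map e.toMonoidHom = H := by
  ext x
  constructor
  · rintro ⟨y, ⟨z, hz, rfl⟩, rfl⟩
    simpa using hz
  · intro hx
    exact ⟨e.symm x, ⟨x, hx, rfl⟩, by simp⟩

theorem map_layer (e : G ≃* G') : (layer G).map e.toMonoidHom = layer G' := by
  apply le_antisymm (map_layer_le e)
  have h := map_layer_le e.symm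
  have h2 := Subgroup.map_mono (f := e.toMonoidHom) h
  rwa [map_symm_map] at h2

theorem map_fittingSubgroup_le (e : G ≃* G') :
    (fittingSubgroup G).map e.toMonoidHom ≤ fittingSubgroup G' := by
  unfold fittingSubgroup
  rw [Subgroup.map_le_iff_le_comap]
  apply sSup_le
  intro K hK
  rw [← Subgroup.map_le_iff_le_comap]
  obtain ⟨hn, hnil⟩ := hK
  apply le_sSup
  refine ⟨hn.map e.toMonoidHom e.surjective, ?_⟩
  have : Group.IsNilpotent ↥K := hnil
  exact (Group.isNilpotent_congr (K.equivMapOfInjective e.toMonoidHom e.injective)).mp this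

theorem map_fittingSubgroup (e : G ≃* G') :
    (fittingSubgroup G).map e.toMonoidHom = fittingSubgroup G' := by
  apply le_antisymm (map_fittingSubgroup_le e)
  have h := map_fittingSubgroup_le e.symm
  have h2 := Subgroup.map_mono (f := e.toMonoidHom) h
  rwa [map_symm_map] at h2

theorem map_generalizedFittingSubgroup (e : G ≃* G') :
    (generalizedFittingSubgroup G).map e.toMonoidHom = generalizedFittingSubgroup G' := by
  unfold generalizedFittingSubgroup
  rw [Subgroup.map_sup, map_layer, map_fittingSubgroup]

theorem normal_of_map_conj_eq (H : Subgroup G)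
    (h : ∀ g : G, H.map (MulAut.conj g).toMonoidHom = H) : H.Normal := by
  constructor
  intro n hn g
  rw [← h g]
  exact ⟨n, hn, rfl⟩

instance layer_normal : (layer G).Normal :=
  normal_of_map_conj_eq _ (fun g => map_layer (MulAut.conj g))

instance fittingSubgroup_normal : (fittingSubgroup G).Normal :=
  normal_of_map_conj_eq _ (fun g => map_fittingSubgroup (MulAut.conj g))

instance generalizedFittingSubgroup_normal : (generalizedFittingSubgroup G).Normal :=
  normal_of_map_conj_eq _ (fun g => map_generalizedFittingSubgroup (MulAut.conj g))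

instance generalizedFittingSubgroup_characteristic : (generalizedFittingSubgroup G).Characteristic := by
  rw [Subgroup.characteristic_iff_map_eq]
  intro ϕ
  exact map_generalizedFittingSubgroup ϕ

theorem fittingSubgroup_le_generalizedFittingSubgroup :
    fittingSubgroup G ≤ generalizedFittingSubgroup G := le_sup_right

theorem layer_le_generalizedFittingSubgroup :
    layer G ≤ generalizedFittingSubgroup G := le_sup_left

open scoped IsMulCommutative in
/-- A central element lies in the Fitting subgroup. -/
theorem mem_fittingSubgroup_of_mem_center (z : G) (hz : z ∈ Subgroup.center G) :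
    z ∈ fittingSubgroup G := by
  have hle : Subgroup.center G ≤ fittingSubgroup G := by
    apply le_sSup
    refine ⟨inferInstance, ?_⟩
    exact CommGroup.isNilpotent (G := ↥(Subgroup.center G))
  exact hle hz

end Cfsg.Agent.Lib.Helper38
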