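import Mathlib
import Cfsg.Prelude.Def_Classification2

set_option autoImplicit false

namespace Cfsg.Agent.Lib.Helper38

open Cfsg

/-- Being isomorphic to a fixed group transfers along an isomorphism of the source. -/
theorem nonempty_mulEquiv_congr {G H X : Type*} [Group G] [Group H] [Group X] (e : G ≃* H) :
    Nonempty (G ≃* X) ↔ Nonempty (H ≃* X) :=
  ⟨fun ⟨f⟩ => ⟨e.symm.trans f⟩, fun ⟨f⟩ => ⟨e.trans f⟩⟩

theorem isSporadicGroup_congr {G H : Type*} [Group G] [Group H] (e : G ≃* H) :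
    IsSporadicGroup G ↔ IsSporadicGroup H := by
  unfold IsSporadicGroup Spor.IsoM11 Spor.IsoM12 Spor.IsoM22 Spor.IsoM23 Spor.IsoM24
    Spor.IsoJ1 Spor.IsoJ2 Spor.IsoJ3 Spor.IsoJ4 Spor.IsoCo1 Spor.IsoCo2 Spor.IsoCo3 Spor.IsoMcL
    Spor.IsoHS Spor.IsoSuz Spor.IsoHe Spor.IsoRu Spor.IsoON Spor.IsoLy Spor.IsoFi22 Spor.IsoFi23
    Spor.IsoFi24' Spor.IsoHN Spor.IsoTh Spor.IsoB Spor.IsoM
  simp only [nonempty_mulEquiv_congr e]

theorem isExceptionalLieType_congr {G H : Type*} [Group G] [Group H] (e : G ≃* H) :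
    IsExceptionalLieType G ↔ IsExceptionalLieType H := by
  unfold IsExceptionalLieType Lie.IsoChevG2 Lie.IsoF4 Lie.IsoChevE6 Lie.IsoE7 Lie.IsoE8
    Lie.Iso2E6 Lie.Iso3D4 Lie.IsoSuzuki Lie.IsoRee Lie.Iso2F4 Lie.IsoTits
    Lie.ChevalleyDatum.IsGroupOver
  simp only [nonempty_mulEquiv_congr e]

/-- The list of known simple groups is invariant under isomorphism. -/
theorem isKnownSimple'_congr {G H : Type*} [Group G] [Group H] (e : G ≃* H) :
    IsKnownSimple' G ↔ IsKnownSimple' H := by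
  unfold IsKnownSimple'
  rw [isSporadicGroup_congr e, isExceptionalLieType_congr e]
  unfold IsPrimeCyclic IsAlternating IsPSL IsPSp IsPSU IsPOmegaOdd IsPOmegaPlus IsPOmegaMinus
  simp only [nonempty_mulEquiv_congr e, Nat.card_congr e.toEquiv]

theorem isKnownSimple'_of_mulEquiv {G H : Type*} [Group G] [Group H] (e : G ≃* H)
    (h : IsKnownSimple' G) : IsKnownSimple' H :=
  (isKnownSimple'_congr e).mp h

end Cfsg.Agent.Lib.Helper38
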