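import Mathlib
import Cfsg.Prelude.Def_Classification2
import Cfsg.Agent.Lib.Helper29.PCore
import Cfsg.Agent.Lib.Helper38.KnownSimple

set_option autoImplicit false

namespace Cfsg.Agent.Lib.Helper38

open Cfsg

/-- The simple quotient of a quasisimple group is not commutative. -/
theorem not_isMulCommutative_quotient_center {K : Type*} [Group K] (hK : IsQuasisimple K) :
    ¬ IsMulCommutative (K ⧸ Subgroup.center K) := by
  obtain ⟨hperf, hsimp⟩ := hK
  have := hperf
  have := hsimp
  exact Group.IsPerfect.not_isMulCommutative (K ⧸ Subgroup.center K)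

/-- The centre of a component of a finite group with trivial `p'`-core is a `p`-group. -/
theorem center_isPGroup_of_isComponent {X : Type*} [Group X] [Finite X] (p : ℕ) [hp : Fact p.Prime]
    (hX : pPrimeCore p X = ⊥) (K : Subgroup X) (hK : IsComponent K) :
    IsPGroup p (Subgroup.center K) := by
  obtain ⟨hsn, _⟩ := hK
  intro z
  have hpos : orderOf (z : K) ≠ 0 := (orderOf_pos (z : K)).ne'
  obtain ⟨a, b, hb, hab⟩ := Nat.exists_eq_pow_mul_and_not_dvd hpos p hp.out.ne_one
  refine ⟨a, ?_⟩
  -- `w = z ^ (p ^ a)` has order `b`, prime to `p`.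
  set w : K := (z : K) ^ (p ^ a) with hw
  have hwc : w ∈ Subgroup.center K := Subgroup.pow_mem _ z.2 _
  have hordw : orderOf w = b := by
    rw [hw, orderOf_pow' _ (pow_ne_zero _ hp.out.ne_zero), hab, Nat.gcd_eq_right (dvd_mul_right _ _)]
    exact Nat.mul_div_cancel_left b (pow_pos hp.out.pos a)
  have hWn : (Subgroup.zpowers w).Normal := by
    constructor
    intro n hn g
    have hnc : n ∈ Subgroup.center K := by
      obtain ⟨k, rfl⟩ := Subgroup.mem_zpowers_iff.mp hn
      exact Subgroup.zpow_mem _ hwc k
    have : g * n * g⁻¹ = n := by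
      rw [Subgroup.mem_center_iff] at hnc
      rw [hnc g, mul_inv_cancel_right]
    rw [this]; exact hn
  have hWsn : ((Subgroup.zpowers w).map K.subtype).IsSubnormal :=
    (hWn.isSubnormal).trans' hsn
  have hcard : Nat.card ((Subgroup.zpowers w).map K.subtype) = b := by
    rw [Subgroup.card_map_of_injective K.subtype_injective, Nat.card_zpowers, hordw]
  have hcop : (Nat.card ((Subgroup.zpowers w).map K.subtype)).Coprime p := by
    rw [hcard]
    exact ((Nat.Prime.coprime_iff_not_dvd hp.out).mpr hb).symm
  have hle := Cfsg.Agent.Lib.Helper29.subnormal_le_pPrimeCore p _ hWsn hcop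
  rw [hX, le_bot_iff] at hle
  have hw1 : w = 1 := by
    have : (Subgroup.zpowers w) = ⊥ := by
      rw [← Subgroup.map_eq_bot_iff_of_injective _ K.subtype_injective]; exact hle
    exact Subgroup.zpowers_eq_bot.mp this
  apply Subtype.ext
  rw [Subgroup.coe_pow, Subgroup.coe_one]
  exact hw1

/-- In a `K`-group (relative to the list of known simple groups), the simple quotient of every
quasisimple subgroup of a quotient of a subgroup is a known simple group. -/
theorem isKnownSimple'_quotient_center_of_section {G : Type*} [Group G] (hG : IsKGroup G)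
    (N : Subgroup G) [N.Normal] (K : Subgroup (G ⧸ N)) (hK : IsQuasisimple K) :
    IsKnownSimple' (↥K ⧸ Subgroup.center ↥K) := by
  have hsimp : IsSimpleGroup (↥K ⧸ Subgroup.center ↥K) := hK.2
  set f : ↥(K.comap (QuotientGroup.mk' N)) →* ↥K := (QuotientGroup.mk' N).subgroupComap K with hf
  have hfs : Function.Surjective f :=
    MonoidHom.subgroupComap_surjective_of_surjective _ _ (QuotientGroup.mk'_surjective N)
  set φ : ↥(K.comap (QuotientGroup.mk' N)) →* (↥K ⧸ Subgroup.center ↥K) :=
    (QuotientGroup.mk' (Subgroup.center ↥K)).comp f with hφ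
  have hφs : Function.Surjective φ :=
    (QuotientGroup.mk'_surjective _).comp hfs
  let e : (↥(K.comap (QuotientGroup.mk' N)) ⧸ φ.ker) ≃* (↥K ⧸ Subgroup.center ↥K) :=
    QuotientGroup.quotientKerEquivOfSurjective φ hφs
  have h1 : IsSimpleGroup (↥(K.comap (QuotientGroup.mk' N)) ⧸ φ.ker) := e.isSimpleGroup
  have h2 : ¬ IsMulCommutative (↥(K.comap (QuotientGroup.mk' N)) ⧸ φ.ker) := by
    intro hc
    apply not_isMulCommutative_quotient_center hK
    refine ⟨⟨fun a b => ?_⟩⟩
    have := hc.is_comm.comm (e.symm a) (e.symm b)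
    have := congrArg e this
    simpa using this
  exact isKnownSimple'_of_mulEquiv e (hG _ φ.ker h1 h2)

end Cfsg.Agent.Lib.Helper38
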