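import Mathlib
import Cfsg.Prelude.Def_Involutions
import Cfsg.Prelude.Def_LieExceptional
import Cfsg.Agent.Lib.Helper60.AICDefs
import Cfsg.Agent.Lib.Helper28.StronglyEmbedded
import Cfsg.Agent.Lib.Helper15.Lifting

/-!
# S2202, keystone K-D: the quotient by the core of `N_G(S)`

`G` a finite group in which every involution has an abelian centralizer, `S` a noncyclic,
non-normal Sylow 2-subgroup, `H = N_G(S)`, `N` the core of `H`.  If `N ≠ 1` then `G ⧸ N` is a
smaller group with the same hypotheses and the conclusion lifts from `G ⧸ N` to `G`.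
-/

set_option autoImplicit false

namespace Cfsg.Agent.Lib.Helper38.AIC

open Subgroup Cfsg Cfsg.Agent.Lib.Helper60.AIC Cfsg.Agent.Lib.Helper41 Cfsg.Agent.Lib.Helper28

universe u

variable {G : Type u} [Group G] [Finite G]

omit [Finite G] in
/-- a 2-subgroup normalizing a Sylow 2-subgroup lies in it -/
theorem kd_le_sylow_of_le_normalizer (S : Sylow 2 G) {K : Subgroup G} (hK : IsPGroup 2 K)
    (hKS : K ≤ normalizer ((S : Subgroup G) : Set G)) : K ≤ (S : Subgroup G) := by
  have h1 : IsPGroup 2 (K ⊔ (S : Subgroup G) : Subgroup G) := hK.to_sup_of_normal_right' S.2 hKS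
  have h2 := S.is_maximal' h1 le_sup_right
  rw [← h2]
  exact le_sup_left

omit [Finite G] in
theorem kd_isPGroup_zpowers {t : G} (ht : orderOf t = 2) : IsPGroup 2 (zpowers t) := by
  apply IsPGroup.of_card (n := 1)
  rw [Nat.card_zpowers, ht, pow_one]

omit [Finite G] in
/-- involutions of `N_G(S)` lie in `S` -/
theorem kd_invol_mem (S : Sylow 2 G) {t : G} (ht : orderOf t = 2)
    (htH : t ∈ normalizer ((S : Subgroup G) : Set G)) : t ∈ (S : Subgroup G) :=
  kd_le_sylow_of_le_normalizer S (kd_isPGroup_zpowers ht) (by rw [zpowers_le]; exact htH)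
    (mem_zpowers t)

/-- `S` is abelian -/
theorem kd_sylow_comm (hG : Hyp G) (S : Sylow 2 G) (hS : (S : Subgroup G) ≠ ⊥) :
    ∀ x ∈ (S : Subgroup G), ∀ y ∈ (S : Subgroup G), x * y = y * x := by
  have : Nontrivial (S : Subgroup G) := (Subgroup.nontrivial_iff_ne_bot _).2 hS
  have hc : Nontrivial (center (S : Subgroup G)) := S.2.center_nontrivial
  have h2 : 2 ∣ Nat.card (center (S : Subgroup G)) := by
    have hp : IsPGroup 2 (center (S : Subgroup G)) := S.2.to_subgroup _
    obtain ⟨n, hn⟩ := IsPGroup.iff_card.mp hp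
    rw [hn]
    have hn0 : n ≠ 0 := by
      rintro rfl
      rw [pow_zero] at hn
      have := Finite.one_lt_card (α := center (S : Subgroup G))
      omega
    exact dvd_pow_self 2 hn0
  obtain ⟨z, hz⟩ := exists_prime_orderOf_dvd_card' 2 h2
  have hz2 : orderOf ((z : (S : Subgroup G)) : G) = 2 := by
    rw [Subgroup.orderOf_coe, Subgroup.orderOf_coe]; exact hz
  have hzc : ∀ x ∈ (S : Subgroup G),
      x ∈ centralizer ({((z : (S : Subgroup G)) : G)} : Set G) := by
    intro x hx
    rw [mem_centralizer_singleton_iff]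
    have h := (Subgroup.mem_center_iff.mp z.2) ⟨x, hx⟩
    have h' := congrArg Subtype.val h
    simpa using h'
  intro x hx y hy
  exact hG _ hz2 x (hzc x hx) y (hzc y hy)

/-- `C_G(t) = C_G(S)` for every involution `t ∈ S` -/
theorem kd_centralizer_eq (hG : Hyp G) (S : Sylow 2 G) {t : G} (ht : orderOf t = 2)
    (htS : t ∈ (S : Subgroup G)) :
    centralizer ({t} : Set G) = centralizer ((S : Subgroup G) : Set G) := by
  have hS : (S : Subgroup G) ≠ ⊥ := by
    intro h
    rw [h, mem_bot] at htS
    rw [htS, orderOf_one] at ht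
    omega
  have hab := kd_sylow_comm hG S hS
  apply le_antisymm
  · intro c hc
    rw [mem_centralizer_iff]
    intro s hs
    have hs' : s ∈ centralizer ({t} : Set G) := by
      rw [mem_centralizer_singleton_iff]; exact hab s hs t htS
    exact hG t ht s hs' c hc
  · exact centralizer_le (Set.singleton_subset_iff.mpr htS)

/-- `S` is a TI subgroup (involution form) -/
theorem kd_mem_normalizer_of_conj_mem (hG : Hyp G) (S : Sylow 2 G) {g t : G}
    (ht : orderOf t = 2) (htS : t ∈ (S : Subgroup G)) (hg : g * t * g⁻¹ ∈ (S : Subgroup G)) :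
    g ∈ normalizer ((S : Subgroup G) : Set G) := by
  have hS : (S : Subgroup G) ≠ ⊥ := by
    intro h
    rw [h, mem_bot] at htS
    rw [htS, orderOf_one] at ht
    omega
  have ht' : orderOf (g * t * g⁻¹) = 2 := by rw [orderOf_conj_eq, ht]
  have h2 := kd_centralizer_eq hG S ht' hg
  have h3 : lc g (S : Subgroup G) ≤ centralizer ((S : Subgroup G) : Set G) := by
    intro x hx
    rw [mem_lc] at hx
    rw [← h2, mem_centralizer_singleton_iff]
    have h := kd_sylow_comm hG S hS _ hx t htS
    calc x * (g * t * g⁻¹) = g * ((g⁻¹ * x * g) * t) * g⁻¹ := by group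
      _ = g * (t * (g⁻¹ * x * g)) * g⁻¹ := by rw [h]
      _ = (g * t * g⁻¹) * x := by group
  have h4 : lc g (S : Subgroup G) ≤ (S : Subgroup G) :=
    kd_le_sylow_of_le_normalizer S (isPGroup_lc S.2) (h3.trans (centralizer_le_normalizer _))
  exact mem_normalizer_of_lc_le h4

/-- the core of `N_G(S)` has odd order -/
theorem kd_odd_card_core (hG : Hyp G) (S : Sylow 2 G) (hnn : ¬ (S : Subgroup G).Normal) :
    Odd (Nat.card (normalizer ((S : Subgroup G) : Set G)).normalCore) := by
  by_contra hodd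
  rw [Nat.not_odd_iff_even, even_iff_two_dvd] at hodd
  obtain ⟨t, ht⟩ := exists_prime_orderOf_dvd_card' 2 hodd
  have ht2 : orderOf (t : G) = 2 := by rw [Subgroup.orderOf_coe]; exact ht
  have htH : (t : G) ∈ normalizer ((S : Subgroup G) : Set G) := normalCore_le _ t.2
  have htS := kd_invol_mem S ht2 htH
  apply hnn
  rw [← normalizer_eq_top_iff, eq_top_iff]
  intro g _
  have h1 : g * (t : G) * g⁻¹ ∈ (normalizer ((S : Subgroup G) : Set G)).normalCore :=
    (normalCore_normal _).conj_mem _ t.2 g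
  have h2 : g * (t : G) * g⁻¹ ∈ (S : Subgroup G) :=
    kd_invol_mem S (by rw [orderOf_conj_eq, ht2]) (normalCore_le _ h1)
  exact kd_mem_normalizer_of_conj_mem hG S ht2 htS h2

theorem kd_sylow_inf_core (hG : Hyp G) (S : Sylow 2 G) (hnn : ¬ (S : Subgroup G).Normal) :
    (S : Subgroup G) ⊓ (normalizer ((S : Subgroup G) : Set G)).normalCore = ⊥ :=
  Cfsg.Agent.Lib.Helper15.isPGroup_inf_coprime_eq_bot S.2
    (Nat.coprime_two_right.mpr (kd_odd_card_core hG S hnn))

/-- the core of `N_G(S)` centralizes `S` -/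
theorem kd_core_le_centralizer (hG : Hyp G) (S : Sylow 2 G) (hnn : ¬ (S : Subgroup G).Normal) :
    (normalizer ((S : Subgroup G) : Set G)).normalCore ≤
      centralizer ((S : Subgroup G) : Set G) := by
  intro n hn
  rw [mem_centralizer_iff]
  intro s hs
  have h1 : s * n * s⁻¹ * n⁻¹ ∈ (normalizer ((S : Subgroup G) : Set G)).normalCore :=
    mul_mem ((normalCore_normal _).conj_mem n hn s) (inv_mem hn)
  have hnH : n ∈ normalizer ((S : Subgroup G) : Set G) := normalCore_le _ hn
  have h2 : s * n * s⁻¹ * n⁻¹ ∈ (S : Subgroup G) := by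
    have h : n * s⁻¹ * n⁻¹ ∈ (S : Subgroup G) := (mem_normalizer_iff.mp hnH s⁻¹).mp (inv_mem hs)
    have h' := mul_mem hs h
    convert h' using 1
    group
  have h3 : s * n * s⁻¹ * n⁻¹ = 1 := by
    have h : s * n * s⁻¹ * n⁻¹ ∈
        (S : Subgroup G) ⊓ (normalizer ((S : Subgroup G) : Set G)).normalCore := ⟨h2, h1⟩
    rw [kd_sylow_inf_core hG S hnn, mem_bot] at h
    exact h
  calc s * n = (s * n * s⁻¹ * n⁻¹) * (n * s) := by group
    _ = n * s := by rw [h3, one_mul]

omit [Finite G] in
/-- an involution of `G ⧸ N`, `N` of odd order, lifts to an involution of `G` -/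
theorem kd_exists_lift_invol {N : Subgroup G} [N.Normal] (hN : Odd (Nat.card N)) {tb : G ⧸ N}
    (htb : orderOf tb = 2) : ∃ t : G, orderOf t = 2 ∧ (t : G ⧸ N) = tb := by
  obtain ⟨g, rfl⟩ := QuotientGroup.mk_surjective tb
  obtain ⟨j, hj⟩ := hN
  have hsq : (g : G ⧸ N) ^ 2 = 1 := by rw [← htb]; exact pow_orderOf_eq_one _
  have hpow : ((g ^ Nat.card N : G) : G ⧸ N) = (g : G ⧸ N) := by
    rw [QuotientGroup.mk_pow, hj, pow_succ, pow_mul, hsq, one_pow, one_mul]
  refine ⟨g ^ Nat.card N, ?_, hpow⟩
  have hg2 : g ^ 2 ∈ N := by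
    rw [← QuotientGroup.eq_one_iff, QuotientGroup.mk_pow, hsq]
  have h1 : (g ^ Nat.card N) ^ 2 = 1 := by
    rw [← pow_mul, mul_comm, pow_mul]
    have h := congrArg Subtype.val (pow_card_eq_one' (G := N) (x := ⟨g ^ 2, hg2⟩))
    rw [SubgroupClass.coe_pow] at h
    exact h
  have h2 : g ^ Nat.card N ≠ 1 := by
    intro h
    rw [h] at hpow
    have h3 : (g : G ⧸ N) = 1 := by rw [← hpow]; rfl
    rw [h3, orderOf_one] at htb
    omega
  exact orderOf_eq_prime h1 h2

/-- the hypothesis passes to the quotient by a normal subgroup of odd order -/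
theorem kd_hyp_quotient (hG : Hyp G) {N : Subgroup G} [N.Normal] (hN : Odd (Nat.card N)) :
    Hyp (G ⧸ N) := by
  intro tb htb x hx y hy
  obtain ⟨t, ht, rfl⟩ := kd_exists_lift_invol hN htb
  have hcop : (Nat.card N).Coprime 2 := Nat.coprime_two_right.mpr hN
  have hX : IsPGroup 2 (zpowers t) := kd_isPGroup_zpowers ht
  have key := Cfsg.Agent.Lib.Helper15.centralizer_map_mk_of_coprime N hcop (zpowers t) hX
  have hsub : centralizer ({(t : G ⧸ N)} : Set (G ⧸ N)) ≤
      centralizer (((zpowers t).map (QuotientGroup.mk' N) : Subgroup (G ⧸ N)) : Set (G ⧸ N)) := by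
    intro x hx
    rw [mem_centralizer_iff]
    rintro _ ⟨w, hw, rfl⟩
    obtain ⟨k, rfl⟩ := mem_zpowers_iff.mp hw
    rw [mem_centralizer_singleton_iff] at hx
    simp only [map_zpow, QuotientGroup.mk'_apply]
    have hc : Commute x (t : G ⧸ N) := hx
    exact (hc.zpow_right k).eq.symm
  have hx' := hsub hx
  have hy' := hsub hy
  rw [key] at hx' hy'
  obtain ⟨a, ha, rfl⟩ := hx'
  obtain ⟨b, hb, rfl⟩ := hy'
  have hle : centralizer ((zpowers t : Subgroup G) : Set G) ≤ centralizer ({t} : Set G) :=
    centralizer_le (Set.singleton_subset_iff.mpr (mem_zpowers t))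
  have h := hG t ht a (hle ha) b (hle hb)
  rw [← map_mul, ← map_mul, h]

/-- the image of `S` in `G ⧸ N` is a noncyclic non-normal Sylow 2-subgroup -/
theorem kd_sylow_quotient (hG : Hyp G) (S : Sylow 2 G) (hnc : ¬ IsCyclic (S : Subgroup G))
    (hnn : ¬ (S : Subgroup G).Normal) :
    ∃ T : Sylow 2 (G ⧸ (normalizer ((S : Subgroup G) : Set G)).normalCore),
      ¬ IsCyclic (T : Subgroup (G ⧸ (normalizer ((S : Subgroup G) : Set G)).normalCore)) ∧
      ¬ (T : Subgroup (G ⧸ (normalizer ((S : Subgroup G) : Set G)).normalCore)).Normal := by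
  refine ⟨S.mapSurjective
    (QuotientGroup.mk'_surjective (normalizer ((S : Subgroup G) : Set G)).normalCore), ?_, ?_⟩
  · intro hcyc
    apply hnc
    rw [Sylow.coe_mapSurjective] at hcyc
    have hf : Function.Injective
        ((QuotientGroup.mk' (normalizer ((S : Subgroup G) : Set G)).normalCore).subgroupMap
          (S : Subgroup G)) := by
      rw [injective_iff_map_eq_one]
      intro s hs
      have h1 : ((s : G) : G ⧸ (normalizer ((S : Subgroup G) : Set G)).normalCore) = 1 := by
        have h := congrArg Subtype.val hs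
        simpa using h
      have h2 : (s : G) ∈ (normalizer ((S : Subgroup G) : Set G)).normalCore :=
        (QuotientGroup.eq_one_iff _).mp h1
      have h3 : (s : G) ∈
          (S : Subgroup G) ⊓ (normalizer ((S : Subgroup G) : Set G)).normalCore := ⟨s.2, h2⟩
      rw [kd_sylow_inf_core hG S hnn, mem_bot] at h3
      exact Subtype.ext h3
    exact isCyclic_of_injective _ hf
  · intro hT
    rw [Sylow.coe_mapSurjective] at hT
    apply hnn
    rw [← normalizer_eq_top_iff, eq_top_iff]
    intro g _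
    have h4 : lc g (S : Subgroup G) ≤ normalizer ((S : Subgroup G) : Set G) := by
      intro y hy
      rw [mem_lc] at hy
      have h5 : ((g⁻¹ * y * g : G) : G ⧸ (normalizer ((S : Subgroup G) : Set G)).normalCore) ∈
          (S : Subgroup G).map
            (QuotientGroup.mk' (normalizer ((S : Subgroup G) : Set G)).normalCore) :=
        ⟨_, hy, rfl⟩
      have h6 := hT.conj_mem _ h5 (g : G ⧸ (normalizer ((S : Subgroup G) : Set G)).normalCore)
      obtain ⟨s, hs, hs'⟩ := h6
      have h7 : s⁻¹ * y ∈ (normalizer ((S : Subgroup G) : Set G)).normalCore := by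
        rw [← QuotientGroup.eq]
        rw [QuotientGroup.mk'_apply] at hs'
        rw [hs']
        simp only [QuotientGroup.mk_mul, QuotientGroup.mk_inv]
        group
      have h8 : y = s * (s⁻¹ * y) := by group
      rw [h8]
      exact mul_mem (le_normalizer hs) (normalCore_le _ h7)
    have h9 : lc g (S : Subgroup G) ≤ (S : Subgroup G) :=
      kd_le_sylow_of_le_normalizer S (isPGroup_lc S.2) h4
    exact mem_normalizer_of_lc_le h9

/-- `N_G(S)` is strongly embedded -/
theorem kd_isStronglyEmbedded (hG : Hyp G) (S : Sylow 2 G) (hS : (S : Subgroup G) ≠ ⊥)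
    (hnn : ¬ (S : Subgroup G).Normal) :
    IsStronglyEmbedded (normalizer ((S : Subgroup G) : Set G)) := by
  refine ⟨?_, ?_, ?_⟩
  · intro h
    exact hnn (normalizer_eq_top_iff.mp h)
  · have h1 : 2 ∣ Nat.card (S : Subgroup G) := by
      obtain ⟨n, hn⟩ := IsPGroup.iff_card.mp S.2
      rw [hn]
      have hn0 : n ≠ 0 := by
        rintro rfl
        rw [pow_zero] at hn
        exact hS ((S : Subgroup G).eq_bot_of_card_eq hn)
      exact dvd_pow_self 2 hn0
    have h2 : Nat.card (S : Subgroup G) ∣ Nat.card (normalizer ((S : Subgroup G) : Set G)) :=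
      Subgroup.card_dvd_of_le le_normalizer
    exact even_iff_two_dvd.2 (h1.trans h2)
  · intro g hg
    by_contra hodd
    rw [Nat.not_odd_iff_even, even_iff_two_dvd] at hodd
    obtain ⟨t, ht⟩ := exists_prime_orderOf_dvd_card' 2 hodd
    have ht2 : orderOf (t : G) = 2 := by rw [Subgroup.orderOf_coe]; exact ht
    have h1 : (t : G) ∈ normalizer ((S : Subgroup G) : Set G) := t.2.1
    have h2 : (t : G) ∈ lc g (normalizer ((S : Subgroup G) : Set G)) := t.2.2
    rw [mem_lc] at h2
    have htS := kd_invol_mem S ht2 h1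
    have ht2' : orderOf (g⁻¹ * (t : G) * g) = 2 := by
      have h := orderOf_conj_eq g⁻¹ (t : G)
      rw [inv_inv] at h
      rw [h, ht2]
    have ht'S := kd_invol_mem S ht2' h2
    apply hg
    refine kd_mem_normalizer_of_conj_mem hG S ht2' ht'S ?_
    convert htS using 1
    group

/-- `H = K_u C` -/
theorem kd_exists_mul (hG : Hyp G) (S : Sylow 2 G) (hS : (S : Subgroup G) ≠ ⊥)
    (hnn : ¬ (S : Subgroup G).Normal) {u : G} (hu : orderOf u = 2)
    (huH : u ∉ normalizer ((S : Subgroup G) : Set G)) {h : G}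
    (hh : h ∈ normalizer ((S : Subgroup G) : Set G)) :
    ∃ c ∈ centralizer ((S : Subgroup G) : Set G),
      ∃ d ∈ normalizer ((S : Subgroup G) : Set G) ⊓ lc u (normalizer ((S : Subgroup G) : Set G)),
        u * d * u⁻¹ = d⁻¹ ∧ h = d * c := by
  have hSE := kd_isStronglyEmbedded hG S hS hnn
  -- an involution of `S`
  have h2 : 2 ∣ Nat.card (S : Subgroup G) := by
    obtain ⟨n, hn⟩ := IsPGroup.iff_card.mp S.2
    rw [hn]
    have hn0 : n ≠ 0 := by
      rintro rfl
      rw [pow_zero] at hn
      exact hS ((S : Subgroup G).eq_bot_of_card_eq hn)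
    exact dvd_pow_self 2 hn0
  obtain ⟨t, ht⟩ := exists_prime_orderOf_dvd_card' 2 h2
  have ht2 : orderOf (t : G) = 2 := by rw [Subgroup.orderOf_coe]; exact ht
  have hconj : h * (t : G) * h⁻¹ ∈ (S : Subgroup G) := (mem_normalizer_iff.mp hh _).mp t.2
  have hconj2 : orderOf (h * (t : G) * h⁻¹) = 2 := by rw [orderOf_conj_eq, ht2]
  obtain ⟨d, hd, hd1, hd2⟩ := se_exists_conj_in_D hSE hu huH ht2 (le_normalizer t.2) hconj2
    (le_normalizer hconj)
  refine ⟨d⁻¹ * h, ?_, d, hd, hd2, by group⟩
  rw [← kd_centralizer_eq hG S ht2 t.2, mem_centralizer_singleton_iff]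
  calc d⁻¹ * h * (t : G) = d⁻¹ * (h * (t : G) * h⁻¹) * h := by group
    _ = d⁻¹ * (d * (t : G) * d⁻¹) * h := by rw [hd1]
    _ = (t : G) * (d⁻¹ * h) := by group

/-- the conclusion lifts from `G ⧸ N` to `G` -/
theorem kd_concl_lift (hG : Hyp G) (S : Sylow 2 G) (hnc : ¬ IsCyclic (S : Subgroup G))
    (hnn : ¬ (S : Subgroup G).Normal)
    (hQ : Concl (G ⧸ (normalizer ((S : Subgroup G) : Set G)).normalCore)) : Concl G := by
  have hS : (S : Subgroup G) ≠ ⊥ := by
    intro h
    apply hnc
    rw [h]
    infer_instance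
  have hodd := kd_odd_card_core hG S hnn
  have hNC := kd_core_le_centralizer hG S hnn
  have hSN := kd_sylow_inf_core hG S hnn
  -- an involution of `S`
  have h2 : 2 ∣ Nat.card (S : Subgroup G) := by
    obtain ⟨n, hn⟩ := IsPGroup.iff_card.mp S.2
    rw [hn]
    have hn0 : n ≠ 0 := by
      rintro rfl
      rw [pow_zero] at hn
      exact hS ((S : Subgroup G).eq_bot_of_card_eq hn)
    exact dvd_pow_self 2 hn0
  obtain ⟨t₀, ht₀⟩ := exists_prime_orderOf_dvd_card' 2 h2
  have ht₀2 : orderOf (t₀ : G) = 2 := by rw [Subgroup.orderOf_coe]; exact ht₀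
  have hC₀ := kd_centralizer_eq hG S ht₀2 t₀.2
  -- squares lie in `N`
  have hsq : ∀ t ∈ (S : Subgroup G), orderOf t = 2 → ∀ c ∈ centralizer ({t} : Set G),
      c ^ 2 ∈ (normalizer ((S : Subgroup G) : Set G)).normalCore := by
    intro t htS ht c hc
    have htb : orderOf (t : G ⧸ (normalizer ((S : Subgroup G) : Set G)).normalCore) = 2 := by
      apply orderOf_eq_prime
      · have ht1 : t ^ 2 = 1 := by rw [← ht]; exact pow_orderOf_eq_one t
        rw [← QuotientGroup.mk_pow, ht1]
        rfl
      · intro h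
        have h1 : t ∈ (normalizer ((S : Subgroup G) : Set G)).normalCore :=
          (QuotientGroup.eq_one_iff _).mp h
        have h3 : t ∈ (S : Subgroup G) ⊓ (normalizer ((S : Subgroup G) : Set G)).normalCore :=
          ⟨htS, h1⟩
        rw [hSN, mem_bot] at h3
        rw [h3, orderOf_one] at ht
        omega
    have hcb : (c : G ⧸ (normalizer ((S : Subgroup G) : Set G)).normalCore) ∈
        centralizer ({(t : G ⧸ (normalizer ((S : Subgroup G) : Set G)).normalCore)} :
          Set (G ⧸ (normalizer ((S : Subgroup G) : Set G)).normalCore)) := by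
      rw [mem_centralizer_singleton_iff] at hc ⊢
      rw [← QuotientGroup.mk_mul, ← QuotientGroup.mk_mul, hc]
    have hcen := hQ _ htb _ hcb
    rw [mem_center_iff] at hcen
    have hcH : c ^ 2 ∈ normalizer ((S : Subgroup G) : Set G) := by
      apply pow_mem
      apply centralizer_le_normalizer
      rw [← kd_centralizer_eq hG S ht htS]
      exact hc
    intro b
    have h1 : b * c ^ 2 * b⁻¹ * (c ^ 2)⁻¹ ∈ (normalizer ((S : Subgroup G) : Set G)).normalCore := by
      rw [← QuotientGroup.eq_one_iff]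
      have h := hcen (b : G ⧸ (normalizer ((S : Subgroup G) : Set G)).normalCore)
      simp only [QuotientGroup.mk_mul, QuotientGroup.mk_inv, QuotientGroup.mk_pow]
      rw [h]
      group
    have h3 : b * c ^ 2 * b⁻¹ = (b * c ^ 2 * b⁻¹ * (c ^ 2)⁻¹) * c ^ 2 := by group
    rw [h3]
    exact mul_mem (normalCore_le _ h1) hcH
  -- the centralizer of `N`
  have hSCN : (S : Subgroup G) ≤
      centralizer (((normalizer ((S : Subgroup G) : Set G)).normalCore : Subgroup G) : Set G) := by
    intro s hs
    rw [mem_centralizer_iff]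
    intro n hn
    have h := hNC hn
    rw [mem_centralizer_iff] at h
    exact (h s hs).symm
  have hinvCN : ∀ w : G, orderOf w = 2 → w ∈
      centralizer (((normalizer ((S : Subgroup G) : Set G)).normalCore : Subgroup G) : Set G) := by
    intro w hw
    obtain ⟨y, hy⟩ := exists_lc_le_sylow S (kd_isPGroup_zpowers hw)
    have h1 : y * w * y⁻¹ ∈ (S : Subgroup G) := hy (conj_mem_lc (mem_zpowers w))
    have h3 := (normal_centralizer (H := (normalizer ((S : Subgroup G) : Set G)).normalCore)).conj_mem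
      _ (hSCN h1) y⁻¹
    convert h3 using 1
    group
  have hCCN : centralizer ((S : Subgroup G) : Set G) ≤
      centralizer (((normalizer ((S : Subgroup G) : Set G)).normalCore : Subgroup G) : Set G) := by
    intro c hc
    rw [mem_centralizer_iff]
    intro n hn
    have h := hNC hn
    rw [← hC₀] at h hc
    exact hG _ ht₀2 n h c hc
  -- an involution outside `H`
  obtain ⟨g, hg⟩ : ∃ g : G, g ∉ normalizer ((S : Subgroup G) : Set G) := by
    by_contra hcon
    apply hnn
    rw [← normalizer_eq_top_iff, eq_top_iff]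
    intro x _
    by_contra hx
    exact hcon ⟨x, hx⟩
  have hu : orderOf (g * (t₀ : G) * g⁻¹) = 2 := by rw [orderOf_conj_eq, ht₀2]
  have huH : g * (t₀ : G) * g⁻¹ ∉ normalizer ((S : Subgroup G) : Set G) := by
    intro h
    exact hg (kd_mem_normalizer_of_conj_mem hG S ht₀2 t₀.2 (kd_invol_mem S hu h))
  -- `H ≤ C_G(N)`
  have hHCN : normalizer ((S : Subgroup G) : Set G) ≤
      centralizer (((normalizer ((S : Subgroup G) : Set G)).normalCore : Subgroup G) : Set G) := by
    intro h hh
    obtain ⟨c, hc, d, _, hd2, rfl⟩ := kd_exists_mul hG S hS hnn hu huH hh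
    refine mul_mem ?_ (hCCN hc)
    set u := g * (t₀ : G) * g⁻¹ with hu_def
    have hui : u⁻¹ = u := inv_eq_self_of_orderOf_two hu
    have hud : (u * d) ^ 2 = 1 := by
      have h1 : u * d * u = d⁻¹ := by
        rw [hui] at hd2
        exact hd2
      calc (u * d) ^ 2 = (u * d * u) * d := by rw [pow_two]; simp only [mul_assoc]
        _ = 1 := by rw [h1, inv_mul_cancel]
    have hud' : u * d ∈
        centralizer (((normalizer ((S : Subgroup G) : Set G)).normalCore : Subgroup G) : Set G) := by
      by_cases h1 : u * d = 1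
      · rw [h1]
        exact one_mem _
      · exact hinvCN _ (orderOf_eq_prime hud h1)
    have hd : d = u * (u * d) := by
      rw [← mul_assoc, mul_self_of_orderOf_two hu, one_mul]
    rw [hd]
    exact mul_mem (hinvCN u hu) hud'
  -- Frattini
  have htop : centralizer
      (((normalizer ((S : Subgroup G) : Set G)).normalCore : Subgroup G) : Set G) = ⊤ := by
    have h : normalizer ((S : Subgroup G) : Set G) ⊔ centralizer
        (((normalizer ((S : Subgroup G) : Set G)).normalCore : Subgroup G) : Set G) = ⊤ :=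
      S.normalizer_sup_eq_top' hSCN
    rw [sup_of_le_right hHCN] at h
    exact h
  have hNZ : (normalizer ((S : Subgroup G) : Set G)).normalCore ≤ center G := by
    intro n hn
    rw [mem_center_iff]
    intro x
    have hx : x ∈ centralizer
        (((normalizer ((S : Subgroup G) : Set G)).normalCore : Subgroup G) : Set G) := by
      rw [htop]
      exact mem_top x
    rw [mem_centralizer_iff] at hx
    exact (hx n hn).symm
  -- conclusion
  intro t ht c hc
  obtain ⟨y, hy⟩ := exists_lc_le_sylow S (kd_isPGroup_zpowers ht)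
  have h1 : y * t * y⁻¹ ∈ (S : Subgroup G) := hy (conj_mem_lc (mem_zpowers t))
  have h3 : orderOf (y * t * y⁻¹) = 2 := by rw [orderOf_conj_eq, ht]
  have h4 : y * c * y⁻¹ ∈ centralizer ({y * t * y⁻¹} : Set G) := by
    rw [mem_centralizer_singleton_iff] at hc ⊢
    calc y * c * y⁻¹ * (y * t * y⁻¹) = y * (c * t) * y⁻¹ := by group
      _ = y * (t * c) * y⁻¹ := by rw [hc]
      _ = y * t * y⁻¹ * (y * c * y⁻¹) := by group
  have h5 := hNZ (hsq _ h1 h3 _ h4)
  have h6 : (y * c * y⁻¹) ^ 2 = y * c ^ 2 * y⁻¹ := by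
    rw [pow_two, pow_two]
    group
  rw [h6] at h5
  have h7 : c ^ 2 = y⁻¹ * (y * c ^ 2 * y⁻¹) * y := by group
  rw [h7]
  have h8 := (inferInstance : (center G).Normal).conj_mem _ h5 y⁻¹
  rw [inv_inv] at h8
  exact h8

/-- K-D: if the core `N` of `H = N_G(S)` is nontrivial, `G ⧸ N` is a smaller group with the same
hypotheses, and the conclusion lifts from `G ⧸ N` to `G`. -/
theorem quotient_step (hG : Hyp G) (S : Sylow 2 G)
    (hnc : ¬ IsCyclic (S : Subgroup G)) (hnn : ¬ (S : Subgroup G).Normal)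
    (hcore : (normalizer ((S : Subgroup G) : Set G)).normalCore ≠ ⊥) :
    Hyp (G ⧸ (normalizer ((S : Subgroup G) : Set G)).normalCore) ∧
    (∃ T : Sylow 2 (G ⧸ (normalizer ((S : Subgroup G) : Set G)).normalCore),
      ¬ IsCyclic (T : Subgroup (G ⧸ (normalizer ((S : Subgroup G) : Set G)).normalCore)) ∧
      ¬ (T : Subgroup (G ⧸ (normalizer ((S : Subgroup G) : Set G)).normalCore)).Normal) ∧
    Nat.card (G ⧸ (normalizer ((S : Subgroup G) : Set G)).normalCore) < Nat.card G ∧
    (Concl (G ⧸ (normalizer ((S : Subgroup G) : Set G)).normalCore) → Concl G) := by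
  refine ⟨kd_hyp_quotient hG (kd_odd_card_core hG S hnn), kd_sylow_quotient hG S hnc hnn, ?_,
    kd_concl_lift hG S hnc hnn⟩
  rw [Subgroup.card_eq_card_quotient_mul_card_subgroup
    (normalizer ((S : Subgroup G) : Set G)).normalCore]
  have h1 : 1 < Nat.card (normalizer ((S : Subgroup G) : Set G)).normalCore :=
    (Subgroup.one_lt_card_iff_ne_bot _).mpr hcore
  have h2 : 0 < Nat.card (G ⧸ (normalizer ((S : Subgroup G) : Set G)).normalCore) := Nat.card_pos
  nlinarith

end Cfsg.Agent.Lib.Helper38.AIC
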