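import Mathlib

set_option autoImplicit false

namespace Cfsg.Agent.Lib.Helper38

variable {G : Type*} [Group G]

theorem mem_map_conj (A : Subgroup G) (g x : G) :
    x ∈ A.map (MulAut.conj g).toMonoidHom ↔ g⁻¹ * x * g ∈ A := by
  constructor
  · rintro ⟨a, ha, rfl⟩
    have : g⁻¹ * ((MulAut.conj g).toMonoidHom a) * g = a := by
      show g⁻¹ * (g * a * g⁻¹) * g = a
      group
    rw [this]; exact ha
  · intro h
    refine ⟨g⁻¹ * x * g, h, ?_⟩
    show g * (g⁻¹ * x * g) * g⁻¹ = x
    group

theorem conj_mem_map_conj (A : Subgroup G) (g a : G) (ha : a ∈ A) :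
    g * a * g⁻¹ ∈ A.map (MulAut.conj g).toMonoidHom := by
  rw [mem_map_conj]
  have : g⁻¹ * (g * a * g⁻¹) * g = a := by group
  rw [this]; exact ha

theorem map_conj_conj (A : Subgroup G) (g h : G) :
    (A.map (MulAut.conj g).toMonoidHom).map (MulAut.conj h).toMonoidHom
      = A.map (MulAut.conj (h * g)).toMonoidHom := by
  ext x
  simp only [mem_map_conj]
  have : g⁻¹ * (h⁻¹ * x * h) * g = (h * g)⁻¹ * x * (h * g) := by group
  rw [this]

theorem map_conj_one (A : Subgroup G) : A.map (MulAut.conj (1 : G)).toMonoidHom = A := by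
  ext x
  simp

theorem card_map_conj (A : Subgroup G) (g : G) :
    Nat.card ↥(A.map (MulAut.conj g).toMonoidHom) = Nat.card ↥A :=
  Nat.card_congr (A.equivMapOfInjective (MulAut.conj g).toMonoidHom
    (MulAut.conj g).injective).symm.toEquiv

theorem map_conj_eq_self_iff (A : Subgroup G) (g : G) :
    A.map (MulAut.conj g).toMonoidHom = A ↔ g ∈ Subgroup.normalizer (A : Set G) := by
  rw [Subgroup.mem_normalizer_iff]
  constructor
  · intro h x
    constructor
    · intro hx
      rw [← h]
      exact conj_mem_map_conj A g x hx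
    · intro hx
      rw [← h, mem_map_conj] at hx
      have : g⁻¹ * (g * x * g⁻¹) * g = x := by group
      rwa [this] at hx
  · intro h
    ext x
    rw [mem_map_conj, h (g⁻¹ * x * g)]
    have : g * (g⁻¹ * x * g) * g⁻¹ = x := by group
    rw [this]

/-- TI passes to conjugates. -/
theorem ti_conj (A : Subgroup G)
    (hti : ∀ h : G, A.map (MulAut.conj h).toMonoidHom = A ∨ A.map (MulAut.conj h).toMonoidHom ⊓ A = ⊥)
    (g h : G) :
    (A.map (MulAut.conj g).toMonoidHom).map (MulAut.conj h).toMonoidHom = A.map (MulAut.conj g).toMonoidHom ∨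
    (A.map (MulAut.conj g).toMonoidHom).map (MulAut.conj h).toMonoidHom ⊓ A.map (MulAut.conj g).toMonoidHom = ⊥ := by
  rcases hti (g⁻¹ * h * g) with h1 | h1
  · left
    have : (A.map (MulAut.conj g).toMonoidHom).map (MulAut.conj h).toMonoidHom
        = (A.map (MulAut.conj (g⁻¹ * h * g)).toMonoidHom).map (MulAut.conj g).toMonoidHom := by
      rw [map_conj_conj, map_conj_conj]
      congr 3
      group
    rw [this, h1]
  · right
    rw [eq_bot_iff]
    intro x hx
    rw [Subgroup.mem_bot]
    rw [Subgroup.mem_inf] at hx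
    obtain ⟨hx1, hx2⟩ := hx
    rw [map_conj_conj, mem_map_conj] at hx1
    rw [mem_map_conj] at hx2
    have hmem : g⁻¹ * x * g ∈ A.map (MulAut.conj (g⁻¹ * h * g)).toMonoidHom ⊓ A := by
      rw [Subgroup.mem_inf]
      refine ⟨?_, hx2⟩
      rw [mem_map_conj]
      have : (g⁻¹ * h * g)⁻¹ * (g⁻¹ * x * g) * (g⁻¹ * h * g) = (h * g)⁻¹ * x * (h * g) := by group
      rw [this]; exact hx1
    rw [h1, Subgroup.mem_bot] at hmem
    have := congrArg (fun y => g * y * g⁻¹) hmem
    simpa [mul_assoc] using this

/-- Core of the TI-commuting lemma: `B` normalizes `A`, `|A| ≤ |B|`, `A ∩ B = 1` and every `A`-conjugate of `B`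
equals `B` or meets it trivially; then `[A, B] = 1`. -/
theorem commutator_eq_bot_of_ti [Finite G] (A B : Subgroup G)
    (hBti : ∀ a ∈ A, B.map (MulAut.conj a).toMonoidHom = B ∨ B.map (MulAut.conj a).toMonoidHom ⊓ B = ⊥)
    (hle : Nat.card ↥A ≤ Nat.card ↥B) (hAB : A ⊓ B = ⊥) (hN : B ≤ Subgroup.normalizer (A : Set G)) :
    ⁅A, B⁆ = ⊥ := by
  rw [Subgroup.commutator_eq_bot_iff_le_centralizer]
  intro a ha
  rw [Subgroup.mem_centralizer_iff]
  have free : ∀ b ∈ B, b ≠ 1 → b * a * b⁻¹ = a → ∀ b' ∈ B, b' * a = a * b' := by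
    intro b hb hb1 hba b' hb'
    have hab : a * b * a⁻¹ = b := by
      have : b * a = a * b := by
        have := congrArg (· * b) hba
        simpa using this
      rw [← this]; group
    have hmem : b ∈ B.map (MulAut.conj a).toMonoidHom ⊓ B := by
      refine ⟨⟨b, hb, ?_⟩, hb⟩
      simpa [MulAut.conj_apply] using hab
    have hnorm : B.map (MulAut.conj a).toMonoidHom = B := by
      rcases hBti a ha with h | h
      · exact h
      · rw [h] at hmem
        exact absurd (Subgroup.mem_bot.mp hmem) hb1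
    have h1 : a * b' * a⁻¹ ∈ B := by
      rw [← hnorm]
      exact ⟨b', hb', by simp [MulAut.conj_apply]⟩
    have h2 : b' * a⁻¹ * b'⁻¹ ∈ A := by
      have := (Subgroup.mem_normalizer_iff.mp (hN hb')) a⁻¹
      exact this.mp (A.inv_mem ha)
    have h3 : a * b' * a⁻¹ * b'⁻¹ ∈ A ⊓ B := by
      refine ⟨?_, ?_⟩
      · have : a * b' * a⁻¹ * b'⁻¹ = a * (b' * a⁻¹ * b'⁻¹) := by group
        rw [this]; exact A.mul_mem ha h2
      · exact B.mul_mem h1 (B.inv_mem hb')
    rw [hAB, Subgroup.mem_bot] at h3
    have : a * b' = b' * a := by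
      have := congrArg (· * b' * a) h3
      simpa [mul_assoc] using this
    exact this.symm
  by_contra hcon
  push Not at hcon
  obtain ⟨b0, hb0, hne⟩ := hcon
  have ha1 : a ≠ 1 := by
    rintro rfl
    simp at hne
  have hconjA : ∀ b ∈ B, b * a * b⁻¹ ∈ A := by
    intro b hb
    exact (Subgroup.mem_normalizer_iff.mp (hN hb) a).mp ha
  let f : Option ↥B → ↥A := fun o =>
    match o with
    | none => 1
    | some b => ⟨(b : G) * a * (b : G)⁻¹, hconjA b b.2⟩
  have hf : Function.Injective f := by
    intro o1 o2 h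
    match o1, o2 with
    | none, none => rfl
    | none, some b =>
      exfalso
      have : (1 : G) = (b : G) * a * (b : G)⁻¹ := congrArg Subtype.val h
      apply ha1
      have h' := congrArg (fun x => (b : G)⁻¹ * x * (b : G)) this
      simpa [mul_assoc] using h'.symm
    | some b, none =>
      exfalso
      have : (b : G) * a * (b : G)⁻¹ = 1 := congrArg Subtype.val h
      apply ha1
      have h' := congrArg (fun x => (b : G)⁻¹ * x * (b : G)) this
      simpa [mul_assoc] using h'
    | some b1, some b2 =>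
      have h' : (b1 : G) * a * (b1 : G)⁻¹ = (b2 : G) * a * (b2 : G)⁻¹ := congrArg Subtype.val h
      by_contra hb12
      have hne' : (b2 : G)⁻¹ * (b1 : G) ≠ 1 := by
        intro h1
        apply hb12
        have : (b1 : G) = (b2 : G) := by
          have := congrArg (fun x => (b2 : G) * x) h1
          simpa using this
        exact congrArg some (Subtype.ext this)
      have hfix : ((b2 : G)⁻¹ * (b1 : G)) * a * ((b2 : G)⁻¹ * (b1 : G))⁻¹ = a := by
        have := congrArg (fun x => (b2 : G)⁻¹ * x * (b2 : G)) h'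
        simp only [mul_assoc, mul_inv_rev, inv_inv] at this ⊢
        simpa using this
      exact hne (free _ (B.mul_mem (B.inv_mem b2.2) b1.2) hne' hfix b0 hb0)
  have hcard := Nat.card_le_card_of_injective f hf
  rw [Finite.card_option] at hcard
  omega

end Cfsg.Agent.Lib.Helper38
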