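import Mathlib
import Cfsg.Prelude.Def_Transfer
import Cfsg.Agent.Lib.Helper29.Sup

set_option autoImplicit false

namespace Cfsg.Agent.Lib.Helper38

open Cfsg

variable {X : Type*} [Group X]

/-- Involutions whose product is an involution commute. -/
theorem mul_comm_of_sq_eq_one {p q : X} (hp : p ^ 2 = 1) (hq : q ^ 2 = 1) (hpq : (p * q) ^ 2 = 1) :
    p * q = q * p := by
  have h1 : p⁻¹ = p := by rw [inv_eq_iff_mul_eq_one, ← sq, hp]
  have h2 : q⁻¹ = q := by rw [inv_eq_iff_mul_eq_one, ← sq, hq]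
  have h3 : (p * q)⁻¹ = p * q := by rw [inv_eq_iff_mul_eq_one, ← sq, hpq]
  calc p * q = (p * q)⁻¹ := h3.symm
    _ = q⁻¹ * p⁻¹ := mul_inv_rev p q
    _ = q * p := by rw [h1, h2]

/-- A subgroup of exponent 2 is commutative (elementwise form). -/
theorem mul_comm_of_exp_two {A : Subgroup X} (h : ∀ a ∈ A, a ^ 2 = 1) {x y : X} (hx : x ∈ A)
    (hy : y ∈ A) : x * y = y * x :=
  mul_comm_of_sq_eq_one (h x hx) (h y hy) (h _ (A.mul_mem hx hy))

/-- A subgroup of exponent 2 is elementary abelian. -/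
theorem isElementaryAbelian_two_of_sq (A : Subgroup X) (h : ∀ a ∈ A, a ^ 2 = 1) :
    IsElementaryAbelian 2 A := by
  refine ⟨⟨⟨fun x y => ?_⟩⟩, h⟩
  apply Subtype.ext
  exact mul_comm_of_exp_two h x.2 y.2

/-- A subgroup of exponent 2 centralizes itself. -/
theorem le_centralizer_self_of_exp_two {A : Subgroup X} (h : ∀ a ∈ A, a ^ 2 = 1) :
    A ≤ Subgroup.centralizer (A : Set X) := by
  intro x hx
  rw [Subgroup.mem_centralizer_iff]
  intro y hy
  exact mul_comm_of_exp_two h hy hx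

/-- The join of two subgroups of exponent 2 that commute elementwise has exponent 2. -/
theorem exp_two_sup {W Z : Subgroup X} (hW : ∀ w ∈ W, w ^ 2 = 1) (hZ : ∀ z ∈ Z, z ^ 2 = 1)
    (hc : W ≤ Subgroup.centralizer (Z : Set X)) : ∀ x ∈ W ⊔ Z, x ^ 2 = 1 := by
  intro x hx
  have hn : W ≤ Subgroup.normalizer (Z : Set X) := hc.trans (Subgroup.centralizer_le_normalizer _)
  have : x ∈ ((W ⊔ Z : Subgroup X) : Set X) := hx
  rw [Subgroup.coe_mul_of_left_le_normalizer_right W Z hn] at this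
  obtain ⟨w, hw, z, hz, rfl⟩ := this
  have hwz : z * w = w * z := (Subgroup.mem_centralizer_iff.mp (hc hw)) z hz
  calc (w * z) ^ 2 = w * (z * w) * z := by rw [sq]; group
    _ = w * (w * z) * z := by rw [hwz]
    _ = w ^ 2 * z ^ 2 := by rw [sq, sq]; group
    _ = 1 := by rw [hW w hw, hZ z hz, one_mul]

/-- `zpowers` of an involution has exponent 2. -/
theorem exp_two_zpowers {e : X} (he : e ^ 2 = 1) : ∀ z ∈ Subgroup.zpowers e, z ^ 2 = 1 := by
  intro z hz
  obtain ⟨k, rfl⟩ := Subgroup.mem_zpowers_iff.mp hz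
  rw [← zpow_natCast, ← zpow_mul, mul_comm, zpow_mul, zpow_natCast, he, one_zpow]

/-- `zpowers` of a nontrivial involution has order 2. -/
theorem card_zpowers_of_sq {e : X} (he : e ^ 2 = 1) (h1 : e ≠ 1) :
    Nat.card (Subgroup.zpowers e) = 2 := by
  rw [Nat.card_zpowers]
  exact orderOf_eq_prime he h1

/-- Adjoining a commuting involution outside a finite subgroup doubles the order. -/
theorem card_sup_zpowers [Finite X] {W : Subgroup X} {e : X} (he : e ^ 2 = 1) (heW : e ∉ W)
    (hc : Subgroup.zpowers e ≤ Subgroup.centralizer (W : Set X)) :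
    Nat.card ↥(W ⊔ Subgroup.zpowers e) = 2 * Nat.card W := by
  have h1 : e ≠ 1 := fun h => heW (h ▸ W.one_mem)
  have hn : Subgroup.zpowers e ≤ Subgroup.normalizer (W : Set X) :=
    hc.trans (Subgroup.centralizer_le_normalizer _)
  have hdvd := Cfsg.Agent.Lib.Helper29.card_sup_dvd_of_le_normalizer W (Subgroup.zpowers e) hn
  rw [card_zpowers_of_sq he h1] at hdvd
  have hle : W ≤ W ⊔ Subgroup.zpowers e := le_sup_left
  have hdvd2 : Nat.card W ∣ Nat.card ↥(W ⊔ Subgroup.zpowers e) := Subgroup.card_dvd_of_le hle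
  obtain ⟨m, hm⟩ := hdvd2
  have hWpos : 0 < Nat.card W := Nat.card_pos
  have hne : W ≠ W ⊔ Subgroup.zpowers e := by
    intro h
    apply heW
    rw [h]
    exact (le_sup_right : Subgroup.zpowers e ≤ W ⊔ Subgroup.zpowers e) (Subgroup.mem_zpowers e)
  have hm1 : m ≠ 1 := by
    rintro rfl
    rw [mul_one] at hm
    exact hne (Subgroup.eq_of_le_of_card_ge hle hm.le)
  have hm0 : m ≠ 0 := by
    rintro rfl
    rw [mul_zero] at hm
    have : 0 < Nat.card ↥(W ⊔ Subgroup.zpowers e) := Nat.card_pos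
    omega
  have hm2 : m ∣ 2 := by
    rw [hm] at hdvd
    exact (Nat.mul_dvd_mul_iff_left hWpos).mp hdvd
  have : m = 2 := by
    have := Nat.le_of_dvd (by norm_num) hm2
    omega
  rw [hm, this, mul_comm]

/-- If `card G' < card F` then `F` has an element outside `G'`. -/
theorem exists_mem_not_mem_of_card_lt [Finite X] {F G' : Subgroup X}
    (h : Nat.card G' < Nat.card F) : ∃ f ∈ F, f ∉ G' := by
  by_contra hcon
  push Not at hcon
  have hle : F ≤ G' := hcon
  exact absurd (Subgroup.card_le_of_le hle) (not_le.mpr h)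

/-- An involution `v` normalizing a subgroup `F` of exponent 2 centralizes at least
`sqrt |F|` elements of `F`. -/
theorem card_le_card_centralizer_sq [Finite X] (F : Subgroup X) (hF : ∀ f ∈ F, f ^ 2 = 1) (v : X)
    (hv : v ^ 2 = 1) (hn : ∀ f ∈ F, v * f * v⁻¹ ∈ F) :
    Nat.card F ≤ Nat.card ↥(F ⊓ Subgroup.centralizer {v}) ^ 2 := by
  have hvinv : v⁻¹ = v := by rw [inv_eq_iff_mul_eq_one, ← sq, hv]
  -- the homomorphism `f ↦ f * f^v`
  let φ : ↥F →* X :=
    { toFun := fun f => (f : X) * (v * f * v⁻¹)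
      map_one' := by simp
      map_mul' := by
        intro f g
        have h1 : (g : X) * (v * f * v⁻¹) = (v * f * v⁻¹) * g :=
          mul_comm_of_exp_two hF g.2 (hn f f.2)
        calc ((f * g : ↥F) : X) * (v * ((f * g : ↥F) : X) * v⁻¹)
            = (f : X) * ((g : X) * (v * f * v⁻¹)) * (v * g * v⁻¹) := by
              rw [Subgroup.coe_mul]; group
          _ = (f : X) * ((v * f * v⁻¹) * g) * (v * g * v⁻¹) := by rw [h1]
          _ = (f : X) * (v * f * v⁻¹) * ((g : X) * (v * g * v⁻¹)) := by group }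
  have hφ : ∀ f : ↥F, φ f = (f : X) * (v * f * v⁻¹) := fun _ => rfl
  have hker : φ.ker.map F.subtype ≤ F ⊓ Subgroup.centralizer {v} := by
    rintro x ⟨f, hf, rfl⟩
    refine ⟨f.2, ?_⟩
    show F.subtype f ∈ Subgroup.centralizer {v}
    rw [Subgroup.mem_centralizer_singleton_iff]
    have h1 : (f : X) * (v * f * v⁻¹) = 1 := by
      have := MonoidHom.mem_ker.mp hf
      rwa [hφ] at this
    have hfinv : (f : X)⁻¹ = f := by rw [inv_eq_iff_mul_eq_one, ← sq, hF f f.2]
    have h2 : v * f * v⁻¹ = f := by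
      have := eq_inv_of_mul_eq_one_right h1
      rw [hfinv] at this
      exact this
    symm
    calc v * (F.subtype f) = (v * f * v⁻¹) * v := by simp
      _ = (f : X) * v := by rw [h2]
  have hrange : φ.range ≤ F ⊓ Subgroup.centralizer {v} := by
    rintro x ⟨f, rfl⟩
    refine ⟨F.mul_mem f.2 (hn f f.2), ?_⟩
    show φ f ∈ Subgroup.centralizer {v}
    rw [Subgroup.mem_centralizer_singleton_iff, hφ]
    have h1 : (v * f * v⁻¹) * (f : X) = (f : X) * (v * f * v⁻¹) :=
      mul_comm_of_exp_two hF (hn f f.2) f.2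
    have hvv : v * v = 1 := by rw [← sq, hv]
    have hg : v * (v * f * v⁻¹) * v⁻¹ = f := by
      calc v * (v * (f : X) * v⁻¹) * v⁻¹ = (v * v) * f * (v * v)⁻¹ := by group
        _ = f := by rw [hvv]; simp
    symm
    calc v * ((f : X) * (v * f * v⁻¹)) = (v * f * v⁻¹) * (v * (v * f * v⁻¹) * v⁻¹) * v := by group
      _ = (v * f * v⁻¹) * f * v := by rw [hg]
      _ = (f : X) * (v * f * v⁻¹) * v := by rw [h1]
  have hcard : Nat.card F = Nat.card φ.range * Nat.card φ.ker := by
    rw [Subgroup.card_eq_card_quotient_mul_card_subgroup φ.ker,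
      Nat.card_congr (QuotientGroup.quotientKerEquivRange φ).toEquiv]
  have h1 : Nat.card φ.ker ≤ Nat.card ↥(F ⊓ Subgroup.centralizer {v}) := by
    have h3 : Nat.card (φ.ker.map F.subtype) = Nat.card φ.ker :=
      Subgroup.card_map_of_injective F.subtype_injective
    rw [← h3]
    exact Subgroup.card_le_of_le hker
  have h2 : Nat.card φ.range ≤ Nat.card ↥(F ⊓ Subgroup.centralizer {v}) :=
    Subgroup.card_le_of_le hrange
  rw [hcard, sq]
  exact Nat.mul_le_mul h2 h1

end Cfsg.Agent.Lib.Helper38
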