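import Mathlib

set_option autoImplicit false
universe u v
open scoped IsMulCommutative commutatorElement

namespace Cfsg.Agent.Lib.Helper38

/-- number of homomorphisms to a group of order 2 is at most the order -/
theorem card_monoidHom_le_of_card_two (Z : Type v) [Group Z] (hZ : Nat.card Z = 2) :
    ∀ n : ℕ, ∀ (A : Type u) [Group A] [Finite A], Nat.card A = n → Nat.card (A →* Z) ≤ Nat.card A := by
  have hZfin : Finite Z := Nat.finite_of_card_ne_zero (by omega)
  intro n
  induction n using Nat.strong_induction_on with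
  | _ n IH =>
  intro A _ _ hn
  have hpos : 0 < Nat.card A := Nat.card_pos
  by_cases htriv : ∀ ψ : A →* Z, ψ = 1
  · have : Subsingleton (A →* Z) := ⟨fun a b => by rw [htriv a, htriv b]⟩
    have : Nat.card (A →* Z) ≤ 1 := Finite.card_le_one_iff_subsingleton.mpr this
    omega
  · push Not at htriv
    obtain ⟨χ, hχ⟩ := htriv
    -- χ is surjective
    have hrange : χ.range = ⊤ := by
      have hne : χ.range ≠ ⊥ := by
        intro h
        apply hχ
        ext a
        have : χ a ∈ χ.range := ⟨a, rfl⟩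
        rw [h, Subgroup.mem_bot] at this
        simpa using this
      have hcard : Nat.card χ.range ∣ 2 := hZ ▸ Subgroup.card_subgroup_dvd_card χ.range
      have h1 : Nat.card χ.range ≠ 1 := fun h => hne (Subgroup.card_eq_one.mp h)
      have h2 : Nat.card χ.range = 2 := by
        rcases (Nat.dvd_prime Nat.prime_two).mp hcard with h | h
        · exact absurd h h1
        · exact h
      exact Subgroup.eq_top_of_card_eq _ (h2.trans hZ.symm)
    have hindex : χ.ker.index = 2 := by
      rw [Subgroup.index_ker, hrange]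
      rw [Nat.card_congr Subgroup.topEquiv.toEquiv, hZ]
    -- a₀ ∉ ker
    have hkt : χ.ker ≠ ⊤ := by
      intro h
      rw [h, Subgroup.index_top] at hindex
      omega
    obtain ⟨a₀, ha₀⟩ : ∃ a₀ : A, a₀ ∉ χ.ker := by
      by_contra hcon
      push Not at hcon
      exact hkt (eq_top_iff.mpr fun a _ => hcon a)
    -- injection
    let F : (A →* Z) → (↥χ.ker →* Z) × Z := fun ψ => (ψ.comp χ.ker.subtype, ψ a₀)
    have hF : Function.Injective F := by
      intro ψ₁ ψ₂ h
      have h1 : ψ₁.comp χ.ker.subtype = ψ₂.comp χ.ker.subtype := congrArg Prod.fst h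
      have h2 : ψ₁ a₀ = ψ₂ a₀ := congrArg Prod.snd h
      ext a
      by_cases ha : a ∈ χ.ker
      · exact DFunLike.congr_fun h1 ⟨a, ha⟩
      · have hmem : a₀⁻¹ * a ∈ χ.ker := by
          rw [Subgroup.mul_mem_iff_of_index_two hindex]
          constructor
          · intro h; exact absurd (by simpa using χ.ker.inv_mem h) ha₀
          · intro h; exact absurd h ha
        have h3 := DFunLike.congr_fun h1 ⟨a₀⁻¹ * a, hmem⟩
        have h4 : ψ₁ (a₀⁻¹ * a) = ψ₂ (a₀⁻¹ * a) := h3
        calc ψ₁ a = ψ₁ (a₀ * (a₀⁻¹ * a)) := by rw [mul_inv_cancel_left]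
          _ = ψ₁ a₀ * ψ₁ (a₀⁻¹ * a) := map_mul _ _ _
          _ = ψ₂ a₀ * ψ₂ (a₀⁻¹ * a) := by rw [h2, h4]
          _ = ψ₂ (a₀ * (a₀⁻¹ * a)) := (map_mul _ _ _).symm
          _ = ψ₂ a := by rw [mul_inv_cancel_left]
    have hcardK : Nat.card ↥χ.ker * 2 = Nat.card A := by
      rw [← hindex]; exact Subgroup.card_mul_index χ.ker
    have hKlt : Nat.card ↥χ.ker < n := by omega
    have hIH := IH _ hKlt ↥χ.ker rfl
    have hfinK : Finite (↥χ.ker →* Z) := Finite.of_injective (fun f => (f : ↥χ.ker → Z)) DFunLike.coe_injective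
    have hle := Nat.card_le_card_of_injective F hF
    rw [Nat.card_prod, hZ] at hle
    omega

section
variable {P : Type u} [Group P]

/-- the "commutator" homomorphism of a central automorphism -/
def gOf (α : MulAut P) (hα : ∀ y, α y * y⁻¹ ∈ Subgroup.center P) : P →* ↥(Subgroup.center P) :=
  MonoidHom.mk' (fun y => ⟨α y * y⁻¹, hα y⟩) (by
    intro y y'
    apply Subtype.ext
    show α (y * y') * (y * y')⁻¹ = (α y * y⁻¹) * (α y' * y'⁻¹)
    have hc := Subgroup.mem_center_iff.mp (hα y') y⁻¹
    rw [map_mul, mul_inv_rev]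
    calc α y * α y' * (y'⁻¹ * y⁻¹) = α y * ((α y' * y'⁻¹) * y⁻¹) := by group
      _ = α y * (y⁻¹ * (α y' * y'⁻¹)) := by rw [hc]
      _ = α y * y⁻¹ * (α y' * y'⁻¹) := by group)

theorem gOf_apply (α : MulAut P) (hα : ∀ y, α y * y⁻¹ ∈ Subgroup.center P) (y : P) :
    ((gOf α hα y : ↥(Subgroup.center P)) : P) = α y * y⁻¹ := rfl

def gLift (α : MulAut P) (hα : ∀ y, α y * y⁻¹ ∈ Subgroup.center P)
    (hαc : ∀ c ∈ Subgroup.center P, α c = c) : (P ⧸ Subgroup.center P) →* ↥(Subgroup.center P) :=
  QuotientGroup.lift (Subgroup.center P) (gOf α hα) (by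
    intro c hc
    apply Subtype.ext
    rw [gOf_apply, hαc c hc]
    simp)

theorem gLift_mk (α : MulAut P) (hα : ∀ y, α y * y⁻¹ ∈ Subgroup.center P)
    (hαc : ∀ c ∈ Subgroup.center P, α c = c) (y : P) :
    ((gLift α hα hαc (QuotientGroup.mk y) : ↥(Subgroup.center P)) : P) = α y * y⁻¹ := rfl

theorem conj_central (hcomm : commutator P ≤ Subgroup.center P) (q y : P) :
    (MulAut.conj q) y * y⁻¹ ∈ Subgroup.center P := by
  apply hcomm
  rw [commutator_def]
  have : (MulAut.conj q) y * y⁻¹ = ⁅q, y⁆ := by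
    rw [commutatorElement_def, MulAut.conj_apply]
  rw [this]
  exact Subgroup.commutator_mem_commutator (Subgroup.mem_top q) (Subgroup.mem_top y)

theorem conj_fix_center (q c : P) (hc : c ∈ Subgroup.center P) : (MulAut.conj q) c = c := by
  rw [MulAut.conj_apply]
  have := Subgroup.mem_center_iff.mp hc q
  rw [this]; group

def Psi (hcomm : commutator P ≤ Subgroup.center P) :
    P →* ((P ⧸ Subgroup.center P) →* ↥(Subgroup.center P)) :=
  MonoidHom.mk' (fun q => gLift (MulAut.conj q) (conj_central hcomm q) (fun c hc => conj_fix_center q c hc)) (by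
    intro q q'
    ext y
    · show ((gLift (MulAut.conj (q * q')) (conj_central hcomm (q * q')) (fun c hc => conj_fix_center (q * q') c hc) (QuotientGroup.mk y) : ↥(Subgroup.center P)) : P) =
        ((gLift (MulAut.conj q) (conj_central hcomm q) (fun c hc => conj_fix_center q c hc) (QuotientGroup.mk y) : ↥(Subgroup.center P)) : P) *
        ((gLift (MulAut.conj q') (conj_central hcomm q') (fun c hc => conj_fix_center q' c hc) (QuotientGroup.mk y) : ↥(Subgroup.center P)) : P)
      rw [gLift_mk, gLift_mk, gLift_mk]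
      simp only [MulAut.conj_apply]
      have hc' := Subgroup.mem_center_iff.mp (conj_central hcomm q' y)
      simp only [MulAut.conj_apply] at hc'
      have h1 := hc' q⁻¹
      calc q * q' * y * (q * q')⁻¹ * y⁻¹ = q * ((q' * y * q'⁻¹ * y⁻¹) * y * q⁻¹) * y⁻¹ := by group
        _ = q * (q' * y * q'⁻¹ * y⁻¹) * (y * q⁻¹ * y⁻¹) := by group
        _ = (q' * y * q'⁻¹ * y⁻¹) * q * (y * q⁻¹ * y⁻¹) := by rw [hc' q]
        _ = (q' * y * q'⁻¹ * y⁻¹) * (q * y * q⁻¹ * y⁻¹) := by group
        _ = (q * y * q⁻¹ * y⁻¹) * (q' * y * q'⁻¹ * y⁻¹) := (hc' _).symm)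

theorem Psi_apply (hcomm : commutator P ≤ Subgroup.center P) (q y : P) :
    ((Psi hcomm q (QuotientGroup.mk y) : ↥(Subgroup.center P)) : P) = q * y * q⁻¹ * y⁻¹ := rfl

theorem Psi_ker (hcomm : commutator P ≤ Subgroup.center P) : (Psi hcomm).ker = Subgroup.center P := by
  ext q
  rw [MonoidHom.mem_ker, Subgroup.mem_center_iff]
  constructor
  · intro h y
    have := congrArg (fun f => ((f (QuotientGroup.mk y) : ↥(Subgroup.center P)) : P)) h
    simp only [Psi_apply] at this
    have h2 : q * y * q⁻¹ * y⁻¹ = 1 := this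
    have h3 := congrArg (fun u => u * y * q) h2
    simp only [one_mul] at h3
    rw [← h3]; group
  · intro h
    ext y
    · show ((Psi hcomm q (QuotientGroup.mk y) : ↥(Subgroup.center P)) : P) = 1
      rw [Psi_apply]
      have := h y
      calc q * y * q⁻¹ * y⁻¹ = (y * q) * q⁻¹ * y⁻¹ := by rw [← this]
        _ = 1 := by group

theorem exists_inner_of_central_aut [Finite P]
    (hcomm : commutator P ≤ Subgroup.center P) (hcard : Nat.card (Subgroup.center P) = 2)
    (α : MulAut P) (hα : ∀ y, α y * y⁻¹ ∈ Subgroup.center P) (hαc : ∀ c ∈ Subgroup.center P, α c = c) :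
    ∃ q : P, ∀ y, α y = q * y * q⁻¹ := by
  have hfin : Finite ((P ⧸ Subgroup.center P) →* ↥(Subgroup.center P)) :=
    Finite.of_injective (fun f => (f : (P ⧸ Subgroup.center P) → ↥(Subgroup.center P))) DFunLike.coe_injective
  have h1 : Nat.card (Psi hcomm).range = Nat.card (P ⧸ Subgroup.center P) := by
    rw [← Subgroup.index_ker, Psi_ker, Subgroup.index_eq_card]
  have h2 := card_monoidHom_le_of_card_two ↥(Subgroup.center P) hcard _ (P ⧸ Subgroup.center P) rfl
  have htop : (Psi hcomm).range = ⊤ := Subgroup.eq_top_of_le_card _ (by rw [h1]; exact h2)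
  have hmem : gLift α hα hαc ∈ (Psi hcomm).range := by rw [htop]; exact Subgroup.mem_top _
  obtain ⟨q, hq⟩ := hmem
  refine ⟨q, fun y => ?_⟩
  have := congrArg (fun f => ((f (QuotientGroup.mk y) : ↥(Subgroup.center P)) : P)) hq
  simp only [Psi_apply, gLift_mk] at this
  have h3 := congrArg (fun u => u * y) this
  simp only [inv_mul_cancel_right] at h3
  exact h3.symm

end

/-- in a group of order two, two nonidentity elements coincide -/
theorem eq_of_ne_one_of_card_two {Z : Type*} [Group Z] (hZ : Nat.card Z = 2) (a b : Z)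
    (ha : a ≠ 1) (hb : b ≠ 1) : a = b := by
  obtain ⟨x, y, hxy, huniv⟩ := Nat.card_eq_two_iff.mp hZ
  have h1 : (1 : Z) ∈ ({x, y} : Set Z) := by rw [huniv]; trivial
  have ha' : a ∈ ({x, y} : Set Z) := by rw [huniv]; trivial
  have hb' : b ∈ ({x, y} : Set Z) := by rw [huniv]; trivial
  simp only [Set.mem_insert_iff, Set.mem_singleton_iff] at h1 ha' hb'
  rcases h1 with h1 | h1 <;> rcases ha' with ha' | ha' <;> rcases hb' with hb' | hb' <;>
    first
    | exact absurd (ha'.trans h1.symm) ha
    | exact absurd (hb'.trans h1.symm) hb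
    | exact ha'.trans hb'.symm

end Cfsg.Agent.Lib.Helper38
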