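import Mathlib
import Cfsg.Agent.Lib.Helper38.Extraspecial
import Cfsg.Agent.Lib.Helper38.PGroup
import Cfsg.Agent.Lib.Helper03.Pairing

set_option autoImplicit false
open scoped IsMulCommutative commutatorElement

namespace Cfsg.Agent.Lib.Helper38

section
variable {P : Type*} [Group P]

/-- The commutator `x y x⁻¹ y⁻¹`. -/
def cm (x y : P) : P := x * y * x⁻¹ * y⁻¹

theorem cm_mem_center (hcomm : commutator P ≤ Subgroup.center P) (x y : P) :
    cm x y ∈ Subgroup.center P := by
  apply hcomm
  rw [commutator_def]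
  have : cm x y = ⁅x, y⁆ := by rw [cm, commutatorElement_def]
  rw [this]
  exact Subgroup.commutator_mem_commutator (Subgroup.mem_top x) (Subgroup.mem_top y)

theorem cm_eq_one_iff (x y : P) : cm x y = 1 ↔ x * y = y * x := by
  unfold cm
  constructor
  · intro h
    have := congrArg (fun u => u * y * x) h
    simpa [mul_assoc] using this
  · intro h
    rw [h]; group

theorem cm_mul_left (hcomm : commutator P ≤ Subgroup.center P) (a b y : P) :
    cm (a * b) y = cm a y * cm b y := by
  have h1 := Subgroup.mem_center_iff.mp (cm_mem_center hcomm b y) a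
  have h2 : cm (a * b) y = a * cm b y * y * a⁻¹ * y⁻¹ := by unfold cm; group
  calc cm (a * b) y = a * cm b y * y * a⁻¹ * y⁻¹ := h2
    _ = cm b y * a * y * a⁻¹ * y⁻¹ := by rw [h1]
    _ = cm b y * cm a y := by unfold cm; group
    _ = cm a y * cm b y := ((Subgroup.mem_center_iff.mp (cm_mem_center hcomm b y)) (cm a y)).symm

theorem cm_mul_right (hcomm : commutator P ≤ Subgroup.center P) (x a b : P) :
    cm x (a * b) = cm x a * cm x b := by
  have h1 := Subgroup.mem_center_iff.mp (cm_mem_center hcomm x b) (x * a * x⁻¹)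
  have h2 : cm x (a * b) = (x * a * x⁻¹) * cm x b * a⁻¹ := by unfold cm; group
  calc cm x (a * b) = (x * a * x⁻¹) * cm x b * a⁻¹ := h2
    _ = cm x b * (x * a * x⁻¹) * a⁻¹ := by rw [h1]
    _ = cm x b * cm x a := by unfold cm; group
    _ = cm x a * cm x b := ((Subgroup.mem_center_iff.mp (cm_mem_center hcomm x b)) (cm x a)).symm

theorem cm_one_left (y : P) : cm 1 y = 1 := by unfold cm; group

theorem cm_one_right (x : P) : cm x 1 = 1 := by unfold cm; group

theorem cm_inv_left (hcomm : commutator P ≤ Subgroup.center P) (a y : P) :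
    cm a⁻¹ y = (cm a y)⁻¹ := by
  have h := cm_mul_left hcomm a a⁻¹ y
  rw [mul_inv_cancel, cm_one_left] at h
  exact (inv_eq_of_mul_eq_one_right h.symm).symm

theorem cm_inv_right (hcomm : commutator P ≤ Subgroup.center P) (x a : P) :
    cm x a⁻¹ = (cm x a)⁻¹ := by
  have h := cm_mul_right hcomm x a a⁻¹
  rw [mul_inv_cancel, cm_one_right] at h
  exact (inv_eq_of_mul_eq_one_right h.symm).symm

theorem cm_map (σ : MulAut P) (x y : P) : σ (cm x y) = cm (σ x) (σ y) := by
  unfold cm
  simp [map_mul, map_inv]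

/-- Perp counting in an extraspecial-like 2-group: `|A| * |C_P(A)| = 2 |P|` for `Z(P) ≤ A`. -/
theorem card_mul_card_centralizer [Finite P] (hcomm : commutator P ≤ Subgroup.center P)
    (hcard : Nat.card (Subgroup.center P) = 2) (A : Subgroup P) (hZA : Subgroup.center P ≤ A) :
    Nat.card A * Nat.card (Subgroup.centralizer (A : Set P)) = 2 * Nat.card P := by
  have : Fact (Nat.Prime 2) := ⟨Nat.prime_two⟩
  have hcyc : IsCyclic ↥(Subgroup.center P) := isCyclic_of_prime_card hcard
  let ι : ↥A →* P ⧸ Subgroup.center P := (QuotientGroup.mk' (Subgroup.center P)).comp A.subtype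
  let φ : P →* (↥A →* ↥(Subgroup.center P)) := (MonoidHom.compHom' ι).comp (Psi hcomm)
  have hφ : ∀ (q : P) (a : ↥A), ((φ q a : ↥(Subgroup.center P)) : P) = q * a * q⁻¹ * (a : P)⁻¹ := by
    intro q a
    exact Psi_apply hcomm q a
  have h := Cfsg.Agent.Lib.Helper03.index_ker_flip_eq φ
  have hker : φ.ker = Subgroup.centralizer (A : Set P) := by
    ext q
    rw [MonoidHom.mem_ker, Subgroup.mem_centralizer_iff]
    constructor
    · intro hq a ha
      have h1 : ((φ q ⟨a, ha⟩ : ↥(Subgroup.center P)) : P) = 1 := by rw [hq]; rfl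
      rw [hφ] at h1
      have := (cm_eq_one_iff q a).mp h1
      exact this.symm
    · intro hq
      ext a
      show ((φ q a : ↥(Subgroup.center P)) : P) = 1
      rw [hφ]
      exact (cm_eq_one_iff q a).mpr (hq a a.2).symm
  have hfker : φ.flip.ker = (Subgroup.center P).subgroupOf A := by
    ext a
    rw [MonoidHom.mem_ker, Subgroup.mem_subgroupOf, Subgroup.mem_center_iff]
    constructor
    · intro ha q
      have h1 : ((φ.flip a q : ↥(Subgroup.center P)) : P) = 1 := by rw [ha]; rfl
      rw [MonoidHom.flip_apply, hφ] at h1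
      exact (cm_eq_one_iff q a).mp h1
    · intro ha
      ext q
      show ((φ.flip a q : ↥(Subgroup.center P)) : P) = 1
      rw [MonoidHom.flip_apply, hφ]
      exact (cm_eq_one_iff q a).mpr (ha q)
  rw [hker, hfker] at h
  have h1 := Subgroup.card_mul_index ((Subgroup.center P).subgroupOf A)
  have h2 := Subgroup.card_mul_index (Subgroup.centralizer (A : Set P))
  have h3 : Nat.card ↥((Subgroup.center P).subgroupOf A) = 2 := by
    rw [Nat.card_congr (Subgroup.subgroupOfEquivOfLe hZA).toEquiv, hcard]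
  rw [h3, h] at h1
  rw [← h1, ← h2]
  ring

/-- Involutory automorphism `σ` of an extraspecial-like 2-group `P`, trivial on the centre but not
on `P / Z(P)`: the subgroup generated by the `σ q * q⁻¹` is the centre of
`E0 = {q | σ q * q⁻¹ ∈ Z(P)}`. -/
theorem aut_comm_structure [Finite P] (hP : IsPGroup 2 P)
    (hcomm : commutator P ≤ Subgroup.center P) (hcard : Nat.card (Subgroup.center P) = 2)
    (hsq : ∀ x : P, x ^ 2 ∈ Subgroup.center P)
    (σ : MulAut P) (hσ2 : ∀ x, σ (σ x) = x) (hσc : ∀ c ∈ Subgroup.center P, σ c = c)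
    (hnt : ∃ q, σ q * q⁻¹ ∉ Subgroup.center P) (E0 : Subgroup P)
    (hE0 : ∀ q, q ∈ E0 ↔ σ q * q⁻¹ ∈ Subgroup.center P) :
    Subgroup.closure (Set.range fun q : P => σ q * q⁻¹) ≤ E0 ∧
    Subgroup.centralizer ((Subgroup.closure (Set.range fun q : P => σ q * q⁻¹) : Subgroup P) : Set P) = E0 ∧
    Subgroup.closure (Set.range fun q : P => σ q * q⁻¹) = Subgroup.centralizer (E0 : Set P) ∧
    Subgroup.center P ≤ Subgroup.closure (Set.range fun q : P => σ q * q⁻¹) := by
  have : Fact (Nat.Prime 2) := ⟨Nat.prime_two⟩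
  set d : P → P := fun q => σ q * q⁻¹ with hd
  set R := Subgroup.closure (Set.range d) with hR
  have hdR : ∀ q, d q ∈ R := fun q => Subgroup.subset_closure ⟨q, rfl⟩
  -- (i) R ≤ E0
  have hRE0 : R ≤ E0 := by
    rw [hR, Subgroup.closure_le]
    rintro _ ⟨q, rfl⟩
    rw [SetLike.mem_coe, hE0]
    have e1 : σ (d q) = q * (σ q)⁻¹ := by
      simp only [hd]
      rw [map_mul, hσ2, map_inv]
    have e2 : (d q)⁻¹ = q * (σ q)⁻¹ := by
      simp only [hd]
      rw [mul_inv_rev, inv_inv]
    have h1 : σ (d q) * (d q)⁻¹ = ((d q)⁻¹) ^ 2 := by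
      rw [e1, e2, sq]
    rw [h1]
    exact hsq _
  -- key identity
  have hkey : ∀ q x : P, cm q (d x) = cm (d q) x := by
    intro q x
    have h1 : cm q (σ x) = cm (σ q) x := by
      have h2 : cm q (σ x) = σ (cm (σ q) x) := by rw [cm_map, hσ2]
      rw [h2]
      exact hσc _ (cm_mem_center hcomm _ _)
    simp only [hd]
    rw [cm_mul_right hcomm, cm_inv_right hcomm, cm_mul_left hcomm, cm_inv_left hcomm, h1]
  -- (ii) centralizer R = E0
  have hcent : Subgroup.centralizer (R : Set P) = E0 := by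
    ext q
    rw [hR, Subgroup.centralizer_closure, Subgroup.mem_centralizer_iff, hE0]
    constructor
    · intro hq
      rw [Subgroup.mem_center_iff]
      intro x
      have h1 : cm q (d x) = 1 := (cm_eq_one_iff _ _).mpr (hq _ ⟨x, rfl⟩).symm
      rw [hkey] at h1
      exact ((cm_eq_one_iff _ _).mp h1).symm
    · rintro hq _ ⟨x, rfl⟩
      have h1 : cm (d q) x = 1 := (cm_eq_one_iff _ _).mpr ((Subgroup.mem_center_iff.mp hq) x).symm
      rw [← hkey] at h1
      exact ((cm_eq_one_iff _ _).mp h1).symm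
  -- (iii) R is normal, nontrivial, contains the centre
  have hRn : R.Normal := by
    constructor
    intro r hr x
    induction hr using Subgroup.closure_induction with
    | mem r hr =>
      obtain ⟨q, rfl⟩ := hr
      have h1 : x * d q * x⁻¹ = d (σ x * q) * d x := by
        simp only [hd, map_mul, hσ2, mul_inv_rev]
        group
      rw [h1]
      exact R.mul_mem (hdR _) (hdR _)
    | one => simp
    | mul a b _ _ iha ihb =>
      have : x * (a * b) * x⁻¹ = (x * a * x⁻¹) * (x * b * x⁻¹) := by group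
      rw [this]; exact R.mul_mem iha ihb
    | inv a _ iha =>
      have : x * a⁻¹ * x⁻¹ = (x * a * x⁻¹)⁻¹ := by group
      rw [this]; exact R.inv_mem iha
  have hRne : R ≠ ⊥ := by
    obtain ⟨q, hq⟩ := hnt
    intro hbot
    have h1 : d q ∈ R := hdR q
    rw [hbot, Subgroup.mem_bot] at h1
    apply hq
    show d q ∈ Subgroup.center P
    rw [h1]; exact Subgroup.one_mem _
  have hZR : Subgroup.center P ≤ R := by
    obtain ⟨x, hxR, hxZ, hx1⟩ := normal_inf_center_ne_bot 2 hP R hRne
    intro c hc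
    by_cases hc1 : c = 1
    · rw [hc1]; exact R.one_mem
    · have := eq_of_ne_one_of_card_two hcard (⟨c, hc⟩ : ↥(Subgroup.center P)) ⟨x, hxZ⟩
        (fun h => hc1 (congrArg Subtype.val h)) (fun h => hx1 (congrArg Subtype.val h))
      have h2 : c = x := congrArg Subtype.val this
      rw [h2]; exact hxR
  -- (iv) counting
  have hZE0 : Subgroup.center P ≤ E0 := hZR.trans hRE0
  have c1 := card_mul_card_centralizer hcomm hcard R hZR
  have c2 := card_mul_card_centralizer hcomm hcard E0 hZE0
  rw [hcent] at c1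
  have hRle : R ≤ Subgroup.centralizer (E0 : Set P) := by
    rw [← hcent]
    exact Subgroup.le_centralizer_iff.mp le_rfl
  have hcardeq : Nat.card ↥(Subgroup.centralizer (E0 : Set P)) = Nat.card ↥R := by
    have hpos : 0 < Nat.card ↥E0 := Nat.card_pos
    have : Nat.card ↥E0 * Nat.card ↥(Subgroup.centralizer (E0 : Set P)) = Nat.card ↥E0 * Nat.card ↥R := by
      rw [c2, ← c1, mul_comm]
    exact Nat.eq_of_mul_eq_mul_left hpos this
  have hReq : R = Subgroup.centralizer (E0 : Set P) :=
    Subgroup.eq_of_le_of_card_ge hRle hcardeq.le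
  exact ⟨hRE0, hcent, hReq, hZR⟩

/-- Involutory automorphism `σ` of an extraspecial-like 2-group `P`, trivial on the centre but not
on `P / Z(P)`: the subgroup generated by the `σ q * q⁻¹` is the centre of
`E0 = {q | σ q * q⁻¹ ∈ Z(P)}`. -/
theorem closure_aut_comm_eq [Finite P] (hP : IsPGroup 2 P)
    (hcomm : commutator P ≤ Subgroup.center P) (hcard : Nat.card (Subgroup.center P) = 2)
    (hsq : ∀ x : P, x ^ 2 ∈ Subgroup.center P)
    (σ : MulAut P) (hσ2 : ∀ x, σ (σ x) = x) (hσc : ∀ c ∈ Subgroup.center P, σ c = c)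
    (hnt : ∃ q, σ q * q⁻¹ ∉ Subgroup.center P) (E0 : Subgroup P)
    (hE0 : ∀ q, q ∈ E0 ↔ σ q * q⁻¹ ∈ Subgroup.center P) :
    Subgroup.closure (Set.range fun q : P => σ q * q⁻¹) = E0 ⊓ Subgroup.centralizer (E0 : Set P) := by
  obtain ⟨h1, _, h3, _⟩ := aut_comm_structure hP hcomm hcard hsq σ hσ2 hσc hnt E0 hE0
  apply le_antisymm
  · exact le_inf h1 h3.le
  · rw [← h3]; exact inf_le_right

end

end Cfsg.Agent.Lib.Helper38
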