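import Mathlib
import Cfsg.Agent.Lib.Helper96.FC91Defs
import Cfsg.Agent.Lib.Helper16.QdFrattini
import Cfsg.Agent.Lib.Helper03.PGroupFrattini

/-!
# K-S4291-STAB : the stabiliser of the chain `T ≥ [T,T]` is a 2-group (Burnside)
-/

set_option autoImplicit false

namespace Cfsg.Agent.Lib.Helper38.FC91

universe u

theorem isPGroup_two_of_stab {K : Type u} [Group K] [Finite K] (T : Subgroup K) [T.Normal]
    (hT : IsPGroup 2 T)
    (hCT : Subgroup.centralizer (T : Set K) ≤ T) (D : Subgroup K)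
    (hD : ∀ g ∈ D, ∀ t ∈ T, g * t * g⁻¹ * t⁻¹ ∈ ⁅T, T⁆) : IsPGroup 2 D := by
  have : Fact (Nat.Prime 2) := ⟨Nat.prime_two⟩
  have hcf : ⁅T, T⁆ ≤ (frattini T).map T.subtype := by
    have h1 : (commutator T).map T.subtype = ⁅T, T⁆ := by
      rw [commutator_def, Subgroup.map_commutator, ← MonoidHom.range_eq_map, Subgroup.range_subtype]
    rw [← h1]
    exact Subgroup.map_mono (Cfsg.Agent.Lib.Helper03.commutator_le_frattini_of_isPGroup hT)
  intro g
  obtain ⟨i, hi⟩ := Cfsg.Agent.Lib.Helper16.QdFrattini.exists_pow_mem_centralizer (p := 2) T hT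
    (g : K) (fun y hy => hcf (hD g g.2 y hy))
  have h2 : (g : K) ^ 2 ^ i ∈ T := hCT hi
  obtain ⟨j, hj⟩ := hT ⟨(g : K) ^ 2 ^ i, h2⟩
  refine ⟨i + j, ?_⟩
  apply Subtype.ext
  rw [Subgroup.coe_pow, pow_add, pow_mul]
  have := congrArg Subtype.val hj
  simpa using this

end Cfsg.Agent.Lib.Helper38.FC91
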