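import Mathlib

set_option autoImplicit false

namespace Cfsg.Agent.Lib.Helper38

section
variable {G : Type*} [Group G]

/-- In a finite group, an element conjugating a subgroup into itself normalizes it. -/
theorem mem_normalizer_of_conj_mem [Finite G] (V : Subgroup G) (a : G)
    (h : ∀ x ∈ V, a * x * a⁻¹ ∈ V) : a ∈ Subgroup.normalizer (V : Set G) := by
  rw [Subgroup.mem_normalizer_iff]
  intro x
  refine ⟨h x, fun hx => ?_⟩
  let f : ↥V → ↥V := fun v => ⟨a * v * a⁻¹, h v v.2⟩
  have hinj : Function.Injective f := by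
    intro u v huv
    have h1 : a * (u : G) * a⁻¹ = a * v * a⁻¹ := congrArg Subtype.val huv
    apply Subtype.ext
    exact mul_left_cancel (mul_right_cancel h1)
  have hsurj := Finite.injective_iff_surjective.mp hinj
  obtain ⟨v, hv⟩ := hsurj ⟨a * x * a⁻¹, hx⟩
  have h1 : a * (v : G) * a⁻¹ = a * x * a⁻¹ := congrArg Subtype.val hv
  have h2 : (v : G) = x := mul_left_cancel (mul_right_cancel h1)
  rw [← h2]; exact v.2

/-- The four-group generated by two commuting involutions. -/
def fourSub (z b : G) (hz2 : z * z = 1) (hb2 : b * b = 1) (hzb : z * b = b * z) : Subgroup G where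
  carrier := {x | x = 1 ∨ x = z ∨ x = b ∨ x = z * b}
  one_mem' := Or.inl rfl
  mul_mem' := by
    intro x y hx hy
    have e1 : z * (z * b) = b := by rw [← mul_assoc, hz2, one_mul]
    have e2 : b * z = z * b := hzb.symm
    have e3 : b * (z * b) = z := by rw [← mul_assoc, e2, mul_assoc, hb2, mul_one]
    have e4 : z * b * z = b := by rw [mul_assoc, e2, ← mul_assoc, hz2, one_mul]
    have e5 : z * b * b = z := by rw [mul_assoc, hb2, mul_one]
    have e6 : z * b * (z * b) = 1 := by rw [mul_assoc, e3, hz2]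
    simp only [Set.mem_ofPred_eq] at hx hy ⊢
    rcases hx with hx | hx | hx | hx <;> rcases hy with hy | hy | hy | hy <;> rw [hx, hy]
    · left; rw [one_mul]
    · right; left; rw [one_mul]
    · right; right; left; rw [one_mul]
    · right; right; right; rw [one_mul]
    · right; left; rw [mul_one]
    · left; exact hz2
    · right; right; right; rfl
    · right; right; left; exact e1
    · right; right; left; rw [mul_one]
    · right; right; right; exact e2
    · left; exact hb2
    · right; left; exact e3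
    · right; right; right; rw [mul_one]
    · right; right; left; exact e4
    · right; left; exact e5
    · left; exact e6
  inv_mem' := by
    intro x hx
    have e2 : b * z = z * b := hzb.symm
    have e3 : b * (z * b) = z := by rw [← mul_assoc, e2, mul_assoc, hb2, mul_one]
    have e6 : z * b * (z * b) = 1 := by rw [mul_assoc, e3, hz2]
    simp only [Set.mem_ofPred_eq] at hx ⊢
    rcases hx with hx | hx | hx | hx <;> rw [hx]
    · left; exact inv_one
    · right; left; exact inv_eq_of_mul_eq_one_right hz2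
    · right; right; left; exact inv_eq_of_mul_eq_one_right hb2
    · right; right; right; exact inv_eq_of_mul_eq_one_right e6

theorem mem_fourSub (z b : G) (hz2 : z * z = 1) (hb2 : b * b = 1) (hzb : z * b = b * z) (x : G) :
    x ∈ fourSub z b hz2 hb2 hzb ↔ x = 1 ∨ x = z ∨ x = b ∨ x = z * b := Iff.rfl

/-- If `a` fixes `z` and maps `b` to `z b`, and `a'` fixes `b` and maps `z` to `z b`, then the
normalizer of the four-group `⟨z, b⟩` induces its full automorphism group `S₃`: the centralizer has
index 6 in the normalizer. -/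
theorem relIndex_fourSub [Finite G] (z b a a' : G) (hz1 : z ≠ 1) (hb1 : b ≠ 1) (hzbne : z ≠ b)
    (hz2 : z * z = 1) (hb2 : b * b = 1) (hzb : z * b = b * z)
    (haz : a * z * a⁻¹ = z) (hab : a * b * a⁻¹ = z * b)
    (ha'b : a' * b * a'⁻¹ = b) (ha'z : a' * z * a'⁻¹ = z * b) :
    (Subgroup.centralizer ((fourSub z b hz2 hb2 hzb : Subgroup G) : Set G)).relIndex
      (Subgroup.normalizer ((fourSub z b hz2 hb2 hzb : Subgroup G) : Set G)) = 6 := by
  classical
  set V := fourSub z b hz2 hb2 hzb with hV
  have hzV : z ∈ V := Or.inr (Or.inl rfl)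
  have hbV : b ∈ V := Or.inr (Or.inr (Or.inl rfl))
  have hzbV : z * b ∈ V := Or.inr (Or.inr (Or.inr rfl))
  have hconjmul : ∀ x u v : G, x * (u * v) * x⁻¹ = (x * u * x⁻¹) * (x * v * x⁻¹) := by
    intros; group
  have hconjconj : ∀ x y u : G, (x * y) * u * (x * y)⁻¹ = x * (y * u * y⁻¹) * x⁻¹ := by
    intros; group
  have e1 : z * (z * b) = b := by rw [← mul_assoc, hz2, one_mul]
  have e3 : z * b * b = z := by rw [mul_assoc, hb2, mul_one]
  have hazb : a * (z * b) * a⁻¹ = b := by rw [hconjmul, haz, hab, e1]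
  have ha'zb : a' * (z * b) * a'⁻¹ = z := by rw [hconjmul, ha'z, ha'b, e3]
  have hne2 : z ≠ z * b := fun h => hb1 (left_eq_mul.mp h)
  have hne3 : b ≠ z * b := fun h => hz1 (right_eq_mul.mp h)
  have haN : a ∈ Subgroup.normalizer (V : Set G) := mem_normalizer_of_conj_mem V a (by
    intro x hx
    rcases hx with hx | hx | hx | hx <;> rw [hx]
    · rw [mul_one, mul_inv_cancel]; exact V.one_mem
    · rw [haz]; exact hzV
    · rw [hab]; exact hzbV
    · rw [hazb]; exact hbV)
  have ha'N : a' ∈ Subgroup.normalizer (V : Set G) := mem_normalizer_of_conj_mem V a' (by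
    intro x hx
    rcases hx with hx | hx | hx | hx <;> rw [hx]
    · rw [mul_one, mul_inv_cancel]; exact V.one_mem
    · rw [ha'z]; exact hzbV
    · rw [ha'b]; exact hbV
    · rw [ha'zb]; exact hzV)
  set N := Subgroup.normalizer (V : Set G) with hN
  set K := (Subgroup.centralizer (V : Set G)).subgroupOf N with hK
  show K.index = 6
  let F : ↥N → G × G := fun n => ((n : G) * z * (n : G)⁻¹, (n : G) * b * (n : G)⁻¹)
  have hker : ∀ n n' : ↥N, (QuotientGroup.leftRel K) n n' ↔ (Setoid.ker F) n n' := by
    intro n n'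
    rw [QuotientGroup.leftRel_apply, Setoid.ker_def, hK, Subgroup.mem_subgroupOf,
      Subgroup.mem_centralizer_iff]
    have hcoe : ((n⁻¹ * n' : ↥N) : G) = (n : G)⁻¹ * (n' : G) := rfl
    rw [hcoe]
    constructor
    · intro h
      have h1 := h z hzV
      have h2 := h b hbV
      show ((n : G) * z * (n : G)⁻¹, (n : G) * b * (n : G)⁻¹) =
        ((n' : G) * z * (n' : G)⁻¹, (n' : G) * b * (n' : G)⁻¹)
      apply Prod.ext
      · show (n : G) * z * (n : G)⁻¹ = (n' : G) * z * (n' : G)⁻¹
        calc (n : G) * z * (n : G)⁻¹ = n * (z * ((n : G)⁻¹ * n')) * (n' : G)⁻¹ := by group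
          _ = n * (((n : G)⁻¹ * n') * z) * (n' : G)⁻¹ := by rw [h1]
          _ = (n' : G) * z * (n' : G)⁻¹ := by group
      · show (n : G) * b * (n : G)⁻¹ = (n' : G) * b * (n' : G)⁻¹
        calc (n : G) * b * (n : G)⁻¹ = n * (b * ((n : G)⁻¹ * n')) * (n' : G)⁻¹ := by group
          _ = n * (((n : G)⁻¹ * n') * b) * (n' : G)⁻¹ := by rw [h2]
          _ = (n' : G) * b * (n' : G)⁻¹ := by group
    · intro h
      have h1 : (n : G) * z * (n : G)⁻¹ = (n' : G) * z * (n' : G)⁻¹ := congrArg Prod.fst h
      have h2 : (n : G) * b * (n : G)⁻¹ = (n' : G) * b * (n' : G)⁻¹ := congrArg Prod.snd h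
      have hz' : z * ((n : G)⁻¹ * n') = ((n : G)⁻¹ * n') * z := by
        calc z * ((n : G)⁻¹ * n') = (n : G)⁻¹ * (n * z * (n : G)⁻¹) * n' := by group
          _ = (n : G)⁻¹ * (n' * z * (n' : G)⁻¹) * n' := by rw [h1]
          _ = ((n : G)⁻¹ * n') * z := by group
      have hb' : b * ((n : G)⁻¹ * n') = ((n : G)⁻¹ * n') * b := by
        calc b * ((n : G)⁻¹ * n') = (n : G)⁻¹ * (n * b * (n : G)⁻¹) * n' := by group
          _ = (n : G)⁻¹ * (n' * b * (n' : G)⁻¹) * n' := by rw [h2]
          _ = ((n : G)⁻¹ * n') * b := by group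
      intro x hx
      rcases hx with hx | hx | hx | hx <;> rw [hx]
      · rw [one_mul, mul_one]
      · exact hz'
      · exact hb'
      · rw [mul_assoc, hb', ← mul_assoc, hz', mul_assoc]
  let S : Finset (G × G) := {(z, b), (z, z * b), (b, z), (b, z * b), (z * b, z), (z * b, b)}
  have hScard : S.card = 6 := by
    simp only [S]
    rw [Finset.card_insert_of_notMem, Finset.card_insert_of_notMem, Finset.card_insert_of_notMem,
      Finset.card_insert_of_notMem, Finset.card_insert_of_notMem, Finset.card_singleton]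
    all_goals simp [hzbne, hne2, hne3, hzbne.symm, hne2.symm, hne3.symm]
  have hrange : Set.range F = (↑S : Set (G × G)) := by
    ext p
    constructor
    · rintro ⟨n, rfl⟩
      have hnz : (n : G) * z * (n : G)⁻¹ ∈ V := (Subgroup.mem_normalizer_iff.mp n.2 z).mp hzV
      have hnb : (n : G) * b * (n : G)⁻¹ ∈ V := (Subgroup.mem_normalizer_iff.mp n.2 b).mp hbV
      have hnz1 : (n : G) * z * (n : G)⁻¹ ≠ 1 := by
        intro h; apply hz1
        have : z = (n : G)⁻¹ * ((n : G) * z * (n : G)⁻¹) * n := by group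
        rw [this, h]; group
      have hnb1 : (n : G) * b * (n : G)⁻¹ ≠ 1 := by
        intro h; apply hb1
        have : b = (n : G)⁻¹ * ((n : G) * b * (n : G)⁻¹) * n := by group
        rw [this, h]; group
      have hnzb : (n : G) * z * (n : G)⁻¹ ≠ (n : G) * b * (n : G)⁻¹ := by
        intro h; apply hzbne
        exact mul_left_cancel (mul_right_cancel h)
      show ((n : G) * z * (n : G)⁻¹, (n : G) * b * (n : G)⁻¹) ∈ (↑S : Set (G × G))
      generalize (n : G) * z * (n : G)⁻¹ = u at *
      generalize (n : G) * b * (n : G)⁻¹ = v at *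
      rcases hnz with hu | hu | hu | hu
      · exact absurd hu hnz1
      all_goals
        rcases hnb with hv | hv | hv | hv
        · exact absurd hv hnb1
        all_goals
          first
          | exact absurd (hu.trans hv.symm) hnzb
          | (rw [hu, hv]; simp [S])
    · intro hp
      simp only [S, Finset.coe_insert, Finset.coe_singleton, Set.mem_insert_iff,
        Set.mem_singleton_iff] at hp
      rcases hp with rfl | rfl | rfl | rfl | rfl | rfl
      · refine ⟨1, ?_⟩
        show (((1 : ↥N) : G) * z * ((1 : ↥N) : G)⁻¹, ((1 : ↥N) : G) * b * ((1 : ↥N) : G)⁻¹) = (z, b)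
        simp
      · refine ⟨⟨a, haN⟩, ?_⟩
        show (a * z * a⁻¹, a * b * a⁻¹) = (z, z * b)
        rw [haz, hab]
      · refine ⟨⟨a * a' * a, N.mul_mem (N.mul_mem haN ha'N) haN⟩, ?_⟩
        show ((a * a' * a) * z * (a * a' * a)⁻¹, (a * a' * a) * b * (a * a' * a)⁻¹) = (b, z)
        rw [hconjconj, hconjconj, haz, ha'z, hazb, hconjconj (a * a') a b, hconjconj a a', hab,
          ha'zb, haz]
      · refine ⟨⟨a * a', N.mul_mem haN ha'N⟩, ?_⟩
        show ((a * a') * z * (a * a')⁻¹, (a * a') * b * (a * a')⁻¹) = (b, z * b)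
        rw [hconjconj, hconjconj, ha'z, hazb, ha'b, hab]
      · refine ⟨⟨a' * a, N.mul_mem ha'N haN⟩, ?_⟩
        show ((a' * a) * z * (a' * a)⁻¹, (a' * a) * b * (a' * a)⁻¹) = (z * b, z)
        rw [hconjconj, hconjconj, haz, ha'z, hab, ha'zb]
      · refine ⟨⟨a', ha'N⟩, ?_⟩
        show (a' * z * a'⁻¹, a' * b * a'⁻¹) = (z * b, b)
        rw [ha'z, ha'b]
  have e := (Quotient.congrRight hker).trans (Setoid.quotientKerEquivRange F)
  rw [Subgroup.index]
  have h1 : Nat.card (↥N ⧸ K) = Nat.card ↥(Set.range F) := Nat.card_congr e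
  rw [h1, hrange, Nat.card_coe_set_eq, Set.ncard_coe_finset, hScard]

end

end Cfsg.Agent.Lib.Helper38
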