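import Mathlib
import Cfsg.Agent.Lib.Helper38.ExtraspecialInv

set_option autoImplicit false
open scoped IsMulCommutative commutatorElement

namespace Cfsg.Agent.Lib.Helper38

section abstractPart
variable {P : Type*} [Group P]

theorem cm_central_right (x ζ : P) (hζ : ζ ∈ Subgroup.center P) : cm x ζ = 1 := by
  rw [cm_eq_one_iff]; exact Subgroup.mem_center_iff.mp hζ x

theorem cm_central_left (ζ y : P) (hζ : ζ ∈ Subgroup.center P) : cm ζ y = 1 := by
  rw [cm_eq_one_iff]; exact (Subgroup.mem_center_iff.mp hζ y).symm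

/-- The subgroup `{q | σ q * q⁻¹ ∈ Z(P)}` attached to an automorphism `σ`. -/
def autE0 (σ : MulAut P) : Subgroup P where
  carrier := {q | σ q * q⁻¹ ∈ Subgroup.center P}
  one_mem' := by simp
  mul_mem' := by
    intro a b ha hb
    simp only [Set.mem_ofPred_eq] at *
    have h2 : a * (σ b * b⁻¹) * a⁻¹ = σ b * b⁻¹ := by
      rw [Subgroup.mem_center_iff.mp hb a]; group
    have h : σ (a * b) * (a * b)⁻¹ = (σ a * a⁻¹) * (a * (σ b * b⁻¹) * a⁻¹) := by
      rw [map_mul]; group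
    rw [h, h2]
    exact Subgroup.mul_mem _ ha hb
  inv_mem' := by
    intro a ha
    simp only [Set.mem_ofPred_eq] at *
    have hinv := Subgroup.inv_mem _ ha
    have h2 : a⁻¹ * (σ a * a⁻¹)⁻¹ * a = (σ a * a⁻¹)⁻¹ := by
      rw [Subgroup.mem_center_iff.mp hinv a⁻¹]; group
    have h : σ a⁻¹ * a⁻¹⁻¹ = a⁻¹ * (σ a * a⁻¹)⁻¹ * a := by
      rw [map_inv]; group
    rw [h, h2]
    exact hinv

theorem mem_autE0 (σ : MulAut P) (q : P) :
    q ∈ autE0 σ ↔ σ q * q⁻¹ ∈ Subgroup.center P := Iff.rfl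

/-- If an involutory automorphism `σ` of an extraspecial-like 2-group fixes every `q` with
`σ q * q⁻¹` central, and `σ` is the commutator of two automorphisms acting trivially on
`Fix(σ)` modulo the centre, then `σ` is trivial. -/
theorem aut_eq_id_of_commutator [Finite P] (hP : IsPGroup 2 P)
    (hcomm : commutator P ≤ Subgroup.center P) (hcard : Nat.card (Subgroup.center P) = 2)
    (hsq : ∀ x : P, x ^ 2 ∈ Subgroup.center P)
    (σ : MulAut P) (hσ2 : ∀ x, σ (σ x) = x) (hσc : ∀ c ∈ Subgroup.center P, σ c = c)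
    (hbad : ∀ q, σ q * q⁻¹ ∈ Subgroup.center P → σ q = q)
    (ρ₁ ρ₂ : MulAut P) (hρ₁c : ∀ c ∈ Subgroup.center P, ρ₁ c = c)
    (hρ₂c : ∀ c ∈ Subgroup.center P, ρ₂ c = c)
    (hρ₁ : ∀ f, σ f = f → ρ₁ f * f⁻¹ ∈ Subgroup.center P)
    (hρ₂ : ∀ f, σ f = f → ρ₂ f * f⁻¹ ∈ Subgroup.center P)
    (hcommρ : ∀ q, ρ₁ (ρ₂ q) = σ (ρ₂ (ρ₁ q))) :
    ∀ q, σ q = q := by
  by_cases hnt : ∃ q, σ q * q⁻¹ ∉ Subgroup.center P
  swap
  · push Not at hnt
    exact fun q => hbad q (hnt q)
  obtain ⟨hDE, -, hDeq, -⟩ :=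
    aut_comm_structure hP hcomm hcard hsq σ hσ2 hσc hnt (autE0 σ) (mem_autE0 σ)
  have hfix : ∀ f ∈ autE0 σ, σ f = f := fun f hf => hbad f hf
  have hstep3 : ∀ (ρ : MulAut P), (∀ c ∈ Subgroup.center P, ρ c = c) →
      (∀ f, σ f = f → ρ f * f⁻¹ ∈ Subgroup.center P) →
      ∀ q, ρ q * q⁻¹ ∈ Subgroup.centralizer ((autE0 σ : Subgroup P) : Set P) := by
    intro ρ hρc hρ q
    rw [Subgroup.mem_centralizer_iff]
    intro f hf
    have hζ := hρ f (hfix f hf)
    have h1 : cm (ρ q) (ρ f) = cm q f := by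
      rw [← cm_map]; exact hρc _ (cm_mem_center hcomm q f)
    have h2 : ρ f = (ρ f * f⁻¹) * f := by group
    have h3 : cm (ρ q) (ρ f) = cm (ρ q) f := by
      conv_lhs => rw [h2]
      rw [cm_mul_right hcomm, cm_central_right _ _ hζ, one_mul]
    have h4 : cm (ρ q * q⁻¹) f = 1 := by
      rw [cm_mul_left hcomm, cm_inv_left hcomm, ← h3, h1, mul_inv_cancel]
    exact ((cm_eq_one_iff _ _).mp h4).symm
  have hcentE0 : Subgroup.centralizer ((autE0 σ : Subgroup P) : Set P) ≤ autE0 σ := by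
    rw [← hDeq]; exact hDE
  intro w
  obtain ⟨q, rfl⟩ : ∃ q, ρ₂ (ρ₁ q) = w := ⟨ρ₁.symm (ρ₂.symm w), by simp⟩
  apply hbad
  rw [← hcommρ]
  have hd₁C := hstep3 ρ₁ hρ₁c hρ₁ q
  have hd₂C := hstep3 ρ₂ hρ₂c hρ₂ q
  have hd₁E := hcentE0 hd₁C
  have hd₂E := hcentE0 hd₂C
  have hζ₂ := hρ₂ _ (hfix _ hd₁E)
  have hζ₁ := hρ₁ _ (hfix _ hd₂E)
  have hcomm12 : (ρ₁ q * q⁻¹) * (ρ₂ q * q⁻¹) = (ρ₂ q * q⁻¹) * (ρ₁ q * q⁻¹) :=
    Subgroup.mem_centralizer_iff.mp hd₂C _ hd₁E
  generalize hd₁ : ρ₁ q * q⁻¹ = d₁ at *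
  generalize hd₂ : ρ₂ q * q⁻¹ = d₂ at *
  have e1 : ρ₁ q = d₁ * q := by rw [← hd₁]; group
  have e2 : ρ₂ q = d₂ * q := by rw [← hd₂]; group
  generalize hζ₁d : ρ₁ d₂ * d₂⁻¹ = ζ₁ at *
  generalize hζ₂d : ρ₂ d₁ * d₁⁻¹ = ζ₂ at *
  have e3 : ρ₁ d₂ = ζ₁ * d₂ := by rw [← hζ₁d]; group
  have e4 : ρ₂ d₁ = ζ₂ * d₁ := by rw [← hζ₂d]; group
  have e5 : ρ₁ (ρ₂ q) = ζ₁ * d₂ * (d₁ * q) := by rw [e2, map_mul, e3, e1]
  have e6 : ρ₂ (ρ₁ q) = ζ₂ * d₁ * (d₂ * q) := by rw [e1, map_mul, e4, e2]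
  rw [e5, e6]
  have e7 : ζ₁ * d₂ * (d₁ * q) * (ζ₂ * d₁ * (d₂ * q))⁻¹ = ζ₁ * ζ₂⁻¹ := by
    calc ζ₁ * d₂ * (d₁ * q) * (ζ₂ * d₁ * (d₂ * q))⁻¹
        = ζ₁ * (d₂ * d₁) * (d₁ * d₂)⁻¹ * ζ₂⁻¹ := by group
      _ = ζ₁ * (d₂ * d₁) * (d₂ * d₁)⁻¹ * ζ₂⁻¹ := by rw [hcomm12]
      _ = ζ₁ * ζ₂⁻¹ := by group
  rw [e7]
  exact Subgroup.mul_mem _ hζ₁ (Subgroup.inv_mem _ hζ₂)

/-- Small case: in an extraspecial-like 2-group of order at most 8, an involutory automorphism
fixing every `q` with `σ q * q⁻¹` central is trivial. -/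
theorem aut_eq_id_of_card_le_eight [Finite P] (hP : IsPGroup 2 P)
    (hcomm : commutator P ≤ Subgroup.center P) (hcard : Nat.card (Subgroup.center P) = 2)
    (hsq : ∀ x : P, x ^ 2 ∈ Subgroup.center P) (hP8 : Nat.card P ≤ 8)
    (σ : MulAut P) (hσ2 : ∀ x, σ (σ x) = x) (hσc : ∀ c ∈ Subgroup.center P, σ c = c)
    (hbad : ∀ q, σ q * q⁻¹ ∈ Subgroup.center P → σ q = q) :
    ∀ q, σ q = q := by
  by_cases hnt : ∃ q, σ q * q⁻¹ ∉ Subgroup.center P
  swap
  · push Not at hnt
    exact fun q => hbad q (hnt q)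
  exfalso
  obtain ⟨hDE, -, hDeq, hZD⟩ :=
    aut_comm_structure hP hcomm hcard hsq σ hσ2 hσc hnt (autE0 σ) (mem_autE0 σ)
  obtain ⟨q, hq⟩ := hnt
  have hdD : σ q * q⁻¹ ∈ Subgroup.closure (Set.range fun q : P => σ q * q⁻¹) :=
    Subgroup.subset_closure ⟨q, rfl⟩
  have hdE : σ q * q⁻¹ ∈ autE0 σ := hDE hdD
  have hσd : σ (σ q * q⁻¹) = σ q * q⁻¹ := hbad _ hdE
  have hσd' : σ (σ q * q⁻¹) = (σ q * q⁻¹)⁻¹ := by
    rw [map_mul, hσ2, map_inv, mul_inv_rev, inv_inv]
  have hqE : q ∉ autE0 σ := hq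
  have hdC : σ q * q⁻¹ ∈ Subgroup.centralizer ((autE0 σ : Subgroup P) : Set P) := by
    rw [← hDeq]; exact hdD
  generalize hd : σ q * q⁻¹ = d at *
  have hdinv : d = d⁻¹ := hσd.symm.trans hσd'
  have hd2 : d * d = 1 := by
    calc d * d = d * d⁻¹ := by rw [← hdinv]
      _ = 1 := mul_inv_cancel d
  have h1 : σ q = d * q := by rw [← hd]; group
  have hqd : q * d = d * q := by
    have h2 : σ (q ^ 2) = q ^ 2 := hσc _ (hsq q)
    rw [map_pow, h1, sq, sq, ← mul_assoc] at h2
    have h3 : d * q * d = q := mul_right_cancel h2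
    calc q * d = (d * q * d) * d := by rw [h3]
      _ = d * q * (d * d) := by group
      _ = d * q := by rw [hd2, mul_one]
  -- cardinalities
  have hZE0 : Subgroup.center P ≤ autE0 σ := hZD.trans hDE
  have c2 := card_mul_card_centralizer hcomm hcard (autE0 σ) hZE0
  rw [← hDeq] at c2
  set D := Subgroup.closure (Set.range fun q : P => σ q * q⁻¹) with hD
  have hDcard : 4 ≤ Nat.card D := by
    have hdvd : Nat.card (Subgroup.center P) ∣ Nat.card D := Subgroup.card_dvd_of_le hZD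
    rw [hcard] at hdvd
    have hne : Nat.card D ≠ 2 := by
      intro h2
      have : Subgroup.center P = D :=
        Subgroup.eq_of_le_of_card_ge hZD (by rw [hcard, h2])
      apply hq
      rw [this]; exact hdD
    have hpos : 0 < Nat.card D := Nat.card_pos
    obtain ⟨k, hk⟩ := hdvd
    omega
  have hDleE : Nat.card D ≤ Nat.card (autE0 σ) :=
    Nat.le_of_dvd Nat.card_pos (Subgroup.card_dvd_of_le hDE)
  set Cd := Subgroup.centralizer ({d} : Set P) with hCd
  have hECd : autE0 σ ≤ Cd := by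
    intro f hf
    rw [hCd, Subgroup.mem_centralizer_singleton_iff]
    exact Subgroup.mem_centralizer_iff.mp hdC f hf
  have hqCd : q ∈ Cd := by
    rw [hCd, Subgroup.mem_centralizer_singleton_iff]; exact hqd
  have hCdcard : 2 * Nat.card (autE0 σ) ≤ Nat.card Cd := by
    have hdvd : Nat.card (autE0 σ) ∣ Nat.card Cd := Subgroup.card_dvd_of_le hECd
    have hne : Nat.card Cd ≠ Nat.card (autE0 σ) := by
      intro h2
      have : autE0 σ = Cd := Subgroup.eq_of_le_of_card_ge hECd (by rw [h2])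
      apply hqE
      rw [this]; exact hqCd
    have hpos : 0 < Nat.card Cd := Nat.card_pos
    have hposE : 0 < Nat.card (autE0 σ) := Nat.card_pos
    obtain ⟨k, hk⟩ := hdvd
    rcases k with _ | _ | k
    · omega
    · omega
    · rw [hk]; nlinarith
  have hCdP : Nat.card Cd ≤ Nat.card P :=
    Nat.le_of_dvd Nat.card_pos (Subgroup.card_subgroup_dvd_card Cd)
  have hE4 : Nat.card (autE0 σ) = 4 := by omega
  have hD4 : Nat.card D = 4 := by omega
  rw [hE4, hD4] at c2
  have hP8' : Nat.card P = 8 := by omega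
  have hCdtop : Cd = ⊤ := Subgroup.eq_top_of_le_card _ (by omega)
  apply hqE
  rw [mem_autE0, hd, Subgroup.mem_center_iff]
  intro x
  have hx : x ∈ Cd := by rw [hCdtop]; exact Subgroup.mem_top x
  rw [hCd, Subgroup.mem_centralizer_singleton_iff] at hx
  exact hx

/-- An element commuting with the whole centralizer of a non-central `t` is central or
central times `t`. -/
theorem mem_center_or_of_centralizes_centralizer
    (hcomm : commutator P ≤ Subgroup.center P) (hcard : Nat.card (Subgroup.center P) = 2)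
    (t y : P) (ht : t ∉ Subgroup.center P) (hy : ∀ x, x * t = t * x → x * y = y * x) :
    y ∈ Subgroup.center P ∨ y * t⁻¹ ∈ Subgroup.center P := by
  rw [Subgroup.mem_center_iff] at ht
  push Not at ht
  obtain ⟨q₀, hq₀⟩ := ht
  have hne : ∀ q, q * t ≠ t * q → cm q t ≠ 1 := fun q hq h => hq ((cm_eq_one_iff _ _).mp h)
  have heq : ∀ a b : P, a ∈ Subgroup.center P → b ∈ Subgroup.center P → a ≠ 1 → b ≠ 1 → a = b := by
    intro a b ha hb ha1 hb1
    have := eq_of_ne_one_of_card_two hcard (⟨a, ha⟩ : ↥(Subgroup.center P)) ⟨b, hb⟩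
      (fun h => ha1 (congrArg Subtype.val h)) (fun h => hb1 (congrArg Subtype.val h))
    exact congrArg Subtype.val this
  have hkey : ∀ q, q * t ≠ t * q → cm q y = cm q₀ y := by
    intro q hq
    have h1 : cm q t = cm q₀ t :=
      heq _ _ (cm_mem_center hcomm _ _) (cm_mem_center hcomm _ _) (hne q hq) (hne q₀ hq₀)
    have h2 : cm (q₀⁻¹ * q) t = 1 := by
      rw [cm_mul_left hcomm, cm_inv_left hcomm, h1, inv_mul_cancel]
    have h3 := hy _ ((cm_eq_one_iff _ _).mp h2)
    have h4 : cm (q₀⁻¹ * q) y = 1 := (cm_eq_one_iff _ _).mpr h3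
    rw [cm_mul_left hcomm, cm_inv_left hcomm] at h4
    exact (inv_mul_eq_one.mp h4).symm
  by_cases h0 : cm q₀ y = 1
  · left
    rw [Subgroup.mem_center_iff]
    intro q
    by_cases hq : q * t = t * q
    · exact hy q hq
    · have := hkey q hq
      rw [h0] at this
      exact (cm_eq_one_iff _ _).mp this
  · right
    rw [Subgroup.mem_center_iff]
    intro q
    apply (cm_eq_one_iff _ _).mp
    rw [cm_mul_right hcomm, cm_inv_right hcomm]
    by_cases hq : q * t = t * q
    · rw [(cm_eq_one_iff _ _).mpr hq, (cm_eq_one_iff _ _).mpr (hy q hq)]; simp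
    · have h1 : cm q t = cm q₀ t :=
        heq _ _ (cm_mem_center hcomm _ _) (cm_mem_center hcomm _ _) (hne q hq) (hne q₀ hq₀)
      have h2 : cm q₀ y = cm q₀ t :=
        heq _ _ (cm_mem_center hcomm _ _) (cm_mem_center hcomm _ _) h0 (hne q₀ hq₀)
      rw [hkey q hq, h2, h1, mul_inv_cancel]

/-- In an extraspecial-like 2-group of order more than 8, element centralizers are non-abelian. -/
theorem exists_noncommuting_in_centralizer [Finite P]
    (hcomm : commutator P ≤ Subgroup.center P) (hcard : Nat.card (Subgroup.center P) = 2)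
    (hbig : 8 < Nat.card P) (t : P) :
    ∃ r s : P, r * t = t * r ∧ s * t = t * s ∧ r * s ≠ s * r := by
  by_contra hcon
  push Not at hcon
  set A := Subgroup.centralizer ({t} : Set P) with hA
  have hZA : Subgroup.center P ≤ A := by
    intro x hx
    rw [hA, Subgroup.mem_centralizer_singleton_iff]
    exact (Subgroup.mem_center_iff.mp hx t).symm
  have hAab : A ≤ Subgroup.centralizer (A : Set P) := by
    intro x hx
    rw [Subgroup.mem_centralizer_iff]
    intro a ha
    have ha' : a ∈ A := ha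
    rw [hA, Subgroup.mem_centralizer_singleton_iff] at hx ha'
    exact hcon a x ha' hx
  have c1 := card_mul_card_centralizer hcomm hcard A hZA
  -- index of A is at most 2
  let φ : P →* ↥(Subgroup.center P) :=
    MonoidHom.mk' (fun q => (⟨cm q t, cm_mem_center hcomm q t⟩ : ↥(Subgroup.center P)))
      (by intro a b; exact Subtype.ext (cm_mul_left hcomm a b t))
  have hker : φ.ker = A := by
    ext q
    rw [MonoidHom.mem_ker, hA, Subgroup.mem_centralizer_singleton_iff]
    constructor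
    · intro h
      have : cm q t = 1 := congrArg Subtype.val h
      exact (cm_eq_one_iff _ _).mp this
    · intro h
      exact Subtype.ext ((cm_eq_one_iff _ _).mpr h)
  have hidx : A.index ≤ 2 := by
    rw [← hker, Subgroup.index_ker, ← hcard]
    exact Subgroup.card_le_card_group _
  have hmul := Subgroup.card_mul_index A
  have hApos : 0 < Nat.card A := Nat.card_pos
  have hAle : Nat.card A ≤ Nat.card (Subgroup.centralizer (A : Set P)) :=
    Nat.le_of_dvd Nat.card_pos (Subgroup.card_dvd_of_le hAab)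
  have h1 : Nat.card P ≤ Nat.card A * 2 := by
    rw [← hmul]; exact Nat.mul_le_mul_left _ hidx
  have h2 : Nat.card A * Nat.card (Subgroup.centralizer (A : Set P)) ≤ Nat.card A * 4 := by
    rw [c1]; omega
  have h3 : Nat.card (Subgroup.centralizer (A : Set P)) ≤ 4 := Nat.le_of_mul_le_mul_left h2 hApos
  omega

/-- Double centralizer: in an extraspecial-like 2-group, `C(C(A)) = A` for `Z(P) ≤ A`. -/
theorem centralizer_centralizer_eq [Finite P]
    (hcomm : commutator P ≤ Subgroup.center P) (hcard : Nat.card (Subgroup.center P) = 2)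
    (A : Subgroup P) (hZA : Subgroup.center P ≤ A) :
    Subgroup.centralizer ((Subgroup.centralizer (A : Set P) : Subgroup P) : Set P) = A := by
  have c1 := card_mul_card_centralizer hcomm hcard A hZA
  have hZC : Subgroup.center P ≤ Subgroup.centralizer (A : Set P) := by
    intro x hx
    rw [Subgroup.mem_centralizer_iff]
    intro a _
    exact Subgroup.mem_center_iff.mp hx a
  have c2 := card_mul_card_centralizer hcomm hcard (Subgroup.centralizer (A : Set P)) hZC
  have hle : A ≤ Subgroup.centralizer ((Subgroup.centralizer (A : Set P) : Subgroup P) : Set P) :=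
    Subgroup.le_centralizer_iff.mp le_rfl
  have hpos : 0 < Nat.card (Subgroup.centralizer (A : Set P)) := Nat.card_pos
  have hcardeq : Nat.card (Subgroup.centralizer
      ((Subgroup.centralizer (A : Set P) : Subgroup P) : Set P)) = Nat.card A := by
    have : Nat.card (Subgroup.centralizer (A : Set P)) * Nat.card (Subgroup.centralizer
        ((Subgroup.centralizer (A : Set P) : Subgroup P) : Set P)) =
        Nat.card (Subgroup.centralizer (A : Set P)) * Nat.card A := by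
      rw [c2, ← c1, mul_comm]
    exact Nat.eq_of_mul_eq_mul_left hpos this
  exact (Subgroup.eq_of_le_of_card_ge hle hcardeq.le).symm

/-- An element outside `A ≥ Z(P)` fails to commute with some element centralizing `A`. -/
theorem exists_centralizing_noncommuting [Finite P]
    (hcomm : commutator P ≤ Subgroup.center P) (hcard : Nat.card (Subgroup.center P) = 2)
    (A : Subgroup P) (hZA : Subgroup.center P ≤ A) (x : P) (hx : x ∉ A) :
    ∃ g : P, (∀ a ∈ A, a * g = g * a) ∧ g * x ≠ x * g := by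
  by_contra hcon
  push Not at hcon
  apply hx
  rw [← centralizer_centralizer_eq hcomm hcard A hZA, Subgroup.mem_centralizer_iff]
  intro g hg
  exact hcon g (Subgroup.mem_centralizer_iff.mp hg)

end abstractPart

section ambient
variable {G : Type*} [Group G]

/-- Conjugation by a normalizing element, as an automorphism of the subgroup. -/
def conjAut (Q : Subgroup G) (x : G) (hx : x ∈ Subgroup.normalizer (Q : Set G)) : MulAut ↥Q :=
  Q.normalizerMonoidHom ⟨x, hx⟩

theorem conjAut_coe (Q : Subgroup G) (x : G) (hx : x ∈ Subgroup.normalizer (Q : Set G)) (q : ↥Q) :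
    ((conjAut Q x hx q : ↥Q) : G) = x * q * x⁻¹ := rfl

/-- Symmetry lemma for large extraspecial subgroups: let `Q` be an extraspecial-like 2-subgroup
of `G` containing its centralizer, normalized by the centralizer of its central involution `z`.
If `z` lies in the conjugate `h Q h⁻¹`, then the conjugate `h z h⁻¹` lies in `Q`. -/
theorem conj_mem_of_conj_inv_mem [Finite G] (Q : Subgroup G) (hP : IsPGroup 2 ↥Q)
    (hcomm : commutator ↥Q ≤ Subgroup.center ↥Q) (hcard : Nat.card (Subgroup.center ↥Q) = 2)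
    (hsq : ∀ x : ↥Q, x ^ 2 ∈ Subgroup.center ↥Q)
    (z : G) (hzQ : z ∈ Q) (hzc : ∀ q ∈ Q, q * z = z * q) (hz1 : z ≠ 1)
    (hCQ : Subgroup.centralizer (Q : Set G) ≤ Q)
    (hN : Subgroup.centralizer ({z} : Set G) ≤ Subgroup.normalizer (Q : Set G))
    (h : G) (htQ : h⁻¹ * z * h ∈ Q) :
    h * z * h⁻¹ ∈ Q := by
  classical
  by_contra hcQ
  have hzQc : (⟨z, hzQ⟩ : ↥Q) ∈ Subgroup.center ↥Q := by
    rw [Subgroup.mem_center_iff]; intro g; exact Subtype.ext (hzc g g.2)
  have hzQ1 : (⟨z, hzQ⟩ : ↥Q) ≠ 1 := fun h0 => hz1 (congrArg Subtype.val h0)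
  have hcenter : ∀ x : ↥Q, x ∈ Subgroup.center ↥Q ↔ x = 1 ∨ x = ⟨z, hzQ⟩ := by
    intro x
    constructor
    · intro hx
      by_cases hx1 : x = 1
      · exact Or.inl hx1
      · right
        have := eq_of_ne_one_of_card_two hcard (⟨x, hx⟩ : ↥(Subgroup.center ↥Q)) ⟨⟨z, hzQ⟩, hzQc⟩
          (fun h0 => hx1 (congrArg Subtype.val h0)) (fun h0 => hzQ1 (congrArg Subtype.val h0))
        exact congrArg Subtype.val this
    · rintro (rfl | rfl)
      · exact Subgroup.one_mem _
      · exact hzQc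
  have hz2 : z * z = 1 := by
    have h1 : (⟨z, hzQ⟩ : ↥Q) * ⟨z, hzQ⟩ ∈ Subgroup.center ↥Q := Subgroup.mul_mem _ hzQc hzQc
    rcases (hcenter _).mp h1 with h2 | h2
    · exact congrArg Subtype.val h2
    · exfalso; apply hzQ1
      exact mul_left_cancel (a := (⟨z, hzQ⟩ : ↥Q)) (by rw [h2, mul_one])
  have hcmQ : ∀ x ∈ Q, ∀ y ∈ Q, x * y * x⁻¹ * y⁻¹ = 1 ∨ x * y * x⁻¹ * y⁻¹ = z := by
    intro x hx y hy
    have := cm_mem_center hcomm (⟨x, hx⟩ : ↥Q) ⟨y, hy⟩
    rcases (hcenter _).mp this with h1 | h1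
    · left; exact congrArg Subtype.val h1
    · right; exact congrArg Subtype.val h1
  obtain ⟨t, ht⟩ : ∃ t, t = h⁻¹ * z * h := ⟨_, rfl⟩
  obtain ⟨c, hc⟩ : ∃ c, c = h * z * h⁻¹ := ⟨_, rfl⟩
  rw [← ht] at htQ
  rw [← hc] at hcQ
  have hzt : z = h * t * h⁻¹ := by rw [ht]; group
  have hcz : c ≠ z := fun h0 => hcQ (by rw [h0]; exact hzQ)
  have htz : t ≠ z := by
    intro h0
    apply hcz
    rw [hc]
    conv_rhs => rw [hzt, h0]
  have ht1 : t ≠ 1 := by
    intro h0; apply hz1; rw [hzt, h0]; group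
  have htz_comm : t * z = z * t := hzc t htQ
  have hconj_z : ∀ x' : G, x' * t = t * x' → (h * x' * h⁻¹) * z = z * (h * x' * h⁻¹) := by
    intro x' hx'
    calc (h * x' * h⁻¹) * z = (h * x' * h⁻¹) * (h * t * h⁻¹) := by rw [← hzt]
      _ = h * (x' * t) * h⁻¹ := by group
      _ = h * (t * x') * h⁻¹ := by rw [hx']
      _ = (h * t * h⁻¹) * (h * x' * h⁻¹) := by group
      _ = z * (h * x' * h⁻¹) := by rw [← hzt]
  have hconj_c : ∀ x' : G, x' * z = z * x' → (h * x' * h⁻¹) * c = c * (h * x' * h⁻¹) := by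
    intro x' hx'
    calc (h * x' * h⁻¹) * c = h * (x' * z) * h⁻¹ := by rw [hc]; group
      _ = h * (z * x') * h⁻¹ := by rw [hx']
      _ = c * (h * x' * h⁻¹) := by rw [hc]; group
  have hcz_comm : c * z = z * c := by
    have := hconj_z z htz_comm.symm
    rw [← hc] at this
    exact this
  have hc2 : c * c = 1 := by
    calc c * c = h * (z * z) * h⁻¹ := by rw [hc]; group
      _ = 1 := by rw [hz2]; group
  have hcinv : c⁻¹ = c := inv_eq_of_mul_eq_one_right hc2
  have hNmem : ∀ x, x * z = z * x → ∀ q ∈ Q, x * q * x⁻¹ ∈ Q := by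
    intro x hx q hq
    have := hN (Subgroup.mem_centralizer_singleton_iff.mpr hx)
    exact (Subgroup.mem_normalizer_iff.mp this q).mp hq
  have hcN : c ∈ Subgroup.normalizer (Q : Set G) :=
    hN (Subgroup.mem_centralizer_singleton_iff.mpr hcz_comm)
  have htQc : (⟨t, htQ⟩ : ↥Q) ∉ Subgroup.center ↥Q := by
    intro h0
    rcases (hcenter _).mp h0 with h1 | h1
    · exact ht1 (congrArg Subtype.val h1)
    · exact htz (congrArg Subtype.val h1)
  let σ : MulAut ↥Q := conjAut Q c hcN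
  have hσcoe : ∀ q : ↥Q, ((σ q : ↥Q) : G) = c * q * c⁻¹ := fun q => rfl
  have hσ2 : ∀ x, σ (σ x) = x := by
    intro x; apply Subtype.ext
    rw [hσcoe, hσcoe, hcinv]
    calc c * (c * (x : G) * c) * c = (c * c) * x * (c * c) := by group
      _ = x := by rw [hc2]; group
  have hfixc : ∀ (x : G) (hx : x ∈ Subgroup.normalizer (Q : Set G)), x * z = z * x →
      ∀ a ∈ Subgroup.center ↥Q, conjAut Q x hx a = a := by
    intro x hx hxz a ha
    rcases (hcenter a).mp ha with rfl | rfl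
    · exact map_one _
    · apply Subtype.ext
      rw [conjAut_coe]
      show x * z * x⁻¹ = z
      rw [hxz]; group
  have hσc : ∀ a ∈ Subgroup.center ↥Q, σ a = a := hfixc c hcN hcz_comm
  -- key step: elements of the centralizer of z in the conjugate act trivially on Fix(σ) mod centre
  have hkey : ∀ x' ∈ Q, x' * t = t * x' → ∀ f ∈ Q, c * f * c⁻¹ = f →
      (h * x' * h⁻¹) * f * (h * x' * h⁻¹)⁻¹ * f⁻¹ = 1 ∨
        (h * x' * h⁻¹) * f * (h * x' * h⁻¹)⁻¹ * f⁻¹ = z := by
    intro x' hx'Q hx't f hfQ hcf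
    obtain ⟨x, hx⟩ : ∃ x, x = h * x' * h⁻¹ := ⟨_, rfl⟩
    rw [← hx]
    have hxz : x * z = z * x := by rw [hx]; exact hconj_z x' hx't
    obtain ⟨y, hy⟩ : ∃ y, y = x * f * x⁻¹ * f⁻¹ := ⟨_, rfl⟩
    rw [← hy]
    have hyQ : y ∈ Q := by
      rw [hy]; exact Q.mul_mem (hNmem x hxz f hfQ) (Q.inv_mem hfQ)
    obtain ⟨f', hf'⟩ : ∃ f', f' = h⁻¹ * f * h := ⟨_, rfl⟩
    have hf'z : f' * z = z * f' := by
      have h1 : c * f = f * c := by
        calc c * f = (c * f * c⁻¹) * c := by group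
          _ = f * c := by rw [hcf]
      calc f' * z = h⁻¹ * (f * c) * h := by rw [hf', hc]; group
        _ = h⁻¹ * (c * f) * h := by rw [h1]
        _ = z * f' := by rw [hf', hc]; group
    obtain ⟨y', hy'⟩ : ∃ y', y' = h⁻¹ * y * h := ⟨_, rfl⟩
    have hy'eq : y' = x' * (f' * x'⁻¹ * f'⁻¹) := by
      rw [hy', hy, hx, hf']; group
    have hy'Q : y' ∈ Q := by
      rw [hy'eq]
      exact Q.mul_mem hx'Q (hNmem f' hf'z _ (Q.inv_mem hx'Q))
    have hyy' : y = h * y' * h⁻¹ := by rw [hy']; group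
    have hcent : ∀ w : ↥Q, w * (⟨t, htQ⟩ : ↥Q) = ⟨t, htQ⟩ * w →
        w * (⟨y', hy'Q⟩ : ↥Q) = ⟨y', hy'Q⟩ * w := by
      intro w hw
      have hwt : (w : G) * t = t * w := congrArg Subtype.val hw
      apply Subtype.ext
      show (w : G) * y' = y' * w
      have huz := hconj_z w hwt
      have h1 : (h * w * h⁻¹) * y * (h * w * h⁻¹)⁻¹ * y⁻¹ ∈ Q :=
        Q.mul_mem (hNmem _ huz y hyQ) (Q.inv_mem hyQ)
      have h2 : (h * w * h⁻¹) * y * (h * w * h⁻¹)⁻¹ * y⁻¹ =
          h * ((w : G) * y' * (w : G)⁻¹ * y'⁻¹) * h⁻¹ := by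
        rw [hyy']; group
      rcases hcmQ w w.2 y' hy'Q with h3 | h3
      · exact (cm_eq_one_iff (w : G) y').mp h3
      · exfalso
        apply hcQ
        rw [h2, h3, ← hc] at h1
        exact h1
    rcases mem_center_or_of_centralizes_centralizer hcomm hcard (⟨t, htQ⟩ : ↥Q) ⟨y', hy'Q⟩ htQc hcent
      with h1 | h1
    · rcases (hcenter _).mp h1 with h2 | h2
      · left
        have : y' = 1 := congrArg Subtype.val h2
        rw [hyy', this]; group
      · exfalso
        have : y' = z := congrArg Subtype.val h2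
        apply hcQ
        rw [hc, ← this, ← hyy']
        exact hyQ
    · rcases (hcenter _).mp h1 with h2 | h2
      · right
        have h3 : y' * t⁻¹ = 1 := congrArg Subtype.val h2
        have h4 : y' = t := mul_inv_eq_one.mp h3
        rw [hyy', h4, ← hzt]
      · exfalso
        have h3 : y' * t⁻¹ = z := congrArg Subtype.val h2
        have h4 : y' = z * t := mul_inv_eq_iff_eq_mul.mp h3
        apply hcQ
        have h5 : y = c * z := by
          rw [hyy', h4, hc, hzt]; group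
        have h6 : c = y * z⁻¹ := by rw [h5]; group
        rw [h6]
        exact Q.mul_mem hyQ (Q.inv_mem hzQ)
  -- (i) some element of Q conjugates c to c z
  have hi : ∃ q ∈ Q, q * c * q⁻¹ = c * z := by
    by_contra hno
    push Not at hno
    have hbad : ∀ q : ↥Q, σ q * q⁻¹ ∈ Subgroup.center ↥Q → σ q = q := by
      intro q hq
      rcases (hcenter _).mp hq with h1 | h1
      · exact mul_inv_eq_one.mp h1
      · exfalso
        apply hno q q.2
        have h2 : c * q * c⁻¹ * (q : G)⁻¹ = z := congrArg Subtype.val h1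
        rw [hcinv] at h2
        calc (q : G) * c * (q : G)⁻¹ = (c * c) * (q * c * (q : G)⁻¹) := by rw [hc2, one_mul]
          _ = c * (c * q * c * (q : G)⁻¹) := by group
          _ = c * z := by rw [h2]
    have hσid : ∀ q, σ q = q := by
      by_cases hsmall : Nat.card ↥Q ≤ 8
      · exact aut_eq_id_of_card_le_eight hP hcomm hcard hsq hsmall σ hσ2 hσc hbad
      · push Not at hsmall
        obtain ⟨r', s', hr't, hs't, hrs'⟩ :=
          exists_noncommuting_in_centralizer hcomm hcard hsmall (⟨t, htQ⟩ : ↥Q)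
        have hrs1 : cm r' s' ≠ 1 := fun h0 => hrs' ((cm_eq_one_iff _ _).mp h0)
        have hrsz : cm r' s' = ⟨z, hzQ⟩ := by
          rcases (hcenter _).mp (cm_mem_center hcomm r' s') with h1 | h1
          · exact absurd h1 hrs1
          · exact h1
        have hrszG : (r' : G) * s' * (r' : G)⁻¹ * (s' : G)⁻¹ = z := congrArg Subtype.val hrsz
        have hr'tG : (r' : G) * t = t * r' := congrArg Subtype.val hr't
        have hs'tG : (s' : G) * t = t * s' := congrArg Subtype.val hs't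
        obtain ⟨r, hr⟩ : ∃ r, r = h * (r' : G) * h⁻¹ := ⟨_, rfl⟩
        obtain ⟨s, hs⟩ : ∃ s, s = h * (s' : G) * h⁻¹ := ⟨_, rfl⟩
        have hrz : r * z = z * r := by rw [hr]; exact hconj_z _ hr'tG
        have hsz : s * z = z * s := by rw [hs]; exact hconj_z _ hs'tG
        have hrN : r ∈ Subgroup.normalizer (Q : Set G) :=
          hN (Subgroup.mem_centralizer_singleton_iff.mpr hrz)
        have hsN : s ∈ Subgroup.normalizer (Q : Set G) :=
          hN (Subgroup.mem_centralizer_singleton_iff.mpr hsz)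
        have hrs : r * s = c * s * r := by
          have h1 : r * s * r⁻¹ * s⁻¹ = c := by
            calc r * s * r⁻¹ * s⁻¹ = h * ((r' : G) * s' * (r' : G)⁻¹ * (s' : G)⁻¹) * h⁻¹ := by
                  rw [hr, hs]; group
              _ = c := by rw [hrszG, hc]
          calc r * s = (r * s * r⁻¹ * s⁻¹) * s * r := by group
            _ = c * s * r := by rw [h1]
        refine aut_eq_id_of_commutator hP hcomm hcard hsq σ hσ2 hσc hbad
          (conjAut Q r hrN) (conjAut Q s hsN) (hfixc r hrN hrz) (hfixc s hsN hsz) ?_ ?_ ?_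
        · intro f hf
          have hcf : c * (f : G) * c⁻¹ = f := congrArg Subtype.val hf
          have := hkey r' r'.2 hr'tG f f.2 hcf
          rw [← hr] at this
          rcases this with h1 | h1
          · exact (hcenter _).mpr (Or.inl (Subtype.ext h1))
          · exact (hcenter _).mpr (Or.inr (Subtype.ext h1))
        · intro f hf
          have hcf : c * (f : G) * c⁻¹ = f := congrArg Subtype.val hf
          have := hkey s' s'.2 hs'tG f f.2 hcf
          rw [← hs] at this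
          rcases this with h1 | h1
          · exact (hcenter _).mpr (Or.inl (Subtype.ext h1))
          · exact (hcenter _).mpr (Or.inr (Subtype.ext h1))
        · intro q
          apply Subtype.ext
          show r * (s * (q : G) * s⁻¹) * r⁻¹ = c * (s * (r * (q : G) * r⁻¹) * s⁻¹) * c⁻¹
          calc r * (s * (q : G) * s⁻¹) * r⁻¹ = (r * s) * q * (r * s)⁻¹ := by group
            _ = (c * s * r) * q * (c * s * r)⁻¹ := by rw [hrs]
            _ = c * (s * (r * (q : G) * r⁻¹) * s⁻¹) * c⁻¹ := by group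
    apply hcQ
    apply hCQ
    rw [Subgroup.mem_centralizer_iff]
    intro q hq
    have := hσid ⟨q, hq⟩
    have h2 : c * q * c⁻¹ = q := congrArg Subtype.val this
    calc q * c = (c * q * c⁻¹) * c := by rw [h2]
      _ = c * q := by group
  obtain ⟨q, hqQ, hqc⟩ := hi
  -- (ii) some element of the conjugate moves z to c z
  have hii : ∃ q₀ ∈ Q, q₀ * t * q₀⁻¹ * t⁻¹ = z := by
    have h0 := htQc
    rw [Subgroup.mem_center_iff] at h0
    push Not at h0
    obtain ⟨q₀, hq₀⟩ := h0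
    refine ⟨q₀, q₀.2, ?_⟩
    have h1 : cm q₀ (⟨t, htQ⟩ : ↥Q) ≠ 1 := fun h0 => hq₀ ((cm_eq_one_iff _ _).mp h0)
    rcases (hcenter _).mp (cm_mem_center hcomm q₀ ⟨t, htQ⟩) with h2 | h2
    · exact absurd h2 h1
    · exact congrArg Subtype.val h2
  obtain ⟨q₀, hq₀Q, hq₀t⟩ := hii
  have hq₀t' : q₀ * t * q₀⁻¹ = z * t := mul_inv_eq_iff_eq_mul.mp hq₀t
  obtain ⟨q', hq'⟩ : ∃ q', q' = h * q₀ * h⁻¹ := ⟨_, rfl⟩
  have hq'c : q' * c * q'⁻¹ = c := by
    have := hconj_c q₀ (hzc q₀ hq₀Q)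
    rw [← hq'] at this
    rw [this]; group
  have hq'z : q' * z * q'⁻¹ = c * z := by
    calc q' * z * q'⁻¹ = h * (q₀ * t * q₀⁻¹) * h⁻¹ := by rw [hq', hzt]; group
      _ = h * (z * t) * h⁻¹ := by rw [hq₀t']
      _ = c * z := by rw [hc, hzt]; group
  have hqz : q * z * q⁻¹ = z := by rw [hzc q hqQ]; group
  obtain ⟨k, hk⟩ : ∃ k, k = q' * q * h := ⟨_, rfl⟩
  have hkz : k * z * k⁻¹ = z := by
    calc k * z * k⁻¹ = q' * (q * (h * z * h⁻¹) * q⁻¹) * q'⁻¹ := by rw [hk]; group
      _ = q' * (c * z) * q'⁻¹ := by rw [← hc, hqc]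
      _ = (q' * c * q'⁻¹) * (q' * z * q'⁻¹) := by group
      _ = c * (c * z) := by rw [hq'c, hq'z]
      _ = z := by rw [← mul_assoc, hc2, one_mul]
  have hkz' : k * z = z * k := by
    calc k * z = (k * z * k⁻¹) * k := by group
      _ = z * k := by rw [hkz]
  have hkt : k * t * k⁻¹ ∈ Q := hNmem k hkz' t htQ
  have hkt' : k * t * k⁻¹ = c * z := by
    calc k * t * k⁻¹ = q' * (q * (h * t * h⁻¹) * q⁻¹) * q'⁻¹ := by rw [hk]; group
      _ = q' * (q * z * q⁻¹) * q'⁻¹ := by rw [← hzt]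
      _ = c * z := by rw [hqz, hq'z]
  apply hcQ
  have : c = (k * t * k⁻¹) * z⁻¹ := by rw [hkt']; group
  rw [this]
  exact Q.mul_mem hkt (Q.inv_mem hzQ)

/-- Symmetry lemma, second form: if the conjugate `g z g⁻¹` lies in `Q`, then `z` lies in the
conjugate `g Q g⁻¹`. -/
theorem mem_conj_of_conj_mem [Finite G] (Q : Subgroup G) (hP : IsPGroup 2 ↥Q)
    (hcomm : commutator ↥Q ≤ Subgroup.center ↥Q) (hcard : Nat.card (Subgroup.center ↥Q) = 2)
    (hsq : ∀ x : ↥Q, x ^ 2 ∈ Subgroup.center ↥Q)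
    (z : G) (hzQ : z ∈ Q) (hzc : ∀ q ∈ Q, q * z = z * q) (hz1 : z ≠ 1)
    (hCQ : Subgroup.centralizer (Q : Set G) ≤ Q)
    (hN : Subgroup.centralizer ({z} : Set G) ≤ Subgroup.normalizer (Q : Set G))
    (g : G) (hb : g * z * g⁻¹ ∈ Q) :
    z ∈ Q.map (MulAut.conj g).toMonoidHom := by
  have h1 := conj_mem_of_conj_inv_mem Q hP hcomm hcard hsq z hzQ hzc hz1 hCQ hN g⁻¹
    (by rw [inv_inv]; exact hb)
  rw [inv_inv] at h1
  refine ⟨g⁻¹ * z * g, h1, ?_⟩
  simp only [MulEquiv.coe_toMonoidHom, MulAut.conj_apply]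
  group

end ambient

end Cfsg.Agent.Lib.Helper38
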