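import Mathlib
import Cfsg.Agent.Lib.Helper38.LargeExtraspecial
import Cfsg.Agent.Lib.Helper55.Large
import Cfsg.Agent.Lib.Helper03.PGroupFrattini

set_option autoImplicit false
open scoped IsMulCommutative commutatorElement

namespace Cfsg.Agent.Lib.Helper38

open Cfsg.Agent.Lib.Helper55 (cj mem_cj)

section
variable {G : Type*} [Group G]

/-- `Q` is an extraspecial-like 2-subgroup of `G` with central involution `z`. -/
structure ExtraLike (Q : Subgroup G) (z : G) : Prop where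
  hP : IsPGroup 2 ↥Q
  hcomm : commutator ↥Q ≤ Subgroup.center ↥Q
  hcard : Nat.card (Subgroup.center ↥Q) = 2
  hsq : ∀ x : ↥Q, x ^ 2 ∈ Subgroup.center ↥Q
  hzQ : z ∈ Q
  hzc : ∀ q ∈ Q, q * z = z * q
  hz1 : z ≠ 1

/-- An extraspecial 2-subgroup is extraspecial-like. -/
theorem ExtraLike.of_isExtraspecial (Q : Subgroup G) [Finite ↥Q] (z : G)
    (hE : Cfsg.IsExtraspecial 2 ↥Q)
    (hzQ : z ∈ Q) (hzc : ∀ q ∈ Q, q * z = z * q) (hz1 : z ≠ 1) : ExtraLike Q z := by
  have hf2 : Fact (Nat.Prime 2) := ⟨Nat.prime_two⟩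
  obtain ⟨⟨hP, hfrat, hcommeq⟩, hcard⟩ := hE
  refine ⟨hP, hcommeq.le, hcard, ?_, hzQ, hzc, hz1⟩
  intro x
  rw [← hfrat]
  exact Cfsg.Agent.Lib.Helper03.pow_mem_frattini_of_isPGroup hP x

variable {Q : Subgroup G} {z : G}

theorem ExtraLike.center_iff (h : ExtraLike Q z) (x : ↥Q) :
    x ∈ Subgroup.center ↥Q ↔ x = 1 ∨ x = ⟨z, h.hzQ⟩ := by
  have hzQc : (⟨z, h.hzQ⟩ : ↥Q) ∈ Subgroup.center ↥Q := by
    rw [Subgroup.mem_center_iff]; intro g; exact Subtype.ext (h.hzc g g.2)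
  have hzQ1 : (⟨z, h.hzQ⟩ : ↥Q) ≠ 1 := fun h0 => h.hz1 (congrArg Subtype.val h0)
  constructor
  · intro hx
    by_cases hx1 : x = 1
    · exact Or.inl hx1
    · right
      have := eq_of_ne_one_of_card_two h.hcard (⟨x, hx⟩ : ↥(Subgroup.center ↥Q)) ⟨⟨z, h.hzQ⟩, hzQc⟩
        (fun h0 => hx1 (congrArg Subtype.val h0)) (fun h0 => hzQ1 (congrArg Subtype.val h0))
      exact congrArg Subtype.val this
  · rintro (rfl | rfl)
    · exact Subgroup.one_mem _
    · exact hzQc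

theorem ExtraLike.sq_eq_one (h : ExtraLike Q z) : z * z = 1 := by
  have hzQc : (⟨z, h.hzQ⟩ : ↥Q) ∈ Subgroup.center ↥Q := (h.center_iff _).mpr (Or.inr rfl)
  have h1 : (⟨z, h.hzQ⟩ : ↥Q) * ⟨z, h.hzQ⟩ ∈ Subgroup.center ↥Q := Subgroup.mul_mem _ hzQc hzQc
  rcases (h.center_iff _).mp h1 with h2 | h2
  · exact congrArg Subtype.val h2
  · exfalso
    apply h.hz1
    have h3 : z * z = z := congrArg Subtype.val h2
    exact mul_left_cancel (a := z) (by rw [h3, mul_one])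

/-- Commutators of elements of `Q` are `1` or `z`. -/
theorem ExtraLike.comm_eq (h : ExtraLike Q z) {x y : G} (hx : x ∈ Q) (hy : y ∈ Q) :
    x * y * x⁻¹ * y⁻¹ = 1 ∨ x * y * x⁻¹ * y⁻¹ = z := by
  have := cm_mem_center h.hcomm (⟨x, hx⟩ : ↥Q) ⟨y, hy⟩
  rcases (h.center_iff _).mp this with h1 | h1
  · left; exact congrArg Subtype.val h1
  · right; exact congrArg Subtype.val h1

/-- Conjugation by an element of `Q` fixes or multiplies by `z`. -/
theorem ExtraLike.conj_eq (h : ExtraLike Q z) {x y : G} (hx : x ∈ Q) (hy : y ∈ Q) :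
    x * y * x⁻¹ = y ∨ x * y * x⁻¹ = z * y := by
  rcases h.comm_eq hx hy with h1 | h1
  · left; exact mul_inv_eq_one.mp h1
  · right; exact mul_inv_eq_iff_eq_mul.mp h1

/-- A non-central element of `Q` is conjugate in `Q` to its product with `z`. -/
theorem ExtraLike.exists_conj (h : ExtraLike Q z) {x : G} (hx : x ∈ Q) (hx1 : x ≠ 1) (hxz : x ≠ z) :
    ∃ y ∈ Q, y * x * y⁻¹ = z * x := by
  have hxc : (⟨x, hx⟩ : ↥Q) ∉ Subgroup.center ↥Q := by
    intro h0
    rcases (h.center_iff _).mp h0 with h1 | h1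
    · exact hx1 (congrArg Subtype.val h1)
    · exact hxz (congrArg Subtype.val h1)
  rw [Subgroup.mem_center_iff] at hxc
  push Not at hxc
  obtain ⟨y, hy⟩ := hxc
  refine ⟨y, y.2, ?_⟩
  rcases h.conj_eq y.2 hx with h1 | h1
  · exfalso
    apply hy
    apply Subtype.ext
    show (y : G) * x = x * y
    calc (y : G) * x = ((y : G) * x * (y : G)⁻¹) * y := by group
      _ = x * y := by rw [h1]
  · exact h1

/-- Transport to a conjugate. -/
theorem ExtraLike.conj (h : ExtraLike Q z) (g : G) : ExtraLike (cj g Q) (g * z * g⁻¹) := by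
  let e : ↥Q ≃* ↥(cj g Q) := (MulAut.conj g).subgroupMap Q
  have he : ∀ q : ↥Q, ((e q : ↥(cj g Q)) : G) = g * q * g⁻¹ := fun q => rfl
  have hcen : ∀ x : ↥Q, x ∈ Subgroup.center ↥Q → e x ∈ Subgroup.center ↥(cj g Q) := by
    intro x hx
    rw [Subgroup.mem_center_iff] at hx ⊢
    intro y
    obtain ⟨y', rfl⟩ := e.surjective y
    rw [← map_mul, ← map_mul, hx y']
  refine ⟨h.hP.of_equiv e, ?_, ?_, ?_, ?_, ?_, ?_⟩
  · rw [commutator_eq_closure, Subgroup.closure_le]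
    rintro _ ⟨x, y, rfl⟩
    obtain ⟨x', rfl⟩ := e.surjective x
    obtain ⟨y', rfl⟩ := e.surjective y
    have h1 : ⁅e x', e y'⁆ = e ⁅x', y'⁆ := by
      rw [commutatorElement_def, commutatorElement_def]
      simp only [map_mul, map_inv]
    rw [SetLike.mem_coe, h1]
    apply hcen
    apply h.hcomm
    rw [commutator_eq_closure]
    exact Subgroup.subset_closure ⟨x', y', rfl⟩
  · rw [← Nat.card_congr (Subgroup.centerCongr e).toEquiv]; exact h.hcard
  · intro x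
    obtain ⟨x', rfl⟩ := e.surjective x
    rw [← map_pow]
    exact hcen _ (h.hsq x')
  · exact ⟨z, h.hzQ, rfl⟩
  · rintro _ ⟨q, hq, rfl⟩
    show g * q * g⁻¹ * (g * z * g⁻¹) = g * z * g⁻¹ * (g * q * g⁻¹)
    calc g * q * g⁻¹ * (g * z * g⁻¹) = g * (q * z) * g⁻¹ := by group
      _ = g * (z * q) * g⁻¹ := by rw [h.hzc q hq]
      _ = g * z * g⁻¹ * (g * q * g⁻¹) := by group
  · intro h0
    apply h.hz1
    have : z = g⁻¹ * (g * z * g⁻¹) * g := by group
    rw [this, h0]; group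

/-- For `U ≤ Q` containing `z` and `x ∈ Q` outside `U`, some element of `Q` centralizes `U` and
conjugates `x` to `z x`. -/
theorem ExtraLike.exists_centralizing (h : ExtraLike Q z) [Finite ↥Q] (U : Subgroup G)
    (hUQ : U ≤ Q) (hzU : z ∈ U) {x : G} (hxQ : x ∈ Q) (hxU : x ∉ U) :
    ∃ g ∈ Q, (∀ v ∈ U, v * g = g * v) ∧ g * x * g⁻¹ = z * x := by
  have hZA : Subgroup.center ↥Q ≤ U.subgroupOf Q := by
    intro c hc
    rw [Subgroup.mem_subgroupOf]
    rcases (h.center_iff c).mp hc with h1 | h1 <;> rw [h1]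
    · exact U.one_mem
    · exact hzU
  have hxA : (⟨x, hxQ⟩ : ↥Q) ∉ U.subgroupOf Q := by
    rw [Subgroup.mem_subgroupOf]; exact hxU
  obtain ⟨g, hgA, hgx⟩ := exists_centralizing_noncommuting h.hcomm h.hcard (U.subgroupOf Q) hZA
    ⟨x, hxQ⟩ hxA
  refine ⟨g, g.2, ?_, ?_⟩
  · intro v hv
    have := hgA ⟨v, hUQ hv⟩ (by rw [Subgroup.mem_subgroupOf]; exact hv)
    exact congrArg Subtype.val this
  · rcases h.conj_eq g.2 hxQ with h1 | h1
    · exfalso
      apply hgx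
      apply Subtype.ext
      show (g : G) * x = x * g
      calc (g : G) * x = ((g : G) * x * (g : G)⁻¹) * g := by group
        _ = x * g := by rw [h1]
    · exact h1

end

section setting
variable {G : Type*} [Group G]

theorem centralizer_conj_singleton (g x : G) :
    Subgroup.centralizer ({g * x * g⁻¹} : Set G) = cj g (Subgroup.centralizer ({x} : Set G)) := by
  ext y
  rw [mem_cj, Subgroup.mem_centralizer_singleton_iff, Subgroup.mem_centralizer_singleton_iff]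
  constructor
  · intro hA
    calc g⁻¹ * y * g * x = g⁻¹ * (y * (g * x * g⁻¹)) * g := by group
      _ = g⁻¹ * ((g * x * g⁻¹) * y) * g := by rw [hA]
      _ = x * (g⁻¹ * y * g) := by group
  · intro hB
    calc y * (g * x * g⁻¹) = g * (g⁻¹ * y * g * x) * g⁻¹ := by group
      _ = g * (x * (g⁻¹ * y * g)) * g⁻¹ := by rw [hB]
      _ = g * x * g⁻¹ * y := by group

variable (Q : G → Subgroup G)
  (hQ : ∀ x : G, Q x = (Cfsg.pCore 2 ↥(Subgroup.centralizer ({x} : Set G))).map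
    (Subgroup.centralizer ({x} : Set G)).subtype)

include hQ

theorem Q_eq_pCoreOf (x : G) : Q x = Cfsg.pCoreOf 2 (Subgroup.centralizer ({x} : Set G)) := hQ x

theorem Q_conj (g x : G) : Q (g * x * g⁻¹) = cj g (Q x) := by
  have hf2 : Fact (Nat.Prime 2) := ⟨Nat.prime_two⟩
  rw [Q_eq_pCoreOf Q hQ, Q_eq_pCoreOf Q hQ, centralizer_conj_singleton,
    Cfsg.Agent.Lib.Helper55.pCoreOf_cj]

theorem Q_le_centralizer (x : G) : Q x ≤ Subgroup.centralizer ({x} : Set G) := by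
  rw [Q_eq_pCoreOf Q hQ]; exact Cfsg.Agent.Lib.Helper55.pCoreOf_le _

theorem centralizer_le_normalizer_Q (x : G) :
    Subgroup.centralizer ({x} : Set G) ≤ Subgroup.normalizer ((Q x : Subgroup G) : Set G) := by
  rw [Q_eq_pCoreOf Q hQ]; exact Cfsg.Agent.Lib.Helper55.le_normalizer_pCoreOf _

theorem extraLike_Q [Finite G] (z : G) (hz : orderOf z = 2)
    (hE : Cfsg.IsExtraspecial 2 ↥(Q z))
    (hC : Subgroup.centralizer ((Q z : Subgroup G) : Set G) ≤ Q z) : ExtraLike (Q z) z := by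
  have hz1 : z ≠ 1 := by
    intro h
    rw [h, orderOf_one] at hz
    exact absurd hz (by norm_num)
  have hzc : ∀ q ∈ Q z, q * z = z * q := fun q hq =>
    Subgroup.mem_centralizer_singleton_iff.mp (Q_le_centralizer Q hQ z hq)
  have hzQ : z ∈ Q z := hC (Subgroup.mem_centralizer_iff.mpr (fun q hq => hzc q hq))
  exact ExtraLike.of_isExtraspecial (Q z) z hE hzQ hzc hz1

theorem extraLike_Q_conj [Finite G] (z : G) (hz : orderOf z = 2)
    (hE : Cfsg.IsExtraspecial 2 ↥(Q z))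
    (hC : Subgroup.centralizer ((Q z : Subgroup G) : Set G) ≤ Q z) (g : G) :
    ExtraLike (Q (g * z * g⁻¹)) (g * z * g⁻¹) := by
  rw [Q_conj Q hQ]
  exact (extraLike_Q Q hQ z hz hE hC).conj g

/-- For orthogonal `u`, `v` (with `v` singular), `Q u ⊓ Q v ≤ Q (v u)`. -/
theorem Q_inf_le_Q_mul (u v : G) (hv : ExtraLike (Q v) v) (huv : u ∈ Q v) (hu1 : u ≠ 1)
    (hne : u ≠ v) (hvQ : v ∈ Q (v * u)) : Q u ⊓ Q v ≤ Q (v * u) := by
  obtain ⟨y, hyQ, hy⟩ := hv.exists_conj huv hu1 hne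
  intro x hx
  obtain ⟨hxu, hxv⟩ := hx
  have h1 : y * x * y⁻¹ ∈ Q (v * u) := by
    rw [← hy, Q_conj Q hQ]
    exact Cfsg.Agent.Lib.Helper55.conj_mem_cj hxu
  rcases hv.conj_eq hyQ hxv with h2 | h2
  · rw [h2] at h1; exact h1
  · rw [h2] at h1
    have : x = v⁻¹ * (v * x) := by group
    rw [this]
    exact (Q (v * u)).mul_mem ((Q (v * u)).inv_mem hvQ) h1

end setting

end Cfsg.Agent.Lib.Helper38
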