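import Mathlib
import Cfsg.Agent.Lib.Helper38.Singular
import Cfsg.Agent.Lib.Helper38.FourGroup

set_option autoImplicit false
open scoped IsMulCommutative commutatorElement

namespace Cfsg.Agent.Lib.Helper38

open Cfsg.Agent.Lib.Helper55 (cj mem_cj)

section
variable {G : Type*} [Group G]

/-- Squares of elements of an extraspecial-like `Q` are `1` or `z`. -/
theorem ExtraLike.sq_eq {Q : Subgroup G} {z : G} (h : ExtraLike Q z) {x : G} (hx : x ∈ Q) :
    x * x = 1 ∨ x * x = z := by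
  have h1 := h.hsq ⟨x, hx⟩
  rcases (h.center_iff _).mp h1 with h2 | h2
  · left
    have : (x : G) ^ 2 = 1 := congrArg Subtype.val h2
    rwa [sq] at this
  · right
    have : (x : G) ^ 2 = z := congrArg Subtype.val h2
    rwa [sq] at this

/-- The centralizer of `Q` in `G` consists of `1` and `z`, if it lies in `Q`. -/
theorem ExtraLike.mem_centralizer {Q : Subgroup G} {z : G} (h : ExtraLike Q z)
    (hCQ : Subgroup.centralizer (Q : Set G) ≤ Q) {y : G}
    (hy : ∀ q ∈ Q, q * y = y * q) : y = 1 ∨ y = z := by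
  have hyQ : y ∈ Q := hCQ (Subgroup.mem_centralizer_iff.mpr hy)
  have hc : (⟨y, hyQ⟩ : ↥Q) ∈ Subgroup.center ↥Q := by
    rw [Subgroup.mem_center_iff]; intro q; exact Subtype.ext (hy q q.2)
  rcases (h.center_iff _).mp hc with h1 | h1
  · left; exact congrArg Subtype.val h1
  · right; exact congrArg Subtype.val h1

/-- The configuration `b = g z g⁻¹ ∈ Q`, `b ≠ z`, for an extraspecial-like `Q` containing its
centralizer and normalized by the centralizer of `z`. -/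
structure QQSetup (Q : Subgroup G) (z b g : G) : Prop where
  hEL : ExtraLike Q z
  hb : b = g * z * g⁻¹
  hbQ : b ∈ Q
  hbz : b ≠ z
  hCQ : Subgroup.centralizer (Q : Set G) ≤ Q
  hN : Subgroup.centralizer ({z} : Set G) ≤ Subgroup.normalizer (Q : Set G)

variable {Q : Subgroup G} {z b g : G}

namespace QQSetup

theorem hEL₁ (h : QQSetup Q z b g) : ExtraLike (cj g Q) b := by
  rw [h.hb]; exact h.hEL.conj g

theorem hz2 (h : QQSetup Q z b g) : z * z = 1 := h.hEL.sq_eq_one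

theorem hb2 (h : QQSetup Q z b g) : b * b = 1 := h.hEL₁.sq_eq_one

theorem hb1 (h : QQSetup Q z b g) : b ≠ 1 := h.hEL₁.hz1

theorem hzb (h : QQSetup Q z b g) : z * b = b * z := (h.hEL.hzc b h.hbQ).symm

theorem hzQ₁ [Finite G] (h : QQSetup Q z b g) : z ∈ cj g Q := by
  have := mem_conj_of_conj_mem Q h.hEL.hP h.hEL.hcomm h.hEL.hcard h.hEL.hsq z h.hEL.hzQ h.hEL.hzc
    h.hEL.hz1 h.hCQ h.hN g (by rw [← h.hb]; exact h.hbQ)
  exact this

theorem hN₁ (h : QQSetup Q z b g) :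
    Subgroup.centralizer ({b} : Set G) ≤ Subgroup.normalizer ((cj g Q : Subgroup G) : Set G) := by
  rw [h.hb, centralizer_conj_singleton, ← Cfsg.Agent.Lib.Helper55.cj_normalizer]
  exact Cfsg.Agent.Lib.Helper55.cj_mono h.hN

/-- conjugation by an element centralizing `z` preserves `Q` -/
theorem conj_mem_Q (h : QQSetup Q z b g) {x : G} (hx : x * z = z * x) {q : G} (hq : q ∈ Q) :
    x * q * x⁻¹ ∈ Q := by
  have := h.hN (Subgroup.mem_centralizer_singleton_iff.mpr hx)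
  exact (Subgroup.mem_normalizer_iff.mp this q).mp hq

theorem conj_mem_Q₁ (h : QQSetup Q z b g) {x : G} (hx : x * b = b * x) {q : G} (hq : q ∈ cj g Q) :
    x * q * x⁻¹ ∈ cj g Q := by
  have := h.hN₁ (Subgroup.mem_centralizer_singleton_iff.mpr hx)
  exact (Subgroup.mem_normalizer_iff.mp this q).mp hq

theorem hzE [Finite G] (h : QQSetup Q z b g) : z ∈ Q ⊓ cj g Q := ⟨h.hEL.hzQ, h.hzQ₁⟩

theorem hbE (h : QQSetup Q z b g) : b ∈ Q ⊓ cj g Q := ⟨h.hbQ, h.hEL₁.hzQ⟩

/-- `E = Q ∩ Q^g` has exponent 2 -/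
theorem E_sq (h : QQSetup Q z b g) {x : G} (hx : x ∈ Q ⊓ cj g Q) : x * x = 1 := by
  rcases h.hEL.sq_eq hx.1 with h1 | h1
  · exact h1
  · rcases h.hEL₁.sq_eq hx.2 with h2 | h2
    · exact h2
    · exfalso; exact h.hbz (h2.symm.trans h1)

/-- `E = Q ∩ Q^g` is abelian -/
theorem E_comm (h : QQSetup Q z b g) {x y : G} (hx : x ∈ Q ⊓ cj g Q) (hy : y ∈ Q ⊓ cj g Q) :
    x * y = y * x := by
  rcases h.hEL.comm_eq hx.1 hy.1 with h1 | h1
  · exact (cm_eq_one_iff x y).mp h1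
  · rcases h.hEL₁.comm_eq hx.2 hy.2 with h2 | h2
    · exact (cm_eq_one_iff x y).mp h2
    · exfalso; exact h.hbz (h2.symm.trans h1)

end QQSetup

end

section
variable {G : Type*} [Group G]

/-- Induction over a join of two subgroups, with no inverse case. -/
theorem sup_induction' {H K : Subgroup G} {P : G → Prop} (hH : ∀ x ∈ H, P x) (hK : ∀ x ∈ K, P x)
    (h1 : P 1) (hmul : ∀ x y, P x → P y → P (x * y)) : ∀ x ∈ H ⊔ K, P x := by
  intro x hx
  have key : P x ∧ P x⁻¹ := by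
    rw [Subgroup.sup_eq_closure] at hx
    induction hx using Subgroup.closure_induction with
    | mem y hy =>
      rcases hy with hy | hy
      · exact ⟨hH y hy, hH _ (H.inv_mem hy)⟩
      · exact ⟨hK y hy, hK _ (K.inv_mem hy)⟩
    | one => exact ⟨h1, by rw [inv_one]; exact h1⟩
    | mul a c _ _ iha ihc =>
      refine ⟨hmul _ _ iha.1 ihc.1, ?_⟩
      rw [mul_inv_rev]
      exact hmul _ _ ihc.2 iha.2
    | inv a _ iha => exact ⟨iha.2, by rw [inv_inv]; exact iha.1⟩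
  exact key.1

end

section
variable {G : Type*} [Group G]

/-- `C_Q(b)` -/
abbrev QQR₁ (Q : Subgroup G) (b : G) : Subgroup G := Q ⊓ Subgroup.centralizer ({b} : Set G)
/-- `C_{Q^g}(z)` -/
abbrev QQR₂ (Q : Subgroup G) (z g : G) : Subgroup G := cj g Q ⊓ Subgroup.centralizer ({z} : Set G)
/-- `R = C_{Q^g}(z) C_Q(b)` -/
abbrev QQR (Q : Subgroup G) (z b g : G) : Subgroup G := QQR₂ Q z g ⊔ QQR₁ Q b
/-- `E = Q ∩ Q^g` -/
abbrev QQE (Q : Subgroup G) (g : G) : Subgroup G := Q ⊓ cj g Q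
/-- `X = ⟨Q, Q^g⟩` -/
abbrev QQX (Q : Subgroup G) (g : G) : Subgroup G := Q ⊔ cj g Q

variable {Q : Subgroup G} {z b g : G}

namespace QQSetup

theorem R_comm_z (h : QQSetup Q z b g) {x : G} (hx : x ∈ QQR Q z b g) : x * z = z * x := by
  refine sup_induction' (P := fun x => x * z = z * x) ?_ ?_ ?_ ?_ x hx
  · intro y hy; exact Subgroup.mem_centralizer_singleton_iff.mp hy.2
  · intro y hy; exact h.hEL.hzc y hy.1
  · rw [one_mul, mul_one]
  · intro x y hx hy; rw [mul_assoc, hy, ← mul_assoc, hx, mul_assoc]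

theorem R_comm_b (h : QQSetup Q z b g) {x : G} (hx : x ∈ QQR Q z b g) : x * b = b * x := by
  refine sup_induction' (P := fun x => x * b = b * x) ?_ ?_ ?_ ?_ x hx
  · intro y hy; exact h.hEL₁.hzc y hy.1
  · intro y hy; exact Subgroup.mem_centralizer_singleton_iff.mp hy.2
  · rw [one_mul, mul_one]
  · intro x y hx hy; rw [mul_assoc, hy, ← mul_assoc, hx, mul_assoc]

theorem comm_R₁_R₂ (h : QQSetup Q z b g) {x y : G} (hx : x ∈ QQR₁ Q b) (hy : y ∈ QQR₂ Q z g) :
    x * y * x⁻¹ * y⁻¹ ∈ QQE Q g := by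
  constructor
  · have : x * y * x⁻¹ * y⁻¹ = x * (y * x⁻¹ * y⁻¹) := by group
    rw [this]
    exact Q.mul_mem hx.1
      (h.conj_mem_Q (Subgroup.mem_centralizer_singleton_iff.mp hy.2) (Q.inv_mem hx.1))
  · exact (cj g Q).mul_mem (h.conj_mem_Q₁ (Subgroup.mem_centralizer_singleton_iff.mp hx.2) hy.1)
      ((cj g Q).inv_mem hy.1)

theorem E_conj (h : QQSetup Q z b g) {x e : G} (hxz : x * z = z * x) (hxb : x * b = b * x)
    (he : e ∈ QQE Q g) : x * e * x⁻¹ ∈ QQE Q g :=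
  ⟨h.conj_mem_Q hxz he.1, h.conj_mem_Q₁ hxb he.2⟩

theorem one_or_z_mem_E [Finite G] (h : QQSetup Q z b g) {x : G} (hx : x = 1 ∨ x = z) :
    x ∈ QQE Q g := by
  rcases hx with hx | hx <;> rw [hx]
  · exact Subgroup.one_mem _
  · exact h.hzE

theorem one_or_b_mem_E (h : QQSetup Q z b g) {x : G} (hx : x = 1 ∨ x = b) :
    x ∈ QQE Q g := by
  rcases hx with hx | hx <;> rw [hx]
  · exact Subgroup.one_mem _
  · exact h.hbE

/-- commutators of generators of `R` lie in `E` -/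
theorem comm_gen_mem_E [Finite G] (h : QQSetup Q z b g) {s t : G}
    (hs : s ∈ QQR₂ Q z g ∨ s ∈ QQR₁ Q b) (ht : t ∈ QQR₂ Q z g ∨ t ∈ QQR₁ Q b) :
    s * t * s⁻¹ * t⁻¹ ∈ QQE Q g := by
  rcases hs with hs | hs <;> rcases ht with ht | ht
  · exact h.one_or_b_mem_E (h.hEL₁.comm_eq hs.1 ht.1)
  · have := h.comm_R₁_R₂ ht hs
    have h2 : s * t * s⁻¹ * t⁻¹ = (t * s * t⁻¹ * s⁻¹)⁻¹ := by group
    rw [h2]; exact (QQE Q g).inv_mem this
  · exact h.comm_R₁_R₂ hs ht
  · exact h.one_or_z_mem_E (h.hEL.comm_eq hs.1 ht.1)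

theorem gen_mem_R {s : G} (hs : s ∈ QQR₂ Q z g ∨ s ∈ QQR₁ Q b) : s ∈ QQR Q z b g := by
  rcases hs with hs | hs
  · exact Subgroup.mem_sup_left hs
  · exact Subgroup.mem_sup_right hs

/-- `R / E` is abelian -/
theorem comm_mem_E [Finite G] (h : QQSetup Q z b g) {x y : G} (hx : x ∈ QQR Q z b g)
    (hy : y ∈ QQR Q z b g) : x * y * x⁻¹ * y⁻¹ ∈ QQE Q g := by
  -- step C
  have hC : ∀ x ∈ QQR Q z b g, (x * z = z * x ∧ x * b = b * x) ∧
      ∀ t, (t ∈ QQR₂ Q z g ∨ t ∈ QQR₁ Q b) → x * t * x⁻¹ * t⁻¹ ∈ QQE Q g := by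
    refine sup_induction' (P := fun x => (x * z = z * x ∧ x * b = b * x) ∧
      ∀ t, (t ∈ QQR₂ Q z g ∨ t ∈ QQR₁ Q b) → x * t * x⁻¹ * t⁻¹ ∈ QQE Q g) ?_ ?_ ?_ ?_
    · intro s hs
      exact ⟨⟨h.R_comm_z (Subgroup.mem_sup_left hs), h.R_comm_b (Subgroup.mem_sup_left hs)⟩,
        fun t ht => h.comm_gen_mem_E (Or.inl hs) ht⟩
    · intro s hs
      exact ⟨⟨h.R_comm_z (Subgroup.mem_sup_right hs), h.R_comm_b (Subgroup.mem_sup_right hs)⟩,
        fun t ht => h.comm_gen_mem_E (Or.inr hs) ht⟩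
    · refine ⟨⟨by rw [one_mul, mul_one], by rw [one_mul, mul_one]⟩, fun t _ => ?_⟩
      have : (1 : G) * t * 1⁻¹ * t⁻¹ = 1 := by group
      rw [this]; exact Subgroup.one_mem _
    · rintro x₁ x₂ ⟨⟨h1z, h1b⟩, h1⟩ ⟨⟨h2z, h2b⟩, h2⟩
      refine ⟨⟨by rw [mul_assoc, h2z, ← mul_assoc, h1z, mul_assoc],
        by rw [mul_assoc, h2b, ← mul_assoc, h1b, mul_assoc]⟩, fun t ht => ?_⟩
      have : x₁ * x₂ * t * (x₁ * x₂)⁻¹ * t⁻¹ =
          (x₁ * (x₂ * t * x₂⁻¹ * t⁻¹) * x₁⁻¹) * (x₁ * t * x₁⁻¹ * t⁻¹) := by group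
      rw [this]
      exact (QQE Q g).mul_mem (h.E_conj h1z h1b (h2 t ht)) (h1 t ht)
  -- step D
  have hD : ∀ y ∈ QQR Q z b g, (y * z = z * y ∧ y * b = b * y) ∧
      x * y * x⁻¹ * y⁻¹ ∈ QQE Q g := by
    refine sup_induction' (P := fun y => (y * z = z * y ∧ y * b = b * y) ∧
      x * y * x⁻¹ * y⁻¹ ∈ QQE Q g) ?_ ?_ ?_ ?_
    · intro s hs
      exact ⟨⟨h.R_comm_z (Subgroup.mem_sup_left hs), h.R_comm_b (Subgroup.mem_sup_left hs)⟩,
        (hC x hx).2 s (Or.inl hs)⟩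
    · intro s hs
      exact ⟨⟨h.R_comm_z (Subgroup.mem_sup_right hs), h.R_comm_b (Subgroup.mem_sup_right hs)⟩,
        (hC x hx).2 s (Or.inr hs)⟩
    · refine ⟨⟨by rw [one_mul, mul_one], by rw [one_mul, mul_one]⟩, ?_⟩
      have : x * 1 * x⁻¹ * (1 : G)⁻¹ = 1 := by group
      rw [this]; exact Subgroup.one_mem _
    · rintro y₁ y₂ ⟨⟨h1z, h1b⟩, h1⟩ ⟨⟨h2z, h2b⟩, h2⟩
      refine ⟨⟨by rw [mul_assoc, h2z, ← mul_assoc, h1z, mul_assoc],
        by rw [mul_assoc, h2b, ← mul_assoc, h1b, mul_assoc]⟩, ?_⟩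
      have : x * (y₁ * y₂) * x⁻¹ * (y₁ * y₂)⁻¹ =
          (x * y₁ * x⁻¹ * y₁⁻¹) * (y₁ * (x * y₂ * x⁻¹ * y₂⁻¹) * y₁⁻¹) := by group
      rw [this]
      exact (QQE Q g).mul_mem h1 (h.E_conj h1z h1b h2)
  exact (hD y hy).2

/-- squares of elements of `R` lie in `E` -/
theorem sq_mem_E [Finite G] (h : QQSetup Q z b g) {x : G} (hx : x ∈ QQR Q z b g) :
    x * x ∈ QQE Q g := by
  have key : ∀ x ∈ QQR Q z b g, x ∈ QQR Q z b g ∧ x * x ∈ QQE Q g := by
    refine sup_induction' (P := fun x => x ∈ QQR Q z b g ∧ x * x ∈ QQE Q g) ?_ ?_ ?_ ?_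
    · intro s hs
      exact ⟨Subgroup.mem_sup_left hs, h.one_or_b_mem_E (h.hEL₁.sq_eq hs.1)⟩
    · intro s hs
      exact ⟨Subgroup.mem_sup_right hs, h.one_or_z_mem_E (h.hEL.sq_eq hs.1)⟩
    · exact ⟨Subgroup.one_mem _, by rw [one_mul]; exact Subgroup.one_mem _⟩
    · rintro x y ⟨hxR, hx2⟩ ⟨hyR, hy2⟩
      refine ⟨Subgroup.mul_mem _ hxR hyR, ?_⟩
      have : x * y * (x * y) = (x * x) * (x⁻¹ * y * x⁻¹⁻¹ * y⁻¹) * (y * y) := by group
      rw [this]
      exact (QQE Q g).mul_mem ((QQE Q g).mul_mem hx2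
        (h.comm_mem_E (Subgroup.inv_mem _ hxR) hyR)) hy2
  exact (key x hx).2

/-- `C_Q(b)` has index two in `Q`, with coset representative `a`. -/
theorem R₁_coset (h : QQSetup Q z b g) {a : G} (hab : a * b * a⁻¹ = z * b)
    (haQ : a ∈ Q) {q : G} (hq : q ∈ Q) : q ∈ QQR₁ Q b ∨ a⁻¹ * q ∈ QQR₁ Q b := by
  rcases h.hEL.conj_eq hq h.hbQ with h1 | h1
  · left
    refine ⟨hq, Subgroup.mem_centralizer_singleton_iff.mpr ?_⟩
    calc q * b = (q * b * q⁻¹) * q := by group
      _ = b * q := by rw [h1]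
  · right
    refine ⟨Q.mul_mem (Q.inv_mem haQ) hq, Subgroup.mem_centralizer_singleton_iff.mpr ?_⟩
    have e1 : q * b = z * b * q := by
      calc q * b = (q * b * q⁻¹) * q := by group
        _ = z * b * q := by rw [h1]
    have e2 : a⁻¹ * (z * b) = b * a⁻¹ := by
      rw [← hab]; group
    calc a⁻¹ * q * b = a⁻¹ * (q * b) := by group
      _ = a⁻¹ * (z * b * q) := by rw [e1]
      _ = (a⁻¹ * (z * b)) * q := by group
      _ = b * (a⁻¹ * q) := by rw [e2]; group

/-- An element commuting with `C_Q(b)` and with `a` centralizes `Q`. -/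
theorem centralizes_Q_of (h : QQSetup Q z b g) {a : G} (hab : a * b * a⁻¹ = z * b)
    (haQ : a ∈ Q) {y : G} (hy : ∀ r ∈ QQR₁ Q b, r * y = y * r) (hya : a * y = y * a) :
    ∀ q ∈ Q, q * y = y * q := by
  intro q hq
  rcases h.R₁_coset hab haQ hq with h1 | h1
  · exact hy q h1
  · have h2 := hy _ h1
    calc q * y = a * (a⁻¹ * q * y) := by group
      _ = a * (y * (a⁻¹ * q)) := by rw [h2]
      _ = (a * y) * (a⁻¹ * q) := by group
      _ = y * a * (a⁻¹ * q) := by rw [hya]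
      _ = y * q := by group

/-- The centralizer of `C_Q(b)` in the centralizer of `z` is the four-group `⟨z, b⟩`. -/
theorem mem_four_of_centralizes_R₁ (h : QQSetup Q z b g) {y : G} (hyz : y * z = z * y)
    (hy : ∀ r ∈ QQR₁ Q b, r * y = y * r) : y = 1 ∨ y = z ∨ y = b ∨ y = z * b := by
  obtain ⟨a, haQ, hab⟩ := h.hEL.exists_conj h.hbQ h.hb1 h.hbz
  have hz2 := h.hz2
  have hb2 := h.hb2
  have hzb := h.hzb
  have hza : a * z = z * a := h.hEL.hzc a haQ
  have hbR₁ : b ∈ QQR₁ Q b := ⟨h.hbQ, Subgroup.mem_centralizer_singleton_iff.mpr rfl⟩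
  have hby : b * y = y * b := hy b hbR₁
  -- `b a b⁻¹ = z a`
  have hba : b * a = z * a * b := by
    have e : a * b = z * b * a := by
      calc a * b = (a * b * a⁻¹) * a := by group
        _ = z * b * a := by rw [hab]
    calc b * a = (z * z) * b * a := by rw [hz2, one_mul]
      _ = z * (z * b * a) := by group
      _ = z * (a * b) := by rw [e]
      _ = z * a * b := by group
  -- the element `c`
  set c := a⁻¹ * (y * a * y⁻¹) with hc
  have hcQ : c ∈ Q := Q.mul_mem (Q.inv_mem haQ) (h.conj_mem_Q hyz haQ)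
  have hac : a * c = y * a * y⁻¹ := by rw [hc]; group
  -- `c` centralizes `C_Q(b)`
  have hcR : ∀ r ∈ QQR₁ Q b, r * c = c * r := by
    intro r hr
    have hr' : a * r * a⁻¹ ∈ QQR₁ Q b := by
      refine ⟨Q.mul_mem (Q.mul_mem haQ hr.1) (Q.inv_mem haQ),
        Subgroup.mem_centralizer_singleton_iff.mpr ?_⟩
      have hrb : r * b = b * r := Subgroup.mem_centralizer_singleton_iff.mp hr.2
      have hrz : r * z = z * r := h.hEL.hzc r hr.1
      have e2 : a⁻¹ * b = z * b * a⁻¹ := by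
        have : z * b * a⁻¹ = a⁻¹ * (a * (z * b) * a⁻¹) := by group
        rw [this]
        have e3 : a * (z * b) * a⁻¹ = b := by
          calc a * (z * b) * a⁻¹ = (a * z) * b * a⁻¹ := by group
            _ = z * (a * b * a⁻¹) := by rw [hza]; group
            _ = z * (z * b) := by rw [hab]
            _ = b := by rw [← mul_assoc, hz2, one_mul]
        rw [e3]
      calc a * r * a⁻¹ * b = a * r * (a⁻¹ * b) := by group
        _ = a * r * (z * b * a⁻¹) := by rw [e2]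
        _ = a * (r * z) * b * a⁻¹ := by group
        _ = a * (z * r) * b * a⁻¹ := by rw [hrz]
        _ = a * z * (r * b) * a⁻¹ := by group
        _ = a * z * (b * r) * a⁻¹ := by rw [hrb]
        _ = (a * (z * b) * a⁻¹) * (a * r * a⁻¹) := by group
        _ = b * (a * r * a⁻¹) := by
          have e3 : a * (z * b) * a⁻¹ = b := by
            calc a * (z * b) * a⁻¹ = (a * z) * b * a⁻¹ := by group
              _ = z * (a * b * a⁻¹) := by rw [hza]; group
              _ = z * (z * b) := by rw [hab]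
              _ = b := by rw [← mul_assoc, hz2, one_mul]
          rw [e3]
    have h1 := hy r hr
    have h2 := hy _ hr'
    have h1' : y⁻¹ * r = r * y⁻¹ := by
      calc y⁻¹ * r = y⁻¹ * (r * y) * y⁻¹ := by group
        _ = y⁻¹ * (y * r) * y⁻¹ := by rw [h1]
        _ = r * y⁻¹ := by group
    symm
    calc c * r = a⁻¹ * y * a * (y⁻¹ * r) := by rw [hc]; group
      _ = a⁻¹ * y * a * (r * y⁻¹) := by rw [h1']
      _ = a⁻¹ * (y * (a * r * a⁻¹)) * a * y⁻¹ := by group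
      _ = a⁻¹ * (a * r * a⁻¹ * y) * a * y⁻¹ := by rw [h2]
      _ = r * c := by rw [hc]; group
  -- `c ∈ {1, z, b, z b}`
  have hbnc : (⟨b, h.hbQ⟩ : ↥Q) ∉ Subgroup.center ↥Q := by
    intro h0
    rcases (h.hEL.center_iff _).mp h0 with h1 | h1
    · exact h.hb1 (congrArg Subtype.val h1)
    · exact h.hbz (congrArg Subtype.val h1)
  have hc4 := mem_center_or_of_centralizes_centralizer h.hEL.hcomm h.hEL.hcard
    (⟨b, h.hbQ⟩ : ↥Q) ⟨c, hcQ⟩ hbnc (by
      intro x hx
      have hxb : (x : G) * b = b * x := congrArg Subtype.val hx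
      have hxR : (x : G) ∈ QQR₁ Q b := ⟨x.2, Subgroup.mem_centralizer_singleton_iff.mpr hxb⟩
      exact Subtype.ext (hcR _ hxR))
  -- `c a c = a`
  have haa : y * (a * a) = (a * a) * y := by
    rcases h.hEL.sq_eq haQ with h1 | h1 <;> rw [h1]
    · rw [one_mul, mul_one]
    · exact hyz
  have hcac : c * a * c = a := by
    have e1 : (a * c) * (a * c) = a * a := by
      rw [hac]
      calc y * a * y⁻¹ * (y * a * y⁻¹) = (y * (a * a)) * y⁻¹ := by group
        _ = a * a * y * y⁻¹ := by rw [haa]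
        _ = a * a := by group
    have e2 : a * (c * a * c) = a * a := by rw [← e1]; group
    exact mul_left_cancel e2
  -- exclude `c = b` and `c = z b`
  have hbab : b * a * b ≠ a := by
    intro h0
    have e1 : a * b * a⁻¹ = b := by
      calc a * b * a⁻¹ = (b * a * b) * b * a⁻¹ := by rw [h0]
        _ = b * a * (b * b) * a⁻¹ := by group
        _ = b := by rw [hb2]; group
    rw [hab] at e1
    exact h.hEL.hz1 (mul_eq_right.mp e1)
  have hzbazb : z * b * a * (z * b) = b * a * b := by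
    calc z * b * a * (z * b) = b * z * a * (z * b) := by rw [hzb]
      _ = b * (z * a) * (z * b) := by group
      _ = b * (a * z) * (z * b) := by rw [hza]
      _ = b * a * (z * z) * b := by group
      _ = b * a * b := by rw [hz2, mul_one]
  -- the two good cases
  have hcase : c = 1 ∨ c = z := by
    rcases hc4 with h1 | h1
    · rcases (h.hEL.center_iff _).mp h1 with h2 | h2
      · left; exact congrArg Subtype.val h2
      · right; exact congrArg Subtype.val h2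
    · exfalso
      rcases (h.hEL.center_iff _).mp h1 with h2 | h2
      · have h3 : c * b⁻¹ = 1 := congrArg Subtype.val h2
        have h4 : c = b := mul_inv_eq_one.mp h3
        rw [h4] at hcac
        exact hbab hcac
      · have h3 : c * b⁻¹ = z := congrArg Subtype.val h2
        have h4 : c = z * b := mul_inv_eq_iff_eq_mul.mp h3
        rw [h4, hzbazb] at hcac
        exact hbab hcac
  rcases hcase with h1 | h1
  · -- `y` centralizes `Q`
    have hya : a * y = y * a := by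
      rw [h1, mul_one] at hac
      calc a * y = (y * a * y⁻¹) * y := by rw [← hac]
        _ = y * a := by group
    rcases h.hEL.mem_centralizer h.hCQ (h.centralizes_Q_of hab haQ hy hya) with h2 | h2
    · left; exact h2
    · right; left; exact h2
  · -- `b y` centralizes `Q`
    have hy' : ∀ r ∈ QQR₁ Q b, r * (b * y) = (b * y) * r := by
      intro r hr
      have hrb : r * b = b * r := Subgroup.mem_centralizer_singleton_iff.mp hr.2
      calc r * (b * y) = (r * b) * y := by group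
        _ = b * (r * y) := by rw [hrb]; group
        _ = b * (y * r) := by rw [hy r hr]
        _ = b * y * r := by group
    have hya : a * (b * y) = (b * y) * a := by
      have e1 : y * a = a * z * y := by
        calc y * a = (y * a * y⁻¹) * y := by group
          _ = a * z * y := by rw [← hac, h1]
      calc a * (b * y) = (z * z) * a * b * y := by rw [hz2, one_mul]; group
        _ = z * (z * a * b) * y := by group
        _ = z * (b * a) * y := by rw [hba]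
        _ = b * (a * z) * y := by rw [hza, ← mul_assoc z b, hzb]; group
        _ = b * (a * z * y) := by group
        _ = b * (y * a) := by rw [e1]
        _ = b * y * a := by group
    rcases h.hEL.mem_centralizer h.hCQ (h.centralizes_Q_of hab haQ hy' hya) with h2 | h2
    · right; right; left
      calc y = (b * b) * y := by rw [hb2, one_mul]
        _ = b * (b * y) := by group
        _ = b := by rw [h2, mul_one]
    · right; right; right
      calc y = (b * b) * y := by rw [hb2, one_mul]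
        _ = b * (b * y) := by group
        _ = z * b := by rw [h2, hzb]

/-- The four-group `V = ⟨z, b⟩`. -/
abbrev V (h : QQSetup Q z b g) : Subgroup G := fourSub z b h.hz2 h.hb2 h.hzb

theorem z_mem_V (h : QQSetup Q z b g) : z ∈ h.V := Or.inr (Or.inl rfl)

theorem b_mem_V (h : QQSetup Q z b g) : b ∈ h.V := Or.inr (Or.inr (Or.inl rfl))

theorem closure_eq_V (h : QQSetup Q z b g) : Subgroup.closure ({z, b} : Set G) = h.V := by
  apply le_antisymm
  · rw [Subgroup.closure_le]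
    intro x hx
    rcases hx with hx | hx
    · rw [hx]; exact h.z_mem_V
    · rw [Set.mem_singleton_iff] at hx; rw [hx]; exact h.b_mem_V
  · have hz : z ∈ Subgroup.closure ({z, b} : Set G) := Subgroup.subset_closure (Or.inl rfl)
    have hb : b ∈ Subgroup.closure ({z, b} : Set G) :=
      Subgroup.subset_closure (Or.inr (Set.mem_singleton b))
    intro x hx
    rcases hx with hx | hx | hx | hx <;> rw [hx]
    · exact Subgroup.one_mem _
    · exact hz
    · exact hb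
    · exact Subgroup.mul_mem _ hz hb

theorem E_le_R₁ (h : QQSetup Q z b g) : QQE Q g ≤ QQR₁ Q b := fun e he =>
  ⟨he.1, Subgroup.mem_centralizer_singleton_iff.mpr (h.hEL₁.hzc e he.2)⟩

theorem E_le_R₂ (h : QQSetup Q z b g) : QQE Q g ≤ QQR₂ Q z g := fun e he =>
  ⟨he.2, Subgroup.mem_centralizer_singleton_iff.mpr (h.hEL.hzc e he.1)⟩

theorem E_le_R (h : QQSetup Q z b g) : QQE Q g ≤ QQR Q z b g :=
  h.E_le_R₁.trans le_sup_right

theorem V_le_E [Finite G] (h : QQSetup Q z b g) : h.V ≤ QQE Q g := by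
  intro x hx
  rcases hx with hx | hx | hx | hx <;> rw [hx]
  · exact Subgroup.one_mem _
  · exact h.hzE
  · exact h.hbE
  · exact Subgroup.mul_mem _ h.hzE h.hbE

/-- `V` is central in `R`. -/
theorem V_central (h : QQSetup Q z b g) {v x : G} (hv : v ∈ h.V) (hx : x ∈ QQR Q z b g) :
    x * v = v * x := by
  have hxz := h.R_comm_z hx
  have hxb := h.R_comm_b hx
  rcases hv with hv | hv | hv | hv <;> rw [hv]
  · rw [one_mul, mul_one]
  · exact hxz
  · exact hxb
  · rw [← mul_assoc, hxz, mul_assoc, hxb, mul_assoc]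

/-- `[E, R] ≤ V`. -/
theorem comm_E_R_mem_V (h : QQSetup Q z b g) {e y : G} (he : e ∈ QQE Q g)
    (hy : y ∈ QQR Q z b g) : e * y * e⁻¹ * y⁻¹ ∈ h.V := by
  have key : ∀ y ∈ QQR Q z b g, y ∈ QQR Q z b g ∧ e * y * e⁻¹ * y⁻¹ ∈ h.V := by
    refine sup_induction' (P := fun y => y ∈ QQR Q z b g ∧ e * y * e⁻¹ * y⁻¹ ∈ h.V) ?_ ?_ ?_ ?_
    · intro s hs
      refine ⟨Subgroup.mem_sup_left hs, ?_⟩
      rcases h.hEL₁.comm_eq he.2 hs.1 with h1 | h1 <;> rw [h1]
      · exact Subgroup.one_mem _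
      · exact h.b_mem_V
    · intro s hs
      refine ⟨Subgroup.mem_sup_right hs, ?_⟩
      rcases h.hEL.comm_eq he.1 hs.1 with h1 | h1 <;> rw [h1]
      · exact Subgroup.one_mem _
      · exact h.z_mem_V
    · refine ⟨Subgroup.one_mem _, ?_⟩
      have : e * 1 * e⁻¹ * (1 : G)⁻¹ = 1 := by group
      rw [this]; exact Subgroup.one_mem _
    · rintro y₁ y₂ ⟨h1R, h1⟩ ⟨h2R, h2⟩
      refine ⟨Subgroup.mul_mem _ h1R h2R, ?_⟩
      have e1 : e * (y₁ * y₂) * e⁻¹ * (y₁ * y₂)⁻¹ =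
          (e * y₁ * e⁻¹ * y₁⁻¹) * (y₁ * (e * y₂ * e⁻¹ * y₂⁻¹) * y₁⁻¹) := by group
      have e2 : y₁ * (e * y₂ * e⁻¹ * y₂⁻¹) * y₁⁻¹ = e * y₂ * e⁻¹ * y₂⁻¹ := by
        rw [h.V_central h2 h1R]; group
      rw [e1, e2]
      exact Subgroup.mul_mem _ h1 h2
  exact (key y hy).2

/-- An element conjugating `z` and `b` into `V` conjugates `V` into itself. -/
theorem conj_V_of (h : QQSetup Q z b g) {x : G} (hz : x * z * x⁻¹ ∈ h.V)
    (hb : x * b * x⁻¹ ∈ h.V) : ∀ v ∈ h.V, x * v * x⁻¹ ∈ h.V := by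
  intro v hv
  rcases hv with hv | hv | hv | hv <;> rw [hv]
  · rw [mul_one, mul_inv_cancel]; exact Subgroup.one_mem _
  · exact hz
  · exact hb
  · have : x * (z * b) * x⁻¹ = (x * z * x⁻¹) * (x * b * x⁻¹) := by group
    rw [this]; exact Subgroup.mul_mem _ hz hb

/-- Elements of `Q` normalize `V`. -/
theorem conj_V_of_mem_Q (h : QQSetup Q z b g) {x : G} (hx : x ∈ Q) :
    ∀ v ∈ h.V, x * v * x⁻¹ ∈ h.V := by
  apply h.conj_V_of
  · have : x * z * x⁻¹ = z := by rw [h.hEL.hzc x hx]; group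
    rw [this]; exact h.z_mem_V
  · rcases h.hEL.conj_eq hx h.hbQ with h1 | h1 <;> rw [h1]
    · exact h.b_mem_V
    · exact Subgroup.mul_mem _ h.z_mem_V h.b_mem_V

/-- Elements of `Q^g` normalize `V`. -/
theorem conj_V_of_mem_Q₁ [Finite G] (h : QQSetup Q z b g) {x : G} (hx : x ∈ cj g Q) :
    ∀ v ∈ h.V, x * v * x⁻¹ ∈ h.V := by
  apply h.conj_V_of
  · rcases h.hEL₁.conj_eq hx h.hzQ₁ with h1 | h1 <;> rw [h1]
    · exact h.z_mem_V
    · exact Subgroup.mul_mem _ h.b_mem_V h.z_mem_V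
  · have : x * b * x⁻¹ = b := by rw [h.hEL₁.hzc x hx]; group
    rw [this]; exact h.b_mem_V

/-- `X` normalizes `V`. -/
theorem conj_V_of_mem_X [Finite G] (h : QQSetup Q z b g) {x : G} (hx : x ∈ QQX Q g) :
    ∀ v ∈ h.V, x * v * x⁻¹ ∈ h.V := by
  refine sup_induction' (P := fun x => ∀ v ∈ h.V, x * v * x⁻¹ ∈ h.V) ?_ ?_ ?_ ?_ x hx
  · intro s hs; exact h.conj_V_of_mem_Q hs
  · intro s hs; exact h.conj_V_of_mem_Q₁ hs
  · intro v hv; rw [one_mul, inv_one, mul_one]; exact hv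
  · intro x₁ x₂ h1 h2 v hv
    have : x₁ * x₂ * v * (x₁ * x₂)⁻¹ = x₁ * (x₂ * v * x₂⁻¹) * x₁⁻¹ := by group
    rw [this]; exact h1 _ (h2 v hv)

/-- `[X, E] ≤ V`. -/
theorem comm_X_E_mem_V [Finite G] (h : QQSetup Q z b g) {x e : G} (hx : x ∈ QQX Q g)
    (he : e ∈ QQE Q g) : x * e * x⁻¹ * e⁻¹ ∈ h.V := by
  have key : ∀ x ∈ QQX Q g, x ∈ QQX Q g ∧ x * e * x⁻¹ * e⁻¹ ∈ h.V := by
    refine sup_induction' (P := fun x => x ∈ QQX Q g ∧ x * e * x⁻¹ * e⁻¹ ∈ h.V) ?_ ?_ ?_ ?_
    · intro s hs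
      refine ⟨Subgroup.mem_sup_left hs, ?_⟩
      rcases h.hEL.comm_eq hs he.1 with h1 | h1 <;> rw [h1]
      · exact Subgroup.one_mem _
      · exact h.z_mem_V
    · intro s hs
      refine ⟨Subgroup.mem_sup_right hs, ?_⟩
      rcases h.hEL₁.comm_eq hs he.2 with h1 | h1 <;> rw [h1]
      · exact Subgroup.one_mem _
      · exact h.b_mem_V
    · refine ⟨Subgroup.one_mem _, ?_⟩
      have : (1 : G) * e * 1⁻¹ * e⁻¹ = 1 := by group
      rw [this]; exact Subgroup.one_mem _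
    · rintro x₁ x₂ ⟨h1X, h1⟩ ⟨h2X, h2⟩
      refine ⟨Subgroup.mul_mem _ h1X h2X, ?_⟩
      have e1 : x₁ * x₂ * e * (x₁ * x₂)⁻¹ * e⁻¹ =
          (x₁ * (x₂ * e * x₂⁻¹ * e⁻¹) * x₁⁻¹) * (x₁ * e * x₁⁻¹ * e⁻¹) := by group
      rw [e1]
      exact Subgroup.mul_mem _ (h.conj_V_of_mem_X h1X _ h2) h1
  exact (key x hx).2

end QQSetup

end

end Cfsg.Agent.Lib.Helper38
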