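import Mathlib
import Cfsg.Prelude.Def_Transfer
import Cfsg.Agent.Lib.Helper14.TransferX

/-!
# Transfer into a quotient of order two, evaluated on involutions

For `K ≤ H ≤ G` with `|H : K| = 2`, an involution `u` and a 2-subgroup `A` centralizing `u`,
the number of cosets `g H` fixed by `A` with `g⁻¹ u g ∈ H \ K` is even as soon as `G` has no
nontrivial homomorphism to the group of order two.
-/

set_option autoImplicit false

namespace Cfsg.Agent.Lib.Helper38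

section
variable {G : Type*} [Group G]

/-- The sign character of `H` with kernel the index-two subgroup `K`. -/
noncomputable def signHom (H K : Subgroup G) (hKi : K.relIndex H = 2) : ↥H →* ℤˣ := by
  classical
  exact MonoidHom.mk' (fun h => if (h : G) ∈ K then 1 else -1) (by
    intro a b
    have hidx : (K.subgroupOf H).index = 2 := hKi
    have := Subgroup.mul_mem_iff_of_index_two hidx (a := a) (b := b)
    simp only [Subgroup.mem_subgroupOf, Subgroup.coe_mul] at this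
    by_cases ha : (a : G) ∈ K <;> by_cases hb : (b : G) ∈ K <;> simp [ha, hb, this])

theorem signHom_eq_one_iff (H K : Subgroup G) (hKi : K.relIndex H = 2) (h : ↥H) :
    signHom H K hKi h = 1 ↔ (h : G) ∈ K := by
  classical
  unfold signHom
  simp only [MonoidHom.mk'_apply]
  split_ifs with h1
  · simp [h1]
  · simp [h1]

theorem signHom_eq_neg_one_iff (H K : Subgroup G) (hKi : K.relIndex H = 2) (h : ↥H) :
    signHom H K hKi h = -1 ↔ (h : G) ∉ K := by
  classical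
  unfold signHom
  simp only [MonoidHom.mk'_apply]
  split_ifs with h1
  · simp [h1]
  · simp [h1]

/-- `K` of index two in `H` is normalized by `H`. -/
theorem conj_mem_iff_of_relIndex_two (H K : Subgroup G) (hKi : K.relIndex H = 2) {h x : G}
    (hh : h ∈ H) (hx : x ∈ H) : h⁻¹ * x * h ∈ K ↔ x ∈ K := by
  have hm : h⁻¹ * x * h ∈ H := H.mul_mem (H.mul_mem (H.inv_mem hh) hx) hh
  rw [← signHom_eq_one_iff H K hKi ⟨h⁻¹ * x * h, hm⟩, ← signHom_eq_one_iff H K hKi ⟨x, hx⟩]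
  have e : (⟨h⁻¹ * x * h, hm⟩ : ↥H) = (⟨h, hh⟩ : ↥H)⁻¹ * ⟨x, hx⟩ * ⟨h, hh⟩ := rfl
  rw [e, map_mul, map_mul, map_inv, mul_comm, ← mul_assoc, mul_inv_cancel, one_mul]

/-- Commutators of elements of `H` lie in `K`. -/
theorem comm_mem_of_relIndex_two (H K : Subgroup G) (hKi : K.relIndex H = 2) {r s : G}
    (hr : r ∈ H) (hs : s ∈ H) : r * s * r⁻¹ * s⁻¹ ∈ K := by
  have hm : r * s * r⁻¹ * s⁻¹ ∈ H :=
    H.mul_mem (H.mul_mem (H.mul_mem hr hs) (H.inv_mem hr)) (H.inv_mem hs)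
  rw [← signHom_eq_one_iff H K hKi ⟨r * s * r⁻¹ * s⁻¹, hm⟩]
  have e : (⟨r * s * r⁻¹ * s⁻¹, hm⟩ : ↥H) = (⟨r, hr⟩ : ↥H) * ⟨s, hs⟩ * (⟨r, hr⟩ : ↥H)⁻¹ *
      (⟨s, hs⟩ : ↥H)⁻¹ := rfl
  rw [e, map_mul, map_mul, map_mul, map_inv, map_inv]
  rw [mul_comm (signHom H K hKi ⟨r, hr⟩), mul_assoc _ _ (signHom H K hKi ⟨r, hr⟩)⁻¹,
    mul_inv_cancel, mul_one, mul_inv_cancel]

/-- A group generated by its elements of odd order has no nontrivial sign character. -/
theorem hom_units_eq_one_of_pResidual (hres : Cfsg.pResidual 2 G = ⊤) (ψ : G →* ℤˣ) (g : G) :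
    ψ g = 1 := by
  have hg : g ∈ Cfsg.pResidual 2 G := by rw [hres]; exact Subgroup.mem_top g
  unfold Cfsg.pResidual at hg
  have hle : Subgroup.closure {g : G | Nat.Coprime (orderOf g) 2} ≤ ψ.ker := by
    rw [Subgroup.closure_le]
    intro x hx
    rw [SetLike.mem_coe, MonoidHom.mem_ker]
    have h1 : ψ x ^ orderOf x = 1 := by rw [← map_pow, pow_orderOf_eq_one, map_one]
    have h2 : ψ x ^ 2 = 1 := Int.units_sq _
    have h3 := pow_gcd_eq_one.mpr ⟨h1, h2⟩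
    have hx' : Nat.gcd (orderOf x) 2 = 1 := hx
    rw [hx', pow_one] at h3
    exact h3
  exact hle hg

/-- `g⁻¹ u g ∈ H \ K`. -/
def GoodConj (H K : Subgroup G) (u g : G) : Prop := g⁻¹ * u * g ∈ H ∧ g⁻¹ * u * g ∉ K

theorem goodConj_mul_right (H K : Subgroup G) (hKi : K.relIndex H = 2) (u g h : G) (hh : h ∈ H) :
    GoodConj H K u (g * h) ↔ GoodConj H K u g := by
  unfold GoodConj
  have e : (g * h)⁻¹ * u * (g * h) = h⁻¹ * (g⁻¹ * u * g) * h := by group
  rw [e]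
  constructor
  · rintro ⟨h1, h2⟩
    have h3 : g⁻¹ * u * g ∈ H := by
      have := H.mul_mem (H.mul_mem hh h1) (H.inv_mem hh)
      have e2 : h * (h⁻¹ * (g⁻¹ * u * g) * h) * h⁻¹ = g⁻¹ * u * g := by group
      rwa [e2] at this
    exact ⟨h3, fun h4 => h2 ((conj_mem_iff_of_relIndex_two H K hKi hh h3).mpr h4)⟩
  · rintro ⟨h1, h2⟩
    exact ⟨H.mul_mem (H.mul_mem (H.inv_mem hh) h1) hh,
      fun h4 => h2 ((conj_mem_iff_of_relIndex_two H K hKi hh h1).mp h4)⟩

theorem goodConj_out (H K : Subgroup G) (hKi : K.relIndex H = 2) (u g : G) :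
    GoodConj H K u ((g : G ⧸ H)).out ↔ GoodConj H K u g := by
  obtain ⟨h, hh⟩ := QuotientGroup.mk_out_eq_mul H g
  rw [hh]
  exact goodConj_mul_right H K hKi u g h h.2

theorem goodConj_mul_left (H K : Subgroup G) (u g a : G) (ha : a * u = u * a) :
    GoodConj H K u (a * g) ↔ GoodConj H K u g := by
  unfold GoodConj
  have e : (a * g)⁻¹ * u * (a * g) = g⁻¹ * u * g := by
    calc (a * g)⁻¹ * u * (a * g) = g⁻¹ * a⁻¹ * (u * a) * g := by group
      _ = g⁻¹ * a⁻¹ * (a * u) * g := by rw [ha]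
      _ = g⁻¹ * u * g := by group
  rw [e]

variable [Finite G]

/-- Transfer into the sign character, evaluated on an involution: parity of the number of
cosets `g H` with `g⁻¹ u g ∈ H \ K`. -/
theorem even_card_goodConj (H K : Subgroup G) (hKi : K.relIndex H = 2)
    (htriv : ∀ (ψ : G →* ℤˣ) (g : G), ψ g = 1) (u : G) (hu : u * u = 1) :
    Even (Nat.card {q : G ⧸ H // GoodConj H K u q.out}) := by
  classical
  let _ : Fintype (G ⧸ H) := Fintype.ofFinite _
  set ϕ := signHom H K hKi with hϕ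
  have hmem : ∀ q : G ⧸ H, ((u • q).out)⁻¹ * u * q.out ∈ H := by
    intro q
    have h1 : (((u • q).out : G) : G ⧸ H) = ((u * q.out : G) : G ⧸ H) := by
      rw [QuotientGroup.out_eq']
      conv_lhs => rw [← QuotientGroup.out_eq' q]
      rfl
    have := QuotientGroup.eq.mp h1
    simpa [mul_assoc] using this
  have hV := Cfsg.Agent.Lib.Helper14.transfer_eq_prod_of_equiv ϕ (Equiv.refl (G ⧸ H))
    (fun q => q.out) (fun q => QuotientGroup.out_eq' q) u (fun q => u • q) hmem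
  rw [htriv] at hV
  -- fixed cosets
  have hfix : ∀ q : G ⧸ H, u • q = q ↔ q.out⁻¹ * u * q.out ∈ H := by
    intro q
    have h1 : u • q = ((u * q.out : G) : G ⧸ H) := by
      conv_lhs => rw [← QuotientGroup.out_eq' q]
      rfl
    rw [h1]
    conv_lhs => rhs; rw [← QuotientGroup.out_eq' q]
    rw [QuotientGroup.eq]
    constructor
    · intro h
      have := H.inv_mem h
      have e : ((u * q.out)⁻¹ * q.out)⁻¹ = q.out⁻¹ * u * q.out := by group
      rwa [e] at this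
    · intro h
      have := H.inv_mem h
      have e : (q.out⁻¹ * u * q.out)⁻¹ = (u * q.out)⁻¹ * q.out := by group
      rwa [e] at this
  -- the two kinds of factors
  have hT : ∀ (q q' : G ⧸ H) (h : q'.out⁻¹ * u * q.out ∈ H), q = q' →
      ϕ ⟨q'.out⁻¹ * u * q.out, h⟩ = if GoodConj H K u q.out then (-1 : ℤˣ) else 1 := by
    rintro q _ h rfl
    by_cases hK : q.out⁻¹ * u * q.out ∈ K
    · rw [(signHom_eq_one_iff H K hKi _).mpr hK, if_neg]
      rintro ⟨_, h2⟩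
      exact h2 hK
    · rw [(signHom_eq_neg_one_iff H K hKi _).mpr hK, if_pos ⟨h, hK⟩]
  have hpair : ∀ (q q' q'' : G ⧸ H) (h1 : q'.out⁻¹ * u * q.out ∈ H)
      (h2 : q''.out⁻¹ * u * q'.out ∈ H), q = q'' →
      ϕ ⟨q'.out⁻¹ * u * q.out, h1⟩ * ϕ ⟨q''.out⁻¹ * u * q'.out, h2⟩ = 1 := by
    rintro q q' _ h1 h2 rfl
    rw [mul_comm, ← map_mul]
    have e : (⟨q.out⁻¹ * u * q'.out, h2⟩ * ⟨q'.out⁻¹ * u * q.out, h1⟩ : ↥H) = 1 := by
      apply Subtype.ext
      show q.out⁻¹ * u * q'.out * (q'.out⁻¹ * u * q.out) = 1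
      calc q.out⁻¹ * u * q'.out * (q'.out⁻¹ * u * q.out) = q.out⁻¹ * (u * u) * q.out := by group
        _ = 1 := by rw [hu]; group
    rw [e, map_one]
  have huu : ∀ q : G ⧸ H, u • (u • q) = q := fun q => by rw [smul_smul, hu, one_smul]
  have hsplit := Finset.prod_filter_mul_prod_filter_not (Finset.univ : Finset (G ⧸ H))
    (fun q : G ⧸ H => u • q = q)
    (fun q => ϕ ⟨((u • q).out)⁻¹ * u * q.out, hmem q⟩)
  have hnon : ∏ q ∈ (Finset.univ : Finset (G ⧸ H)).filter (fun q => ¬ u • q = q),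
      ϕ ⟨((u • q).out)⁻¹ * u * q.out, hmem q⟩ = 1 := by
    refine Finset.prod_involution (fun q _ => u • q) ?_ ?_ ?_ ?_
    · intro q _
      exact hpair q (u • q) (u • (u • q)) (hmem q) (hmem (u • q)) (huu q).symm
    · intro q hq _
      exact (Finset.mem_filter.mp hq).2
    · intro q hq
      rw [Finset.mem_filter]
      refine ⟨Finset.mem_univ _, ?_⟩
      intro h0
      exact (Finset.mem_filter.mp hq).2 (smul_left_cancel u h0)
    · intro q _
      exact huu q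
  have hfixed : ∏ q ∈ (Finset.univ : Finset (G ⧸ H)).filter (fun q => u • q = q),
      ϕ ⟨((u • q).out)⁻¹ * u * q.out, hmem q⟩ =
      ∏ q ∈ (Finset.univ : Finset (G ⧸ H)).filter (fun q => u • q = q),
        (if GoodConj H K u q.out then (-1 : ℤˣ) else 1) := by
    refine Finset.prod_congr rfl ?_
    intro q hq
    exact hT q (u • q) (hmem q) (Finset.mem_filter.mp hq).2.symm
  have hsplitF := Finset.prod_filter_mul_prod_filter_not (Finset.univ : Finset (G ⧸ H))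
    (fun q : G ⧸ H => u • q = q)
    (fun q => if GoodConj H K u q.out then (-1 : ℤˣ) else 1)
  have hnonF : ∏ q ∈ (Finset.univ : Finset (G ⧸ H)).filter (fun q => ¬ u • q = q),
      (if GoodConj H K u q.out then (-1 : ℤˣ) else 1) = 1 := by
    refine Finset.prod_eq_one ?_
    intro q hq
    rw [if_neg]
    rintro ⟨h1, _⟩
    exact (Finset.mem_filter.mp hq).2 ((hfix q).mpr h1)
  have hF : ∏ q : G ⧸ H, (if GoodConj H K u q.out then (-1 : ℤˣ) else 1) = 1 := by
    rw [← hsplitF, hnonF, mul_one, ← hfixed]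
    have h1 : (1 : ℤˣ) = ∏ q : G ⧸ H, ϕ ⟨((u • q).out)⁻¹ * u * q.out, hmem q⟩ := hV
    rw [← hsplit, hnon, mul_one] at h1
    exact h1.symm
  rw [Finset.prod_ite, Finset.prod_const_one, mul_one, Finset.prod_const] at hF
  have hne : (-1 : ℤˣ) ≠ 1 := by decide
  have hev := (neg_one_pow_eq_one_iff_even hne).mp hF
  rw [Nat.card_eq_fintype_card, Fintype.card_subtype]
  exact hev

/-- The parity lemma: given one coset `g₀ H` fixed by the 2-group `A ≤ C(u)` with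
`g₀⁻¹ u g₀ ∈ H \ K`, there is a second one. -/
theorem exists_other_goodConj (H K : Subgroup G) (hKi : K.relIndex H = 2)
    (htriv : ∀ (ψ : G →* ℤˣ) (g : G), ψ g = 1) (u : G) (hu : u * u = 1)
    (A : Subgroup G) (hA : IsPGroup 2 ↥A) (hAu : ∀ a ∈ A, a * u = u * a)
    (g₀ : G) (hg₀ : GoodConj H K u g₀) (hA₀ : ∀ a ∈ A, g₀⁻¹ * a * g₀ ∈ H) :
    ∃ g : G, GoodConj H K u g ∧ (∀ a ∈ A, g⁻¹ * a * g ∈ H) ∧ g₀⁻¹ * g ∉ H := by
  classical
  haveI : Fact (Nat.Prime 2) := ⟨Nat.prime_two⟩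
  have hsm : ∀ (c : ↥A) (q : G ⧸ H), c • q = (((c : G) * q.out : G) : G ⧸ H) := by
    intro c q
    conv_lhs => rw [← QuotientGroup.out_eq' q]
    rfl
  let S : SubMulAction ↥A (G ⧸ H) :=
    { carrier := {q | GoodConj H K u q.out}
      smul_mem' := by
        intro c q hq
        show GoodConj H K u (c • q).out
        rw [hsm, goodConj_out H K hKi, goodConj_mul_left H K u _ _ (hAu c c.2)]
        exact hq }
  have hmemS : ∀ q : G ⧸ H, q ∈ S ↔ GoodConj H K u q.out := fun q => Iff.rfl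
  have hcardS : Nat.card ↥S = Nat.card {q : G ⧸ H // GoodConj H K u q.out} :=
    Nat.card_congr (Equiv.subtypeEquivRight hmemS)
  have hev : Even (Nat.card ↥S) := by
    rw [hcardS]; exact even_card_goodConj H K hKi htriv u hu
  have hmod := hA.card_modEq_card_fixedPoints ↥S
  have hev2 : Even (Nat.card ↥(MulAction.fixedPoints ↥A ↥S)) := by
    have h1 : Nat.card ↥S % 2 = 0 := Nat.even_iff.mp hev
    have h2 : Nat.card ↥S % 2 = Nat.card ↥(MulAction.fixedPoints ↥A ↥S) % 2 := hmod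
    rw [Nat.even_iff, ← h2, h1]
  -- the coset of `g₀` is a fixed point
  have hq₀S : ((g₀ : G) : G ⧸ H) ∈ S := (hmemS _).mpr ((goodConj_out H K hKi u g₀).mpr hg₀)
  have hfix₀ : (⟨(g₀ : G ⧸ H), hq₀S⟩ : ↥S) ∈ MulAction.fixedPoints ↥A ↥S := by
    intro c
    apply Subtype.ext
    show c • ((g₀ : G) : G ⧸ H) = ((g₀ : G) : G ⧸ H)
    have : c • ((g₀ : G) : G ⧸ H) = (((c : G) * g₀ : G) : G ⧸ H) := rfl
    rw [this, QuotientGroup.eq]
    have h1 := H.inv_mem (hA₀ c c.2)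
    have e : (g₀⁻¹ * (c : G) * g₀)⁻¹ = ((c : G) * g₀)⁻¹ * g₀ := by group
    rwa [e] at h1
  have hpos : 0 < Nat.card ↥(MulAction.fixedPoints ↥A ↥S) :=
    Nat.card_pos_iff.mpr ⟨⟨⟨_, hfix₀⟩⟩, inferInstance⟩
  have hlt : 1 < Nat.card ↥(MulAction.fixedPoints ↥A ↥S) := by
    rcases hev2 with ⟨k, hk⟩
    omega
  haveI : Nontrivial ↥(MulAction.fixedPoints ↥A ↥S) := Finite.one_lt_card_iff_nontrivial.mp hlt
  obtain ⟨q₁, hq₁⟩ := exists_ne (⟨_, hfix₀⟩ : ↥(MulAction.fixedPoints ↥A ↥S))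
  refine ⟨((q₁ : ↥S) : G ⧸ H).out, (hmemS _).mp (q₁ : ↥S).2, ?_, ?_⟩
  · intro a ha
    have h1 : (⟨a, ha⟩ : ↥A) • (q₁ : ↥S) = (q₁ : ↥S) := q₁.2 ⟨a, ha⟩
    have h2 : (⟨a, ha⟩ : ↥A) • ((q₁ : ↥S) : G ⧸ H) = ((q₁ : ↥S) : G ⧸ H) :=
      congrArg Subtype.val h1
    rw [hsm] at h2
    conv_rhs at h2 => rw [← QuotientGroup.out_eq' ((q₁ : ↥S) : G ⧸ H)]
    rw [QuotientGroup.eq] at h2
    have h3 := H.inv_mem h2
    have e : ((a * ((q₁ : ↥S) : G ⧸ H).out)⁻¹ * ((q₁ : ↥S) : G ⧸ H).out)⁻¹ =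
        (((q₁ : ↥S) : G ⧸ H).out)⁻¹ * a * ((q₁ : ↥S) : G ⧸ H).out := by group
    rwa [e] at h3
  · intro h0
    apply hq₁
    apply Subtype.ext
    apply Subtype.ext
    show ((q₁ : ↥S) : G ⧸ H) = ((g₀ : G) : G ⧸ H)
    rw [← QuotientGroup.out_eq' ((q₁ : ↥S) : G ⧸ H)]
    exact (QuotientGroup.eq.mpr h0).symm

end

end Cfsg.Agent.Lib.Helper38
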