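import Mathlib
import Cfsg.Agent.Lib.Helper38.QQ
import Cfsg.Agent.Lib.Helper38.TransferInv

/-!
# The centralizer of `C_Q(b)` for a non-central involution `b` of a large extraspecial `Q`
-/

set_option autoImplicit false

namespace Cfsg.Agent.Lib.Helper38

section
variable {G : Type*} [Group G]

/-- `C_Q(b)` -/
abbrev CB (Q : Subgroup G) (b : G) : Subgroup G := Q ⊓ Subgroup.centralizer ({b} : Set G)

/-- A non-central involution `b` of the extraspecial-like `Q = O_2(C(z))`. -/
structure InvSetup (Q : Subgroup G) (z b : G) : Prop where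
  hEL : ExtraLike Q z
  hbQ : b ∈ Q
  hb1 : b ≠ 1
  hbz : b ≠ z
  hb2 : b * b = 1
  hCQ : Subgroup.centralizer (Q : Set G) ≤ Q
  hN : Subgroup.centralizer ({z} : Set G) ≤ Subgroup.normalizer (Q : Set G)

variable {Q : Subgroup G} {z b : G}

namespace InvSetup

theorem hz2 (h : InvSetup Q z b) : z * z = 1 := h.hEL.sq_eq_one

theorem hzb (h : InvSetup Q z b) : z * b = b * z := (h.hEL.hzc b h.hbQ).symm

/-- conjugation by an element centralizing `z` preserves `Q` -/
theorem conj_mem_Q (h : InvSetup Q z b) {x : G} (hx : x * z = z * x) {q : G} (hq : q ∈ Q) :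
    x * q * x⁻¹ ∈ Q := by
  have := h.hN (Subgroup.mem_centralizer_singleton_iff.mpr hx)
  exact (Subgroup.mem_normalizer_iff.mp this q).mp hq

/-- `C_Q(b)` has index two in `Q`, with coset representative `a`. -/
theorem cb_coset (h : InvSetup Q z b) {a : G} (hab : a * b * a⁻¹ = z * b)
    (haQ : a ∈ Q) {q : G} (hq : q ∈ Q) : q ∈ CB Q b ∨ a⁻¹ * q ∈ CB Q b := by
  rcases h.hEL.conj_eq hq h.hbQ with h1 | h1
  · left
    refine ⟨hq, Subgroup.mem_centralizer_singleton_iff.mpr ?_⟩
    calc q * b = (q * b * q⁻¹) * q := by group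
      _ = b * q := by rw [h1]
  · right
    refine ⟨Q.mul_mem (Q.inv_mem haQ) hq, Subgroup.mem_centralizer_singleton_iff.mpr ?_⟩
    have e1 : q * b = z * b * q := by
      calc q * b = (q * b * q⁻¹) * q := by group
        _ = z * b * q := by rw [h1]
    have e2 : a⁻¹ * (z * b) = b * a⁻¹ := by
      rw [← hab]; group
    calc a⁻¹ * q * b = a⁻¹ * (q * b) := by group
      _ = a⁻¹ * (z * b * q) := by rw [e1]
      _ = (a⁻¹ * (z * b)) * q := by group
      _ = b * (a⁻¹ * q) := by rw [e2]; group

/-- An element commuting with `C_Q(b)` and with `a` centralizes `Q`. -/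
theorem centralizes_Q_of_cb (h : InvSetup Q z b) {a : G} (hab : a * b * a⁻¹ = z * b)
    (haQ : a ∈ Q) {y : G} (hy : ∀ r ∈ CB Q b, r * y = y * r) (hya : a * y = y * a) :
    ∀ q ∈ Q, q * y = y * q := by
  intro q hq
  rcases h.cb_coset hab haQ hq with h1 | h1
  · exact hy q h1
  · have h2 := hy _ h1
    calc q * y = a * (a⁻¹ * q * y) := by group
      _ = a * (y * (a⁻¹ * q)) := by rw [h2]
      _ = (a * y) * (a⁻¹ * q) := by group
      _ = y * a * (a⁻¹ * q) := by rw [hya]
      _ = y * q := by group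

/-- The centralizer of `C_Q(b)` in the centralizer of `z` is the four-group `⟨z, b⟩`. -/
theorem mem_four_of_centralizes_cb (h : InvSetup Q z b) {y : G} (hyz : y * z = z * y)
    (hy : ∀ r ∈ CB Q b, r * y = y * r) : y = 1 ∨ y = z ∨ y = b ∨ y = z * b := by
  obtain ⟨a, haQ, hab⟩ := h.hEL.exists_conj h.hbQ h.hb1 h.hbz
  have hz2 := h.hz2
  have hb2 := h.hb2
  have hzb := h.hzb
  have hza : a * z = z * a := h.hEL.hzc a haQ
  have hbR₁ : b ∈ CB Q b := ⟨h.hbQ, Subgroup.mem_centralizer_singleton_iff.mpr rfl⟩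
  have hby : b * y = y * b := hy b hbR₁
  -- `b a b⁻¹ = z a`
  have hba : b * a = z * a * b := by
    have e : a * b = z * b * a := by
      calc a * b = (a * b * a⁻¹) * a := by group
        _ = z * b * a := by rw [hab]
    calc b * a = (z * z) * b * a := by rw [hz2, one_mul]
      _ = z * (z * b * a) := by group
      _ = z * (a * b) := by rw [e]
      _ = z * a * b := by group
  -- the element `c`
  set c := a⁻¹ * (y * a * y⁻¹) with hc
  have hcQ : c ∈ Q := Q.mul_mem (Q.inv_mem haQ) (h.conj_mem_Q hyz haQ)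
  have hac : a * c = y * a * y⁻¹ := by rw [hc]; group
  -- `c` centralizes `C_Q(b)`
  have hcR : ∀ r ∈ CB Q b, r * c = c * r := by
    intro r hr
    have hr' : a * r * a⁻¹ ∈ CB Q b := by
      refine ⟨Q.mul_mem (Q.mul_mem haQ hr.1) (Q.inv_mem haQ),
        Subgroup.mem_centralizer_singleton_iff.mpr ?_⟩
      have hrb : r * b = b * r := Subgroup.mem_centralizer_singleton_iff.mp hr.2
      have hrz : r * z = z * r := h.hEL.hzc r hr.1
      have e2 : a⁻¹ * b = z * b * a⁻¹ := by
        have : z * b * a⁻¹ = a⁻¹ * (a * (z * b) * a⁻¹) := by group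
        rw [this]
        have e3 : a * (z * b) * a⁻¹ = b := by
          calc a * (z * b) * a⁻¹ = (a * z) * b * a⁻¹ := by group
            _ = z * (a * b * a⁻¹) := by rw [hza]; group
            _ = z * (z * b) := by rw [hab]
            _ = b := by rw [← mul_assoc, hz2, one_mul]
        rw [e3]
      calc a * r * a⁻¹ * b = a * r * (a⁻¹ * b) := by group
        _ = a * r * (z * b * a⁻¹) := by rw [e2]
        _ = a * (r * z) * b * a⁻¹ := by group
        _ = a * (z * r) * b * a⁻¹ := by rw [hrz]
        _ = a * z * (r * b) * a⁻¹ := by group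
        _ = a * z * (b * r) * a⁻¹ := by rw [hrb]
        _ = (a * (z * b) * a⁻¹) * (a * r * a⁻¹) := by group
        _ = b * (a * r * a⁻¹) := by
          have e3 : a * (z * b) * a⁻¹ = b := by
            calc a * (z * b) * a⁻¹ = (a * z) * b * a⁻¹ := by group
              _ = z * (a * b * a⁻¹) := by rw [hza]; group
              _ = z * (z * b) := by rw [hab]
              _ = b := by rw [← mul_assoc, hz2, one_mul]
          rw [e3]
    have h1 := hy r hr
    have h2 := hy _ hr'
    have h1' : y⁻¹ * r = r * y⁻¹ := by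
      calc y⁻¹ * r = y⁻¹ * (r * y) * y⁻¹ := by group
        _ = y⁻¹ * (y * r) * y⁻¹ := by rw [h1]
        _ = r * y⁻¹ := by group
    symm
    calc c * r = a⁻¹ * y * a * (y⁻¹ * r) := by rw [hc]; group
      _ = a⁻¹ * y * a * (r * y⁻¹) := by rw [h1']
      _ = a⁻¹ * (y * (a * r * a⁻¹)) * a * y⁻¹ := by group
      _ = a⁻¹ * (a * r * a⁻¹ * y) * a * y⁻¹ := by rw [h2]
      _ = r * c := by rw [hc]; group
  -- `c ∈ {1, z, b, z b}`
  have hbnc : (⟨b, h.hbQ⟩ : ↥Q) ∉ Subgroup.center ↥Q := by
    intro h0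
    rcases (h.hEL.center_iff _).mp h0 with h1 | h1
    · exact h.hb1 (congrArg Subtype.val h1)
    · exact h.hbz (congrArg Subtype.val h1)
  have hc4 := mem_center_or_of_centralizes_centralizer h.hEL.hcomm h.hEL.hcard
    (⟨b, h.hbQ⟩ : ↥Q) ⟨c, hcQ⟩ hbnc (by
      intro x hx
      have hxb : (x : G) * b = b * x := congrArg Subtype.val hx
      have hxR : (x : G) ∈ CB Q b := ⟨x.2, Subgroup.mem_centralizer_singleton_iff.mpr hxb⟩
      exact Subtype.ext (hcR _ hxR))
  -- `c a c = a`
  have haa : y * (a * a) = (a * a) * y := by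
    rcases h.hEL.sq_eq haQ with h1 | h1 <;> rw [h1]
    · rw [one_mul, mul_one]
    · exact hyz
  have hcac : c * a * c = a := by
    have e1 : (a * c) * (a * c) = a * a := by
      rw [hac]
      calc y * a * y⁻¹ * (y * a * y⁻¹) = (y * (a * a)) * y⁻¹ := by group
        _ = a * a * y * y⁻¹ := by rw [haa]
        _ = a * a := by group
    have e2 : a * (c * a * c) = a * a := by rw [← e1]; group
    exact mul_left_cancel e2
  -- exclude `c = b` and `c = z b`
  have hbab : b * a * b ≠ a := by
    intro h0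
    have e1 : a * b * a⁻¹ = b := by
      calc a * b * a⁻¹ = (b * a * b) * b * a⁻¹ := by rw [h0]
        _ = b * a * (b * b) * a⁻¹ := by group
        _ = b := by rw [hb2]; group
    rw [hab] at e1
    exact h.hEL.hz1 (mul_eq_right.mp e1)
  have hzbazb : z * b * a * (z * b) = b * a * b := by
    calc z * b * a * (z * b) = b * z * a * (z * b) := by rw [hzb]
      _ = b * (z * a) * (z * b) := by group
      _ = b * (a * z) * (z * b) := by rw [hza]
      _ = b * a * (z * z) * b := by group
      _ = b * a * b := by rw [hz2, mul_one]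
  -- the two good cases
  have hcase : c = 1 ∨ c = z := by
    rcases hc4 with h1 | h1
    · rcases (h.hEL.center_iff _).mp h1 with h2 | h2
      · left; exact congrArg Subtype.val h2
      · right; exact congrArg Subtype.val h2
    · exfalso
      rcases (h.hEL.center_iff _).mp h1 with h2 | h2
      · have h3 : c * b⁻¹ = 1 := congrArg Subtype.val h2
        have h4 : c = b := mul_inv_eq_one.mp h3
        rw [h4] at hcac
        exact hbab hcac
      · have h3 : c * b⁻¹ = z := congrArg Subtype.val h2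
        have h4 : c = z * b := mul_inv_eq_iff_eq_mul.mp h3
        rw [h4, hzbazb] at hcac
        exact hbab hcac
  rcases hcase with h1 | h1
  · -- `y` centralizes `Q`
    have hya : a * y = y * a := by
      rw [h1, mul_one] at hac
      calc a * y = (y * a * y⁻¹) * y := by rw [← hac]
        _ = y * a := by group
    rcases h.hEL.mem_centralizer h.hCQ (h.centralizes_Q_of_cb hab haQ hy hya) with h2 | h2
    · left; exact h2
    · right; left; exact h2
  · -- `b y` centralizes `Q`
    have hy' : ∀ r ∈ CB Q b, r * (b * y) = (b * y) * r := by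
      intro r hr
      have hrb : r * b = b * r := Subgroup.mem_centralizer_singleton_iff.mp hr.2
      calc r * (b * y) = (r * b) * y := by group
        _ = b * (r * y) := by rw [hrb]; group
        _ = b * (y * r) := by rw [hy r hr]
        _ = b * y * r := by group
    have hya : a * (b * y) = (b * y) * a := by
      have e1 : y * a = a * z * y := by
        calc y * a = (y * a * y⁻¹) * y := by group
          _ = a * z * y := by rw [← hac, h1]
      calc a * (b * y) = (z * z) * a * b * y := by rw [hz2, one_mul]; group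
        _ = z * (z * a * b) * y := by group
        _ = z * (b * a) * y := by rw [hba]
        _ = b * (a * z) * y := by rw [hza, ← mul_assoc z b, hzb]; group
        _ = b * (a * z * y) := by group
        _ = b * (y * a) := by rw [e1]
        _ = b * y * a := by group
    rcases h.hEL.mem_centralizer h.hCQ (h.centralizes_Q_of_cb hab haQ hy' hya) with h2 | h2
    · right; right; left
      calc y = (b * b) * y := by rw [hb2, one_mul]
        _ = b * (b * y) := by group
        _ = b := by rw [h2, mul_one]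
    · right; right; right
      calc y = (b * b) * y := by rw [hb2, one_mul]
        _ = b * (b * y) := by group
        _ = z * b := by rw [h2, hzb]

/-- In a large `Q` (order more than 8), `z` is a commutator of two elements of `C_Q(b)`. -/
theorem exists_comm_eq_z [Finite ↥Q] (h : InvSetup Q z b) (hbig : 8 < Nat.card ↥Q) :
    ∃ r s : G, r ∈ CB Q b ∧ s ∈ CB Q b ∧ r * s * r⁻¹ * s⁻¹ = z := by
  obtain ⟨r, s, hr, hs, hrs⟩ := exists_noncommuting_in_centralizer h.hEL.hcomm h.hEL.hcard hbig
    (⟨b, h.hbQ⟩ : ↥Q)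
  have hrb : (r : G) * b = b * r := congrArg Subtype.val hr
  have hsb : (s : G) * b = b * s := congrArg Subtype.val hs
  refine ⟨r, s, ⟨r.2, Subgroup.mem_centralizer_singleton_iff.mpr hrb⟩,
    ⟨s.2, Subgroup.mem_centralizer_singleton_iff.mpr hsb⟩, ?_⟩
  have hc := cm_mem_center h.hEL.hcomm r s
  rcases (h.hEL.center_iff _).mp hc with h1 | h1
  · exact absurd ((cm_eq_one_iff _ _).mp h1) hrs
  · exact congrArg Subtype.val h1

/-- The centralizer in `G` of `C_Q(b)` is the four-group `⟨z, b⟩` when `Q` is large. -/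
theorem mem_four_of_centralizes_cb' [Finite ↥Q] (h : InvSetup Q z b) (hbig : 8 < Nat.card ↥Q)
    {y : G} (hy : ∀ r ∈ CB Q b, r * y = y * r) : y = 1 ∨ y = z ∨ y = b ∨ y = z * b := by
  obtain ⟨r, s, hr, hs, hrs⟩ := h.exists_comm_eq_z hbig
  have h1 := hy r hr
  have h2 := hy s hs
  have h1' : r⁻¹ * y = y * r⁻¹ := by
    calc r⁻¹ * y = r⁻¹ * (y * r) * r⁻¹ := by group
      _ = r⁻¹ * (r * y) * r⁻¹ := by rw [h1]
      _ = y * r⁻¹ := by group
  have h2' : s⁻¹ * y = y * s⁻¹ := by
    calc s⁻¹ * y = s⁻¹ * (y * s) * s⁻¹ := by group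
      _ = s⁻¹ * (s * y) * s⁻¹ := by rw [h2]
      _ = y * s⁻¹ := by group
  have hyz : y * z = z * y := by
    rw [← hrs]
    calc y * (r * s * r⁻¹ * s⁻¹) = (y * r) * s * r⁻¹ * s⁻¹ := by group
      _ = r * (y * s) * r⁻¹ * s⁻¹ := by rw [← h1]; group
      _ = r * s * (y * r⁻¹) * s⁻¹ := by rw [← h2]; group
      _ = r * s * r⁻¹ * (y * s⁻¹) := by rw [← h1']; group
      _ = r * s * r⁻¹ * s⁻¹ * y := by rw [← h2']; group
  exact h.mem_four_of_centralizes_cb hyz hy

/-- Every non-central involution of the large extraspecial `Q = O_2(C(z))` lies in every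
subgroup of index two of `C(z)`, when `G` has no sign character. -/
theorem involution_mem_of_relIndex_two [Finite G] (h : InvSetup Q z b) (hbig : 8 < Nat.card ↥Q)
    (K : Subgroup G) (hKi : K.relIndex (Subgroup.centralizer ({z} : Set G)) = 2)
    (htriv : ∀ (ψ : G →* ℤˣ) (g : G), ψ g = 1) : b ∈ K := by
  by_contra hbK
  set H := Subgroup.centralizer ({z} : Set G) with hH
  have hQH : ∀ q ∈ Q, q ∈ H := fun q hq =>
    Subgroup.mem_centralizer_singleton_iff.mpr (h.hEL.hzc q hq)
  obtain ⟨r, s, hr, hs, hrs⟩ := h.exists_comm_eq_z hbig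
  have hzK : z ∈ K := by
    rw [← hrs]
    exact comm_mem_of_relIndex_two H K hKi (hQH r hr.1) (hQH s hs.1)
  have hg₀ : GoodConj H K b 1 := by
    unfold GoodConj
    rw [inv_one, one_mul, mul_one]
    exact ⟨hQH b h.hbQ, hbK⟩
  have hA : IsPGroup 2 ↥(CB Q b) := h.hEL.hP.to_le inf_le_left
  have hAu : ∀ a ∈ CB Q b, a * b = b * a := fun a ha =>
    Subgroup.mem_centralizer_singleton_iff.mp ha.2
  have hA₀ : ∀ a ∈ CB Q b, (1 : G)⁻¹ * a * 1 ∈ H := by
    intro a ha
    rw [inv_one, one_mul, mul_one]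
    exact hQH a ha.1
  obtain ⟨g, hg, hgA, hgH⟩ := exists_other_goodConj H K hKi htriv b h.hb2 (CB Q b) hA hAu 1 hg₀ hA₀
  rw [inv_one, one_mul] at hgH
  -- `w = g z g⁻¹` centralizes `C_Q(b)`
  have hw : ∀ a ∈ CB Q b, a * (g * z * g⁻¹) = (g * z * g⁻¹) * a := by
    intro a ha
    have h1 : (g⁻¹ * a * g) * z = z * (g⁻¹ * a * g) :=
      Subgroup.mem_centralizer_singleton_iff.mp (hgA a ha)
    calc a * (g * z * g⁻¹) = g * ((g⁻¹ * a * g) * z) * g⁻¹ := by group
      _ = g * (z * (g⁻¹ * a * g)) * g⁻¹ := by rw [h1]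
      _ = (g * z * g⁻¹) * a := by group
  have hr' := hgA r hr
  have hs' := hgA s hs
  have hzgK : g⁻¹ * z * g ∈ K := by
    have e : g⁻¹ * z * g = (g⁻¹ * r * g) * (g⁻¹ * s * g) * (g⁻¹ * r * g)⁻¹ * (g⁻¹ * s * g)⁻¹ := by
      rw [← hrs]; group
    rw [e]
    exact comm_mem_of_relIndex_two H K hKi hr' hs'
  rcases h.mem_four_of_centralizes_cb' hbig hw with h1 | h1 | h1 | h1
  · apply h.hEL.hz1
    have : z = g⁻¹ * (g * z * g⁻¹) * g := by group
    rw [this, h1]; group
  · apply hgH
    rw [hH, Subgroup.mem_centralizer_singleton_iff]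
    calc g * z = (g * z * g⁻¹) * g := by group
      _ = z * g := by rw [h1]
  · apply hg.2
    have : g⁻¹ * b * g = z := by rw [← h1]; group
    rw [this]; exact hzK
  · apply hg.2
    have hb : b = z * (g * z * g⁻¹) := by
      rw [h1, ← mul_assoc, h.hz2, one_mul]
    have : g⁻¹ * b * g = (g⁻¹ * z * g) * z := by
      conv_lhs => rw [hb]
      group
    rw [this]
    exact K.mul_mem hzgK hzK

end InvSetup

end

end Cfsg.Agent.Lib.Helper38
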