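import Mathlib

set_option autoImplicit false

namespace Cfsg.Agent.Lib.Helper38

/-- Arithmetic behind the Klein-four order formula when `c(J) = c(P)`: the index of the
centralizer of an involution is at most 15. -/
theorem klein_index_le_fifteen (g N c x1 x2 x3 : ℕ) (ε₁ ε₂ ε₃ : ℤ)
    (hε₁ : ε₁ = 1) (hε₂ : ε₂ = 1 ∨ ε₂ = -1) (hε₃ : ε₃ = -1)
    (hx1 : 0 < x1) (hx2 : 0 < x2) (hx3 : 0 < x3) (hc : 0 < c) (hg : g = N * c)
    (hrel : (1 : ℤ) + x1 + ε₂ * x2 - x3 = 0)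
    (h2 : (4 : ℤ) ∣ (x2 : ℤ) - ε₂) (h3 : (4 : ℤ) ∣ (x3 : ℤ) + 1)
    (hform : (g : ℚ) = 8 * (((x1 : ℚ) * x2 * x3) /
      (((x1 : ℚ) + (ε₁ : ℚ)) * ((x2 : ℚ) + (ε₂ : ℚ)) * ((x3 : ℚ) + (ε₃ : ℚ)))) * (c : ℚ) ^ 3 /
        (c : ℚ) ^ 2) :
    N ≤ 15 := by
  subst hε₁ hε₃
  have qc : (0 : ℚ) < c := by exact_mod_cast hc
  have q1 : (0 : ℚ) < x1 := by exact_mod_cast hx1
  have q2 : (0 : ℚ) < x2 := by exact_mod_cast hx2
  have hgq : (g : ℚ) = (N : ℚ) * c := by rw [hg]; push_cast; ring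
  have hc32 : (c : ℚ) ^ 3 / (c : ℚ) ^ 2 = c := by field_simp
  have hN : (N : ℚ) = 8 * (((x1 : ℚ) * x2 * x3) /
      (((x1 : ℚ) + ((1 : ℤ) : ℚ)) * ((x2 : ℚ) + (ε₂ : ℚ)) * ((x3 : ℚ) + ((-1 : ℤ) : ℚ)))) := by
    have h1 : (N : ℚ) * c = 8 * (((x1 : ℚ) * x2 * x3) /
      (((x1 : ℚ) + ((1 : ℤ) : ℚ)) * ((x2 : ℚ) + (ε₂ : ℚ)) * ((x3 : ℚ) + ((-1 : ℤ) : ℚ)))) * c := by
      rw [← hgq, hform, mul_div_assoc, hc32]
    exact mul_right_cancel₀ (ne_of_gt qc) h1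
  by_contra hlt
  push Not at hlt
  have hN16 : (16 : ℚ) ≤ N := by exact_mod_cast hlt
  rcases hε₂ with rfl | rfl
  · have hx3' : (x3 : ℤ) = 1 + x1 + x2 := by linarith
    have hx3q : (x3 : ℚ) = 1 + x1 + x2 := by exact_mod_cast hx3'
    have hD : (0 : ℚ) < ((x1 : ℚ) + 1) * ((x2 : ℚ) + 1) * ((x1 : ℚ) + x2) := by positivity
    have hN' : (N : ℚ) * (((x1 : ℚ) + 1) * ((x2 : ℚ) + 1) * ((x1 : ℚ) + x2)) =
        8 * ((x1 : ℚ) * x2 * (1 + x1 + x2)) := by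
      rw [hN, hx3q]
      push_cast
      have e1 : (1 : ℚ) + x1 + x2 + -1 = x1 + x2 := by ring
      rw [e1]
      field_simp
    nlinarith [mul_pos q1 q2, mul_pos (mul_pos q1 q2) q1, mul_pos (mul_pos q1 q2) q2,
      mul_pos q1 q1, mul_pos q2 q2]
  · have hx2' : 3 ≤ x2 := by
      obtain ⟨k, hk⟩ := h2
      omega
    have hx3' : 3 ≤ x3 := by
      obtain ⟨k, hk⟩ := h3
      omega
    have hx1' : (x1 : ℤ) = x2 + x3 - 1 := by linarith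
    have hx1q : (x1 : ℚ) = x2 + x3 - 1 := by exact_mod_cast hx1'
    obtain ⟨a, ha⟩ : ∃ a : ℕ, x2 = a + 3 := ⟨x2 - 3, by omega⟩
    obtain ⟨b, hb⟩ : ∃ b : ℕ, x3 = b + 3 := ⟨x3 - 3, by omega⟩
    have qa : (0 : ℚ) ≤ a := by positivity
    have qb : (0 : ℚ) ≤ b := by positivity
    have hx2q : (x2 : ℚ) = a + 3 := by rw [ha]; push_cast; ring
    have hx3q : (x3 : ℚ) = b + 3 := by rw [hb]; push_cast; ring
    have hN' : (N : ℚ) * (((a : ℚ) + b + 6) * ((a : ℚ) + 2) * ((b : ℚ) + 2)) =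
        8 * (((a : ℚ) + b + 5) * (a + 3) * (b + 3)) := by
      rw [hN, hx1q, hx2q, hx3q]
      push_cast
      have e1 : (a : ℚ) + 3 + (b + 3) - 1 + 1 = a + b + 6 := by ring
      have e2 : (a : ℚ) + 3 + -1 = a + 2 := by ring
      have e3 : (b : ℚ) + 3 + -1 = b + 2 := by ring
      have e4 : (a : ℚ) + 3 + (b + 3) - 1 = a + b + 5 := by ring
      rw [e1, e2, e3, e4]
      have hD : ((a : ℚ) + b + 6) * ((a : ℚ) + 2) * ((b : ℚ) + 2) ≠ 0 := by positivity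
      field_simp
    nlinarith [mul_nonneg qa qb, mul_nonneg (mul_nonneg qa qb) qa, mul_nonneg (mul_nonneg qa qb) qb,
      mul_nonneg qa qa, mul_nonneg qb qb]

end Cfsg.Agent.Lib.Helper38
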