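import Mathlib

set_option autoImplicit false

namespace Cfsg.Agent.Lib.Helper38

section kleinCent
variable {G : Type*} [Group G]

/-- An element of 2-power order of `C` lies in a normal subgroup of `C` of odd index. -/
theorem mem_of_two_pow_of_normal_odd [Finite G] (C S₀ : Subgroup G)
    (hn : (S₀.subgroupOf C).Normal) (hodd : ¬ 2 ∣ S₀.relIndex C)
    (y : G) (hy : y ∈ C) (k : ℕ) (hyk : y ^ (2 ^ k) = 1) : y ∈ S₀ := by
  have hn' := hn
  have h1 : ((QuotientGroup.mk' (S₀.subgroupOf C)) ⟨y, hy⟩) ^ (2 ^ k) = 1 := by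
    rw [← map_pow]
    have : (⟨y, hy⟩ : ↥C) ^ (2 ^ k) = 1 := by
      apply Subtype.ext
      rw [Subgroup.coe_pow]
      exact hyk
    rw [this, map_one]
  have h2 : orderOf ((QuotientGroup.mk' (S₀.subgroupOf C)) ⟨y, hy⟩) ∣ 2 ^ k :=
    orderOf_dvd_of_pow_eq_one h1
  have h3 : orderOf ((QuotientGroup.mk' (S₀.subgroupOf C)) ⟨y, hy⟩) ∣ (S₀.subgroupOf C).index := by
    rw [Subgroup.index_eq_card]; exact orderOf_dvd_natCard _
  have h4 : Nat.Coprime (2 ^ k) (S₀.subgroupOf C).index := by
    apply Nat.Coprime.pow_left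
    rw [Nat.coprime_two_left]
    have : ¬ 2 ∣ (S₀.subgroupOf C).index := hodd
    rcases Nat.even_or_odd (S₀.subgroupOf C).index with h | h
    · exact absurd (even_iff_two_dvd.mp h) this
    · exact h
  have h5 : orderOf ((QuotientGroup.mk' (S₀.subgroupOf C)) ⟨y, hy⟩) = 1 :=
    Nat.eq_one_of_dvd_coprimes h4 h2 h3
  rw [orderOf_eq_one_iff, QuotientGroup.mk'_apply, QuotientGroup.eq_one_iff] at h5
  exact Subgroup.mem_subgroupOf.mp h5

/-- If a Klein four-group `S₀` containing the involution `x` is normal of odd index in the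
centralizer of `x`, then this centralizer centralizes `S₀`. -/
theorem centralizer_centralizes_klein [Finite G] (x : G) (hx1 : x ≠ 1)
    (S₀ : Subgroup G) (hK : IsKleinFour ↥S₀) (hxS : x ∈ S₀)
    (hle : S₀ ≤ Subgroup.centralizer ({x} : Set G))
    (hn : (S₀.subgroupOf (Subgroup.centralizer ({x} : Set G))).Normal)
    (hodd : ¬ 2 ∣ S₀.relIndex (Subgroup.centralizer ({x} : Set G))) :
    ∀ c ∈ Subgroup.centralizer ({x} : Set G), ∀ s ∈ S₀, c * s = s * c := by
  classical
  have hsq : ∀ s ∈ S₀, s * s = 1 := by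
    intro s hs
    have := IsKleinFour.mul_self (⟨s, hs⟩ : ↥S₀)
    exact congrArg Subtype.val this
  have hcomm : ∀ s ∈ S₀, ∀ t ∈ S₀, s * t = t * s := by
    intro s hs t ht
    have := mul_comm_of_exponent_two (IsKleinFour.exponent_two (G := ↥S₀)) (⟨s, hs⟩ : ↥S₀) ⟨t, ht⟩
    exact congrArg Subtype.val this
  have hconj : ∀ c ∈ Subgroup.centralizer ({x} : Set G), ∀ s ∈ S₀, c * s * c⁻¹ ∈ S₀ := by
    intro c hc s hs
    have h1 : (⟨s, hle hs⟩ : ↥(Subgroup.centralizer ({x} : Set G))) ∈
        S₀.subgroupOf (Subgroup.centralizer ({x} : Set G)) := Subgroup.mem_subgroupOf.mpr hs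
    have h2 := hn.conj_mem _ h1 ⟨c, hc⟩
    exact Subgroup.mem_subgroupOf.mp h2
  have hcx : ∀ c ∈ Subgroup.centralizer ({x} : Set G), c * x * c⁻¹ = x := by
    intro c hc
    have := Subgroup.mem_centralizer_singleton_iff.mp hc
    rw [this]; group
  have hA : ∀ c ∈ Subgroup.centralizer ({x} : Set G), ∀ s ∈ S₀,
      c * s * c⁻¹ = s ∨ c * s * c⁻¹ = x * s := by
    intro c hc s hs
    by_cases hs1 : s = 1
    · left; rw [hs1]; group
    by_cases hsx : s = x
    · left; rw [hsx]; exact hcx c hc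
    by_cases hts : c * s * c⁻¹ = s
    · exact Or.inl hts
    right
    have ht1 : c * s * c⁻¹ ≠ 1 := by
      intro h0
      apply hs1
      calc s = c⁻¹ * (c * s * c⁻¹) * c := by group
        _ = 1 := by rw [h0]; group
    have htx : c * s * c⁻¹ ≠ x := by
      intro h0
      apply hsx
      calc s = c⁻¹ * (c * s * c⁻¹) * c := by group
        _ = c⁻¹ * (c * x * c⁻¹) * c := by rw [h0, hcx c hc]
        _ = x := by group
    have := IsKleinFour.eq_mul_of_ne_all (G := ↥S₀) (x := ⟨x, hxS⟩) (y := ⟨s, hs⟩)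
      (z := ⟨c * s * c⁻¹, hconj c hc s hs⟩)
      (fun h0 => hx1 (congrArg Subtype.val h0)) (fun h0 => hs1 (congrArg Subtype.val h0))
      (fun h0 => hsx (congrArg Subtype.val h0).symm) (fun h0 => ht1 (congrArg Subtype.val h0))
      (fun h0 => htx (congrArg Subtype.val h0)) (fun h0 => hts (congrArg Subtype.val h0))
    exact congrArg Subtype.val this
  -- squares centralize
  have hB : ∀ c ∈ Subgroup.centralizer ({x} : Set G), ∀ s ∈ S₀, Commute (c * c) s := by
    intro c hc s hs
    have h1 : (c * c) * s * (c * c)⁻¹ = s := by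
      rcases hA c hc s hs with h | h
      · calc (c * c) * s * (c * c)⁻¹ = c * (c * s * c⁻¹) * c⁻¹ := by group
          _ = s := by rw [h, h]
      · calc (c * c) * s * (c * c)⁻¹ = c * (c * s * c⁻¹) * c⁻¹ := by group
          _ = c * (x * s) * c⁻¹ := by rw [h]
          _ = (c * x * c⁻¹) * (c * s * c⁻¹) := by group
          _ = x * (x * s) := by rw [hcx c hc, h]
          _ = s := by rw [← mul_assoc, hsq x hxS, one_mul]
    show (c * c) * s = s * (c * c)
    calc (c * c) * s = ((c * c) * s * (c * c)⁻¹) * (c * c) := by group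
      _ = s * (c * c) := by rw [h1]
  intro c hc s hs
  -- the odd power lies in S₀
  have hpow : c ^ (S₀.subgroupOf (Subgroup.centralizer ({x} : Set G))).index ∈ S₀ := by
    have := Subgroup.pow_index_mem (S₀.subgroupOf (Subgroup.centralizer ({x} : Set G)))
      (⟨c, hc⟩ : ↥(Subgroup.centralizer ({x} : Set G)))
    have h2 := Subgroup.mem_subgroupOf.mp this
    rwa [Subgroup.coe_pow] at h2
  have hoddn : Odd (S₀.subgroupOf (Subgroup.centralizer ({x} : Set G))).index := by
    have : ¬ 2 ∣ (S₀.subgroupOf (Subgroup.centralizer ({x} : Set G))).index := hodd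
    rcases Nat.even_or_odd (S₀.subgroupOf (Subgroup.centralizer ({x} : Set G))).index with h | h
    · exact absurd (even_iff_two_dvd.mp h) this
    · exact h
  obtain ⟨j, hj⟩ := hoddn
  rw [hj] at hpow
  have h1 : Commute (c ^ (2 * j + 1)) s := hcomm _ hpow s hs
  have h2 : Commute ((c * c) ^ j) s := (hB c hc s hs).pow_left j
  have h3 : c = ((c * c) ^ j)⁻¹ * c ^ (2 * j + 1) := by
    rw [pow_succ, pow_mul, pow_two, inv_mul_cancel_left]
  have h4 : Commute c s := by
    rw [h3]
    exact h2.inv_left.mul_left h1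
  exact h4

end kleinCent

end Cfsg.Agent.Lib.Helper38
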