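import Mathlib

set_option autoImplicit false

namespace Cfsg.Agent.Lib.Helper38

section kleinSylow
variable {G : Type*} [Group G]

/-- A simple group has no order four. -/
theorem not_simple_of_card_four [Finite G] [IsSimpleGroup G] (h4 : Nat.card G = 4) : False := by
  classical
  have hf2 : Fact (Nat.Prime 2) := ⟨Nat.prime_two⟩
  have hcomm : ∀ a b : G, a * b = b * a :=
    (IsPGroup.isMulCommutative_of_card_eq_prime_sq (p := 2) (by rw [h4]; norm_num)).is_comm.comm
  have : Fintype G := Fintype.ofFinite G
  obtain ⟨x, hx⟩ := exists_prime_orderOf_dvd_card (G := G) 2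
    (by rw [← Nat.card_eq_fintype_card, h4]; norm_num)
  have hn : (Subgroup.zpowers x).Normal := by
    constructor
    intro n hn g
    have : g * n * g⁻¹ = n := by rw [hcomm g n]; group
    rw [this]; exact hn
  have hcard : Nat.card ↥(Subgroup.zpowers x) = 2 := by rw [Nat.card_zpowers, hx]
  rcases hn.eq_bot_or_eq_top with h | h
  · rw [h, Subgroup.card_bot] at hcard
    omega
  · rw [h, Subgroup.card_top, h4] at hcard
    omega

/-- A simple group acts faithfully on its Sylow subgroups unless there is only one. -/
theorem card_le_factorial_card_sylow [Finite G] [IsSimpleGroup G] (p : ℕ) [Fact p.Prime]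
    (hn : 1 < Nat.card (Sylow p G)) : Nat.card G ≤ (Nat.card (Sylow p G)).factorial := by
  classical
  rcases (MulAction.toPermHom G (Sylow p G)).normal_ker.eq_bot_or_eq_top with h | h
  · rw [MonoidHom.ker_eq_bot_iff] at h
    have := Nat.card_le_card_of_injective _ h
    rwa [Nat.card_perm] at this
  · exfalso
    obtain ⟨P⟩ : Nonempty (Sylow p G) := inferInstance
    have hN : Subgroup.normalizer ((P : Subgroup G) : Set G) = ⊤ := by
      rw [eq_top_iff]
      intro g _
      have hg : g ∈ (MulAction.toPermHom G (Sylow p G)).ker := by rw [h]; trivial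
      rw [MonoidHom.mem_ker] at hg
      have h2 : g • P = P := by
        have := congrArg (fun σ : Equiv.Perm (Sylow p G) => σ P) hg
        simpa using this
      exact Sylow.smul_eq_iff_mem_normalizer.mp h2
    have h3 : Nat.card (Sylow p G) = (Subgroup.normalizer ((P : Subgroup G) : Set G)).index :=
      Sylow.card_eq_index_normalizer P
    rw [hN, Subgroup.index_top] at h3
    omega

/-- In a simple group with a Sylow 2-subgroup `P` of order four lying in its own centralizer, if
the centralizer of `P` has index at most 15 then it has order four. -/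
theorem card_centralizer_sylow_eq_four [Finite G] [IsSimpleGroup G] (P : Sylow 2 G)
    (hP4 : Nat.card ↥(P : Subgroup G) = 4)
    (hPC : (P : Subgroup G) ≤ Subgroup.centralizer ((P : Subgroup G) : Set G))
    (hidx : (Subgroup.centralizer ((P : Subgroup G) : Set G)).index ≤ 15) :
    Nat.card ↥(Subgroup.centralizer ((P : Subgroup G) : Set G)) = 4 := by
  classical
  have hf2 : Fact (Nat.Prime 2) := ⟨Nat.prime_two⟩
  have hCN := Subgroup.centralizer_le_normalizer ((P : Subgroup G) : Set G)
  have hn2 : Nat.card (Sylow 2 G) = (Subgroup.normalizer ((P : Subgroup G) : Set G)).index :=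
    Sylow.card_eq_index_normalizer P
  have hrel := Subgroup.relIndex_mul_index hCN
  have hcardG := Subgroup.card_mul_index (Subgroup.centralizer ((P : Subgroup G) : Set G))
  have hcardP := Subgroup.card_mul_index (P : Subgroup G)
  have hPodd : ¬ 2 ∣ (P : Subgroup G).index := Sylow.not_dvd_index P
  have hdvd : (Subgroup.centralizer ((P : Subgroup G) : Set G)).index ∣ (P : Subgroup G).index :=
    Subgroup.index_dvd_of_le hPC
  have h4dvd : 4 ∣ Nat.card ↥(Subgroup.centralizer ((P : Subgroup G) : Set G)) := by
    rw [← hP4]; exact Subgroup.card_dvd_of_le hPC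
  -- Burnside: the normalizer is not inside the centralizer
  have hr1 : (Subgroup.centralizer ((P : Subgroup G) : Set G)).relIndex
      (Subgroup.normalizer ((P : Subgroup G) : Set G)) ≠ 1 := by
    intro h1
    rw [Subgroup.relIndex_eq_one] at h1
    have hcomp := MonoidHom.ker_transferSylow_isComplement' P h1
    have hmul := hcomp.card_mul_card
    rcases (MonoidHom.transferSylow P h1).normal_ker.eq_bot_or_eq_top with h | h
    · rw [h, Subgroup.card_bot, one_mul, hP4] at hmul
      exact not_simple_of_card_four hmul.symm
    · rw [h, Subgroup.card_top, hP4] at hmul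
      have hpos : 0 < Nat.card G := Nat.card_pos
      omega
  generalize hr : (Subgroup.centralizer ((P : Subgroup G) : Set G)).relIndex
      (Subgroup.normalizer ((P : Subgroup G) : Set G)) = r at *
  generalize hn : (Subgroup.normalizer ((P : Subgroup G) : Set G)).index = n at *
  generalize hN : (Subgroup.centralizer ((P : Subgroup G) : Set G)).index = N at *
  generalize hc : Nat.card ↥(Subgroup.centralizer ((P : Subgroup G) : Set G)) = c at *
  generalize hi : (P : Subgroup G).index = i at *
  obtain ⟨k, hk⟩ := h4dvd
  obtain ⟨m, hm⟩ := hdvd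
  have hNodd : ¬ 2 ∣ N := fun h => hPodd (by rw [hm]; exact Dvd.dvd.mul_right h m)
  have hrodd : ¬ 2 ∣ r := fun h => hNodd (by rw [← hrel]; exact Dvd.dvd.mul_right h n)
  have hnodd : ¬ 2 ∣ n := fun h => hNodd (by rw [← hrel]; exact Dvd.dvd.mul_left h r)
  have hr3 : 3 ≤ r := by
    rcases Nat.lt_or_ge r 3 with h | h
    · interval_cases r
      · simp at hrel; omega
      · exact absurd rfl hr1
      · exact absurd (dvd_refl 2) hrodd
    · exact h
  have hn5 : n ≤ 5 := by nlinarith
  have hkodd : ¬ 2 ∣ k := by
    intro h
    apply hPodd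
    have h1 : 4 * i = 4 * (k * N) := by rw [← mul_assoc, ← hk, hcardG, ← hcardP, hP4]
    have h2 : i = k * N := by omega
    rw [h2]; exact Dvd.dvd.mul_right h N
  have hGc : Nat.card G = 4 * k * (r * n) := by rw [← hcardG, hk, hrel]
  have hk0 : 0 < k := by
    rcases Nat.eq_zero_or_pos k with h | h
    · exfalso; apply hkodd; rw [h]; exact dvd_zero 2
    · exact h
  rcases Nat.lt_or_ge 1 n with hn1 | hn1
  · have hfac := card_le_factorial_card_sylow (G := G) 2 (by rw [hn2]; exact hn1)
    rw [hn2, hGc] at hfac
    have hn' : n = 3 ∨ n = 5 := by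
      interval_cases n
      · exact absurd (dvd_refl 2) hnodd
      · exact Or.inl rfl
      · exact absurd (⟨2, rfl⟩ : 2 ∣ 4) hnodd
      · exact Or.inr rfl
    rcases hn' with rfl | rfl
    · exfalso
      have : Nat.factorial 3 = 6 := by decide
      rw [this] at hfac
      nlinarith
    · have : Nat.factorial 5 = 120 := by decide
      rw [this] at hfac
      have hk2 : k ≤ 2 := by nlinarith
      have hk1 : k = 1 := by
        interval_cases k
        · rfl
        · exact absurd (dvd_refl 2) hkodd
      rw [hk, hk1]
  · exfalso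
    have hn0 : n ≠ 0 := by
      intro h
      apply hnodd; rw [h]; exact dvd_zero 2
    have hn1' : n = 1 := by omega
    rw [hn1'] at hn2
    have hone : Nat.card (Sylow 2 G) = 1 := hn2
    have hNtop : Subgroup.normalizer ((P : Subgroup G) : Set G) = ⊤ := by
      rw [← Subgroup.index_eq_one, hn, hn1']
    have hPn : (P : Subgroup G).Normal := Subgroup.normalizer_eq_top_iff.mp hNtop
    rcases hPn.eq_bot_or_eq_top with h | h
    · rw [h, Subgroup.card_bot] at hP4
      omega
    · rw [h, Subgroup.card_top] at hP4
      exact not_simple_of_card_four hP4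

end kleinSylow

end Cfsg.Agent.Lib.Helper38
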