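import Mathlib
import Cfsg.Agent.Lib.Helper38.InvCent

/-!
# A large extraspecial `O_2(C(z))` lies in every subgroup of index two of `C(z)`
-/

set_option autoImplicit false

namespace Cfsg.Agent.Lib.Helper38

section
variable {G : Type*} [Group G]

/-- A normal subgroup of a subgroup `M`, seen in `G`, is normalized by `M`. -/
theorem le_normalizer_map_subtype38 (M : Subgroup G) (N : Subgroup ↥M) [hN : N.Normal] :
    M ≤ Subgroup.normalizer ((N.map M.subtype : Subgroup G) : Set G) := by
  have hconj : ∀ x ∈ M, ∀ q ∈ N.map M.subtype, x * q * x⁻¹ ∈ N.map M.subtype := by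
    rintro x hx _ ⟨p, hp, rfl⟩
    exact ⟨_, hN.conj_mem p hp ⟨x, hx⟩, rfl⟩
  intro x hx
  rw [Subgroup.mem_normalizer_iff]
  intro q
  constructor
  · exact hconj x hx q
  · intro hq
    have := hconj x⁻¹ (M.inv_mem hx) _ hq
    have h2 : x⁻¹ * (x * q * x⁻¹) * x⁻¹⁻¹ = q := by group
    rwa [h2] at this

variable {Q : Subgroup G} {z : G}

/-- `z` is a commutator in the large `Q`, hence lies in every index-two subgroup of a group
containing `Q`. -/
theorem ExtraLike.z_mem_of_relIndex_two [Finite ↥Q] (h : ExtraLike Q z) (hbig : 8 < Nat.card ↥Q)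
    (H K : Subgroup G) (hQH : Q ≤ H) (hKi : K.relIndex H = 2) : z ∈ K := by
  obtain ⟨r, s, _, _, hrs⟩ := exists_noncommuting_in_centralizer h.hcomm h.hcard hbig (1 : ↥Q)
  have hc := cm_mem_center h.hcomm r s
  have hz : (r : G) * s * (r : G)⁻¹ * (s : G)⁻¹ = z := by
    rcases (h.center_iff _).mp hc with h1 | h1
    · exact absurd ((cm_eq_one_iff _ _).mp h1) hrs
    · exact congrArg Subtype.val h1
  rw [← hz]
  exact comm_mem_of_relIndex_two H K hKi (hQH r.2) (hQH s.2)

/-- If the large `Q` is not inside the index-two subgroup `K`, some involution of `Q` is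
outside `K`. -/
theorem ExtraLike.exists_involution_not_mem [Finite ↥Q] (h : ExtraLike Q z)
    (hbig : 8 < Nat.card ↥Q) (H K : Subgroup G) (hQH : Q ≤ H) (hKi : K.relIndex H = 2)
    (hQK : ¬ Q ≤ K) : ∃ b ∈ Q, b ∉ K ∧ b * b = 1 := by
  by_contra hcon
  push Not at hcon
  have hzK := h.z_mem_of_relIndex_two hbig H K hQH hKi
  obtain ⟨y, hyQ, hyK⟩ := SetLike.not_le_iff_exists.mp hQK
  have hsq : ∀ x ∈ Q, x ∉ K → x * x = z := by
    intro x hx hxK
    rcases h.sq_eq hx with h1 | h1
    · exact absurd h1 (hcon x hx hxK)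
    · exact h1
  have hyy := hsq y hyQ hyK
  -- `y` inverts `Q ∩ K`
  have hinv : ∀ a ∈ Q, a ∈ K → a * y * a = y := by
    intro a haQ haK
    have h1 : y * a ∉ K := by
      intro h0
      apply hyK
      have := K.mul_mem h0 (K.inv_mem haK)
      rwa [mul_inv_cancel_right] at this
    have h2 := hsq (y * a) (Q.mul_mem hyQ haQ) h1
    rw [← hyy] at h2
    have h3 : y * (a * y * a) = y * y := by rw [← h2]; group
    exact mul_left_cancel h3
  have hab : ∀ a ∈ Q, a ∈ K → ∀ a' ∈ Q, a' ∈ K → a * a' = a' * a := by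
    intro a haQ haK a' ha'Q ha'K
    have h1 := hinv a haQ haK
    have h2 := hinv a' ha'Q ha'K
    have h3 := hinv (a * a') (Q.mul_mem haQ ha'Q) (K.mul_mem haK ha'K)
    have h4 : a * a' * y * (a' * a) = y := by
      calc a * a' * y * (a' * a) = a * (a' * y * a') * a := by group
        _ = y := by rw [h2, h1]
    have h5 : a * a' * y * (a * a') = a * a' * y * (a' * a) := by rw [h3, h4]
    exact mul_left_cancel h5
  -- the abelian subgroup `Q ∩ K` of `Q`
  set A0 : Subgroup ↥Q := K.subgroupOf Q with hA0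
  have hZA : Subgroup.center ↥Q ≤ A0 := by
    intro x hx
    rw [hA0, Subgroup.mem_subgroupOf]
    rcases (h.center_iff x).mp hx with h1 | h1
    · rw [h1]; exact K.one_mem
    · rw [h1]; exact hzK
  have hAab : A0 ≤ Subgroup.centralizer (A0 : Set ↥Q) := by
    intro x hx
    rw [Subgroup.mem_centralizer_iff]
    intro a ha
    have ha' : (a : G) ∈ K := Subgroup.mem_subgroupOf.mp ha
    have hx' : (x : G) ∈ K := Subgroup.mem_subgroupOf.mp hx
    exact Subtype.ext (hab a a.2 ha' x x.2 hx')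
  have c1 := card_mul_card_centralizer h.hcomm h.hcard A0 hZA
  have hidx : A0.index ≤ 2 := by
    have h1 : K.relIndex Q ≤ K.relIndex H :=
      Subgroup.relIndex_le_of_le_right hQH (by rw [hKi]; norm_num)
    rw [hKi] at h1
    exact h1
  have hmul := Subgroup.card_mul_index A0
  have hApos : 0 < Nat.card A0 := Nat.card_pos
  have hAle : Nat.card A0 ≤ Nat.card (Subgroup.centralizer (A0 : Set ↥Q)) :=
    Nat.le_of_dvd Nat.card_pos (Subgroup.card_dvd_of_le hAab)
  have h1 : Nat.card ↥Q ≤ Nat.card A0 * 2 := by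
    rw [← hmul]; exact Nat.mul_le_mul_left _ hidx
  have h2 : Nat.card A0 * Nat.card (Subgroup.centralizer (A0 : Set ↥Q)) ≤ Nat.card A0 * 4 := by
    rw [c1]; omega
  have h3 : Nat.card (Subgroup.centralizer (A0 : Set ↥Q)) ≤ 4 := Nat.le_of_mul_le_mul_left h2 hApos
  omega

/-- A large extraspecial `Q = O_2(C(z))` containing its centralizer lies in every subgroup of
index two of `C(z)`, when `G` has no sign character. -/
theorem large_extraspecial_le_of_relIndex_two [Finite G] (h : ExtraLike Q z)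
    (hbig : 8 < Nat.card ↥Q) (hCQ : Subgroup.centralizer (Q : Set G) ≤ Q)
    (hN : Subgroup.centralizer ({z} : Set G) ≤ Subgroup.normalizer (Q : Set G))
    (K : Subgroup G) (hKi : K.relIndex (Subgroup.centralizer ({z} : Set G)) = 2)
    (htriv : ∀ (ψ : G →* ℤˣ) (g : G), ψ g = 1) : Q ≤ K := by
  by_contra hQK
  have hQH : Q ≤ Subgroup.centralizer ({z} : Set G) := fun q hq =>
    Subgroup.mem_centralizer_singleton_iff.mpr (h.hzc q hq)
  obtain ⟨b, hbQ, hbK, hb2⟩ := h.exists_involution_not_mem hbig _ K hQH hKi hQK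
  have hzK := h.z_mem_of_relIndex_two hbig _ K hQH hKi
  have hb1 : b ≠ 1 := fun h0 => hbK (h0 ▸ K.one_mem)
  have hbz : b ≠ z := fun h0 => hbK (h0 ▸ hzK)
  have hS : InvSetup Q z b := ⟨h, hbQ, hb1, hbz, hb2, hCQ, hN⟩
  exact hbK (hS.involution_mem_of_relIndex_two hbig K hKi htriv)

end

end Cfsg.Agent.Lib.Helper38
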