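import Mathlib

/-!
# K-S3360-SYMG : group-to-pairing translation

`prime_bound_of_section` : for `A ≤ B ≤ C_H(A)` with `A = Z(B)` cyclic, `[B,B] ≤ A`, `B^r ≤ A`,
and `x` of order dividing `l` centralizing `A`, normalizing `B` and acting nontrivially on `B/A`,
the commutator pairing on `B/A` with values in `A[r]` is a nondegenerate alternating `x`-invariant
pairing, so the symplectic prime bound (passed as a hypothesis) applies.
-/

universe u

namespace Cfsg.Agent.Lib.Helper38.NF2

/-- The `r`-torsion of the center, as a subgroup of `G`. -/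
def zs (G : Type u) [Group G] (r : ℕ) : Subgroup G where
  carrier := {z | z ∈ Subgroup.center G ∧ z ^ r = 1}
  one_mem' := ⟨one_mem _, one_pow _⟩
  mul_mem' := by
    rintro a b ⟨ha, ha'⟩ ⟨hb, hb'⟩
    refine ⟨mul_mem ha hb, ?_⟩
    have hab : Commute a b := Subgroup.mem_center_iff.mp hb a
    rw [hab.mul_pow, ha', hb', one_mul]
  inv_mem' := by
    rintro a ⟨ha, ha'⟩
    exact ⟨inv_mem ha, by rw [inv_pow, ha', inv_one]⟩

theorem mem_zs {G : Type u} [Group G] {r : ℕ} {z : G} :
    z ∈ zs G r ↔ z ∈ Subgroup.center G ∧ z ^ r = 1 := Iff.rfl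

/-- The commutative group structure on the `r`-torsion of the center. -/
@[reducible] def zsComm (G : Type u) [Group G] (r : ℕ) : CommGroup (zs G r) :=
  { (inferInstance : Group (zs G r)) with
    mul_comm := fun a b => Subtype.ext (Subgroup.mem_center_iff.mp b.2.1 a.1) }

/-- The commutative group structure on `G ⧸ Z(G)` when commutators are central. -/
@[reducible] def quotComm (G : Type u) [Group G]
    (h : ∀ a b : G, a * b * a⁻¹ * b⁻¹ ∈ Subgroup.center G) :
    CommGroup (G ⧸ Subgroup.center G) :=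
  { (inferInstance : Group (G ⧸ Subgroup.center G)) with
    mul_comm := by
      intro u v
      obtain ⟨a, rfl⟩ := QuotientGroup.mk_surjective u
      obtain ⟨b, rfl⟩ := QuotientGroup.mk_surjective v
      rw [← QuotientGroup.mk_mul, ← QuotientGroup.mk_mul, QuotientGroup.eq]
      have := h b⁻¹ a⁻¹
      convert this using 1
      group }

theorem card_zs_dvd {G : Type u} [Group G] [Finite G] (r : ℕ)
    (hcyc : IsCyclic (Subgroup.center G)) : Nat.card (zs G r) ∣ r := by
  have hle : zs G r ≤ Subgroup.center G := fun z hz => hz.1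
  have : IsCyclic (zs G r) :=
    isCyclic_of_injective (Subgroup.inclusion hle) (Subgroup.inclusion_injective hle)
  rw [← IsCyclic.exponent_eq_card]
  apply Monoid.exponent_dvd_of_forall_pow_eq_one
  intro g
  exact Subtype.ext (by rw [Subgroup.coe_pow, Subgroup.coe_one]; exact g.2.2)

theorem prime_bound_center {G : Type u} [Group G] [Finite G] (N : Subgroup G)
    (hN : N = Subgroup.center G) (r l : ℕ) (hr : r.Prime)
    (hcyc : IsCyclic N) (hcomm : ∀ a b : G, a * b * a⁻¹ * b⁻¹ ∈ N)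
    (hexp : ∀ a : G, a ^ r ∈ N)
    (φ : MulAut G) (hφZ : ∀ z ∈ N, φ z = z) (hφl : φ ^ l = 1)
    (hφn : ∃ b, φ b * b⁻¹ ∉ N)
    (hSym : ∀ (W Z : Type u) [CommGroup W] [Finite W] [CommGroup Z], Nat.card Z = r →
      ∀ f : W → W → Z, (∀ u v w, f (u * v) w = f u w * f v w) →
      (∀ u v w, f u (v * w) = f u v * f u w) →
      (∀ v, f v v = 1) → (∀ v, (∀ w, f v w = 1) → v = 1) →
      ∀ y : MulAut W, (∀ u v, f (y u) (y v) = f u v) → y ^ l = 1 → (∃ w, y w ≠ w) →
      ∃ j : ℕ, 0 < j ∧ r ^ (2 * j) ≤ Nat.card W ∧ l ∣ r ^ (2 * j) - 1) :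
    ∃ j : ℕ, 0 < j ∧ r ^ (2 * j) ≤ N.index ∧ l ∣ r ^ (2 * j) - 1 := by
  subst hN
  have hc : ∀ a b g : G, g * (a * b * a⁻¹ * b⁻¹) = (a * b * a⁻¹ * b⁻¹) * g := fun a b g =>
    Subgroup.mem_center_iff.mp (hcomm a b) g
  have h1 : ∀ a a' b : G,
      (a * a') * b * (a * a')⁻¹ * b⁻¹ = (a * b * a⁻¹ * b⁻¹) * (a' * b * a'⁻¹ * b⁻¹) := by
    intro a a' b
    calc (a * a') * b * (a * a')⁻¹ * b⁻¹
        = a * (a' * b * a'⁻¹ * b⁻¹) * (b * a⁻¹ * b⁻¹) := by group
      _ = (a' * b * a'⁻¹ * b⁻¹) * a * (b * a⁻¹ * b⁻¹) := by rw [hc a' b a]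
      _ = (a' * b * a'⁻¹ * b⁻¹) * (a * b * a⁻¹ * b⁻¹) := by group
      _ = _ := (hc a' b _).symm
  have h2 : ∀ a b b' : G,
      a * (b * b') * a⁻¹ * (b * b')⁻¹ = (a * b * a⁻¹ * b⁻¹) * (a * b' * a⁻¹ * b'⁻¹) := by
    intro a b b'
    calc a * (b * b') * a⁻¹ * (b * b')⁻¹
        = (a * b * a⁻¹) * ((a * b' * a⁻¹ * b'⁻¹) * b⁻¹) := by group
      _ = (a * b * a⁻¹) * (b⁻¹ * (a * b' * a⁻¹ * b'⁻¹)) := by rw [hc a b' b⁻¹]
      _ = _ := by group
  have h4 : ∀ z b : G, z ∈ Subgroup.center G → z * b * z⁻¹ * b⁻¹ = 1 := by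
    intro z b hz
    have := Subgroup.mem_center_iff.mp hz b
    rw [← this]; group
  have h5 : ∀ a z : G, z ∈ Subgroup.center G → a * z * a⁻¹ * z⁻¹ = 1 := by
    intro a z hz
    have := Subgroup.mem_center_iff.mp hz a
    rw [this]; group
  have h3 : ∀ (a b : G) (n : ℕ), (a * b * a⁻¹ * b⁻¹) ^ n = (a ^ n) * b * (a ^ n)⁻¹ * b⁻¹ := by
    intro a b n
    induction n with
    | zero => simp
    | succ n ih => rw [pow_succ, ih, pow_succ a, h1]
  have h6 : ∀ a b : G, (a * b * a⁻¹ * b⁻¹) ^ r = 1 := fun a b => by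
    rw [h3]; exact h4 _ _ (hexp a)
  have hK1 : ∀ a a' b : G, a⁻¹ * a' ∈ Subgroup.center G →
      a' * b * a'⁻¹ * b⁻¹ = a * b * a⁻¹ * b⁻¹ := by
    intro a a' b hz
    obtain ⟨z, hz', rfl⟩ : ∃ z ∈ Subgroup.center G, a' = a * z := ⟨a⁻¹ * a', hz, by group⟩
    rw [h1, h4 z b hz', mul_one]
  have hK2 : ∀ a b b' : G, b⁻¹ * b' ∈ Subgroup.center G →
      a * b' * a⁻¹ * b'⁻¹ = a * b * a⁻¹ * b⁻¹ := by
    intro a b b' hz
    obtain ⟨z, hz', rfl⟩ : ∃ z ∈ Subgroup.center G, b' = b * z := ⟨b⁻¹ * b', hz, by group⟩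
    rw [h2, h5 a z hz', mul_one]
  -- the pairing on representatives
  obtain ⟨cm, hcm⟩ : ∃ cm : G → G → zs G r, ∀ a b, (cm a b : G) = a * b * a⁻¹ * b⁻¹ :=
    ⟨fun a b => ⟨a * b * a⁻¹ * b⁻¹, hcomm a b, h6 a b⟩, fun a b => rfl⟩
  -- the pairing on the quotient
  obtain ⟨f, hf⟩ : ∃ f : (G ⧸ Subgroup.center G) → (G ⧸ Subgroup.center G) → zs G r,
      ∀ a b : G, f (a : G ⧸ Subgroup.center G) (b : G ⧸ Subgroup.center G) = cm a b := by
    refine ⟨fun u v => cm u.out v.out, fun a b => ?_⟩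
    apply Subtype.ext
    rw [hcm, hcm]
    have ha : (((a : G ⧸ Subgroup.center G).out : G) : G ⧸ Subgroup.center G) = a :=
      QuotientGroup.out_eq' _
    have hb : (((b : G ⧸ Subgroup.center G).out : G) : G ⧸ Subgroup.center G) = b :=
      QuotientGroup.out_eq' _
    rw [hK1 a _ _ (QuotientGroup.eq.mp ha.symm), hK2 a b _ (QuotientGroup.eq.mp hb.symm)]
  -- card Z = r
  have hZcard : Nat.card (zs G r) = r := by
    rcases (Nat.dvd_prime hr).mp (card_zs_dvd r hcyc) with h | h
    · exfalso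
      obtain ⟨b, hb⟩ := hφn
      have hbc : b ∉ Subgroup.center G := by
        intro hbc
        apply hb
        rw [hφZ b hbc, mul_inv_cancel]
        exact one_mem _
      rw [Subgroup.mem_center_iff] at hbc
      push Not at hbc
      obtain ⟨a, ha⟩ := hbc
      have hne : cm a b ≠ 1 := by
        intro h1'
        apply ha
        have h2' : a * b * a⁻¹ * b⁻¹ = 1 := by rw [← hcm, h1', Subgroup.coe_one]
        calc a * b = (a * b * a⁻¹ * b⁻¹) * (b * a) := by group
          _ = b * a := by rw [h2', one_mul]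
      obtain ⟨hs, -⟩ := Nat.card_eq_one_iff_unique.mp h
      exact hne (Subsingleton.elim _ _)
    · exact h
  -- apply the symplectic bound
  let instW : CommGroup (G ⧸ Subgroup.center G) := quotComm G hcomm
  let instZ : CommGroup (zs G r) := zsComm G r
  have hchar : Subgroup.map (φ : G →* G) (Subgroup.center G) = Subgroup.center G :=
    Subgroup.characteristic_iff_map_eq.mp Subgroup.centerCharacteristic φ
  have key := @hSym (G ⧸ Subgroup.center G) (zs G r) instW inferInstance instZ hZcard f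
    (by
      intro u v w
      obtain ⟨a, rfl⟩ := QuotientGroup.mk_surjective u
      obtain ⟨b, rfl⟩ := QuotientGroup.mk_surjective v
      obtain ⟨c, rfl⟩ := QuotientGroup.mk_surjective w
      have : ((a : G ⧸ Subgroup.center G) * (b : G ⧸ Subgroup.center G)) =
          ((a * b : G) : G ⧸ Subgroup.center G) := rfl
      rw [this, hf, hf, hf]
      apply Subtype.ext
      show (cm (a * b) c : G) = (cm a c : G) * (cm b c : G)
      rw [hcm, hcm, hcm, h1])
    (by
      intro u v w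
      obtain ⟨a, rfl⟩ := QuotientGroup.mk_surjective u
      obtain ⟨b, rfl⟩ := QuotientGroup.mk_surjective v
      obtain ⟨c, rfl⟩ := QuotientGroup.mk_surjective w
      have : ((b : G ⧸ Subgroup.center G) * (c : G ⧸ Subgroup.center G)) =
          ((b * c : G) : G ⧸ Subgroup.center G) := rfl
      rw [this, hf, hf, hf]
      apply Subtype.ext
      show (cm a (b * c) : G) = (cm a b : G) * (cm a c : G)
      rw [hcm, hcm, hcm, h2])
    (by
      intro v
      obtain ⟨a, rfl⟩ := QuotientGroup.mk_surjective v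
      rw [hf]
      apply Subtype.ext
      show (cm a a : G) = 1
      rw [hcm]; group)
    (by
      intro v hv
      obtain ⟨a, rfl⟩ := QuotientGroup.mk_surjective v
      apply (QuotientGroup.eq_one_iff a).mpr
      rw [Subgroup.mem_center_iff]
      intro g
      have h1' := hv (g : G ⧸ Subgroup.center G)
      rw [hf] at h1'
      have h2' : a * g * a⁻¹ * g⁻¹ = 1 := by
        rw [← hcm, h1']; rfl
      calc g * a = (a * g * a⁻¹ * g⁻¹)⁻¹ * (a * g) := by group
        _ = a * g := by rw [h2', inv_one, one_mul])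
    (QuotientGroup.congr (Subgroup.center G) (Subgroup.center G) φ hchar)
    (by
      intro u v
      obtain ⟨a, rfl⟩ := QuotientGroup.mk_surjective u
      obtain ⟨b, rfl⟩ := QuotientGroup.mk_surjective v
      rw [QuotientGroup.congr_mk, QuotientGroup.congr_mk, hf, hf]
      apply Subtype.ext
      rw [hcm, hcm]
      have : φ a * φ b * (φ a)⁻¹ * (φ b)⁻¹ = φ (a * b * a⁻¹ * b⁻¹) := by
        simp only [map_mul, map_inv]
      rw [this, hφZ _ (hcomm a b)])
    (by
      have hpow : ∀ (n : ℕ) (a : G),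
          ((QuotientGroup.congr (Subgroup.center G) (Subgroup.center G) φ hchar) ^ n)
            (a : G ⧸ Subgroup.center G) = (((φ ^ n) a : G) : G ⧸ Subgroup.center G) := by
        intro n
        induction n with
        | zero => intro a; simp
        | succ n ih =>
          intro a
          rw [pow_succ', pow_succ', MulAut.mul_apply, MulAut.mul_apply, ih,
            QuotientGroup.congr_mk]
      apply MulEquiv.ext
      intro u
      obtain ⟨a, rfl⟩ := QuotientGroup.mk_surjective u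
      rw [hpow, hφl]; rfl)
    (by
      obtain ⟨b, hb⟩ := hφn
      refine ⟨(b : G ⧸ Subgroup.center G), ?_⟩
      rw [QuotientGroup.congr_mk]
      intro h
      apply hb
      have hz := QuotientGroup.eq.mp h
      have hz' := Subgroup.mem_center_iff.mp hz
      have : φ b * b⁻¹ = ((φ b)⁻¹ * b)⁻¹ := by
        calc φ b * b⁻¹ = φ b * (((φ b)⁻¹ * b)⁻¹ * (φ b)⁻¹) := by group
          _ = φ b * ((φ b)⁻¹ * ((φ b)⁻¹ * b)⁻¹) := by
              rw [Subgroup.mem_center_iff.mp (inv_mem hz) (φ b)⁻¹]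
          _ = _ := by group
      rw [this]
      exact inv_mem hz)
  obtain ⟨j, hj0, hj1, hj2⟩ := key
  refine ⟨j, hj0, ?_, hj2⟩
  rw [Subgroup.index_eq_card]
  exact hj1

section Abstract

variable {H : Type u} [Group H] [Finite H]

theorem prime_bound_of_section (A B : Subgroup H) (r l : ℕ) (hr : r.Prime) (hl : l.Prime)
    (hlr : l ≠ r)
    (hAcyc : IsCyclic A) (hAB : A ≤ B) (hBC : B ≤ Subgroup.centralizer (A : Set H))
    (hZ : ∀ x ∈ B, (∀ y ∈ B, x * y = y * x) → x ∈ A)
    (hcomm : ∀ x ∈ B, ∀ y ∈ B, x * y * x⁻¹ * y⁻¹ ∈ A) (hexp : ∀ x ∈ B, x ^ r ∈ A)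
    (x : H) (hxA : x ∈ Subgroup.centralizer (A : Set H)) (hxB : ∀ b ∈ B, x * b * x⁻¹ ∈ B)
    (hxl : x ^ l = 1) (hxn : ∃ b ∈ B, x * b * x⁻¹ * b⁻¹ ∉ A)
    (hSym : ∀ (W Z : Type u) [CommGroup W] [Finite W] [CommGroup Z], Nat.card Z = r →
      ∀ f : W → W → Z, (∀ u v w, f (u * v) w = f u w * f v w) →
      (∀ u v w, f u (v * w) = f u v * f u w) →
      (∀ v, f v v = 1) → (∀ v, (∀ w, f v w = 1) → v = 1) →
      ∀ y : MulAut W, (∀ u v, f (y u) (y v) = f u v) → y ^ l = 1 → (∃ w, y w ≠ w) →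
      ∃ j : ℕ, 0 < j ∧ r ^ (2 * j) ≤ Nat.card W ∧ l ∣ r ^ (2 * j) - 1) :
    ∃ j : ℕ, 0 < j ∧ r ^ (2 * j) ≤ A.relIndex B ∧ l ∣ r ^ (2 * j) - 1 := by
  -- the center of `B` is `A`
  have hcen : A.subgroupOf B = Subgroup.center B := by
    ext z
    rw [Subgroup.mem_subgroupOf, Subgroup.mem_center_iff]
    constructor
    · intro hz g
      apply Subtype.ext
      rw [Subgroup.coe_mul, Subgroup.coe_mul]
      exact (Subgroup.mem_centralizer_iff.mp (hBC g.2) _ hz).symm
    · intro hz
      apply hZ _ z.2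
      intro y hy
      have := hz ⟨y, hy⟩
      have h2 := congrArg Subtype.val this
      rw [Subgroup.coe_mul, Subgroup.coe_mul] at h2
      exact h2.symm
  -- conjugation by `x` as an automorphism of `B`
  let cj : B →* B :=
    { toFun := fun b => ⟨x * b * x⁻¹, hxB b b.2⟩
      map_one' := by apply Subtype.ext; simp
      map_mul' := by
        intro a b
        apply Subtype.ext
        simp only [Subgroup.coe_mul]
        group }
  have hcj : ∀ b : B, ((cj b : B) : H) = x * b * x⁻¹ := fun b => rfl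
  have hinj : Function.Injective cj := by
    intro a b hab
    have h1 := congrArg Subtype.val hab
    rw [hcj, hcj] at h1
    apply Subtype.ext
    have h2 := mul_right_cancel h1
    exact mul_left_cancel h2
  have hbij : Function.Bijective cj := Finite.injective_iff_bijective.mp hinj
  obtain ⟨φ, hφ⟩ : ∃ φ : MulAut B, ∀ b : B, ((φ b : B) : H) = x * b * x⁻¹ :=
    ⟨MulEquiv.ofBijective cj hbij, fun b => rfl⟩
  have hφpow : ∀ (n : ℕ) (b : B), (((φ ^ n) b : B) : H) = x ^ n * b * (x ^ n)⁻¹ := by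
    intro n
    induction n with
    | zero => intro b; simp
    | succ n ih =>
      intro b
      rw [pow_succ', MulAut.mul_apply, hφ, ih, pow_succ' x n]
      group
  have hcyc : IsCyclic (A.subgroupOf B) :=
    (Subgroup.subgroupOfEquivOfLe hAB).isCyclic.mpr hAcyc
  have key := prime_bound_center (A.subgroupOf B) hcen r l hr hcyc
    (by
      intro a b
      rw [Subgroup.mem_subgroupOf]
      simp only [Subgroup.coe_mul, Subgroup.coe_inv]
      exact hcomm a a.2 b b.2)
    (by
      intro a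
      rw [Subgroup.mem_subgroupOf, Subgroup.coe_pow]
      exact hexp a a.2)
    φ
    (by
      intro z hz
      rw [Subgroup.mem_subgroupOf] at hz
      apply Subtype.ext
      rw [hφ]
      have := Subgroup.mem_centralizer_iff.mp hxA _ hz
      rw [← this]; group)
    (by
      apply MulEquiv.ext
      intro b
      apply Subtype.ext
      rw [hφpow, hxl]
      simp)
    (by
      obtain ⟨b, hb, hbn⟩ := hxn
      refine ⟨⟨b, hb⟩, ?_⟩
      rw [Subgroup.mem_subgroupOf]
      simp only [Subgroup.coe_mul, Subgroup.coe_inv, hφ]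
      exact hbn)
    hSym
  exact key

end Abstract

end Cfsg.Agent.Lib.Helper38.NF2
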