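import Mathlib
import Cfsg.Agent.Lib.Helper38.QQ

set_option autoImplicit false
open scoped IsMulCommutative commutatorElement

namespace Cfsg.Agent.Lib.Helper38

open Cfsg.Agent.Lib.Helper55 (cj mem_cj)

section general
variable {G : Type*} [Group G]

/-- The conjugation action of a subgroup on a stable set, as a homomorphism to permutations. -/
def conjPerm (S : Set G) (H : Subgroup G) (hS : ∀ x ∈ H, ∀ s ∈ S, x * s * x⁻¹ ∈ S) :
    ↥H →* Equiv.Perm ↥S where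
  toFun x :=
    { toFun := fun s => ⟨x * s * (x : G)⁻¹, hS x x.2 s s.2⟩
      invFun := fun s => ⟨(x : G)⁻¹ * s * x, by
        have := hS (x : G)⁻¹ (H.inv_mem x.2) s s.2
        rwa [inv_inv] at this⟩
      left_inv := fun s => Subtype.ext (by
        show (x : G)⁻¹ * (x * s * (x : G)⁻¹) * x = s
        group)
      right_inv := fun s => Subtype.ext (by
        show (x : G) * ((x : G)⁻¹ * s * x) * (x : G)⁻¹ = s
        group) }
  map_one' := by
    ext s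
    show ((1 : ↥H) : G) * s * ((1 : ↥H) : G)⁻¹ = s
    simp
  map_mul' := fun x y => by
    ext s
    show ((x * y : ↥H) : G) * s * ((x * y : ↥H) : G)⁻¹ = x * (y * s * (y : G)⁻¹) * (x : G)⁻¹
    rw [Subgroup.coe_mul]
    group

theorem conjPerm_apply (S : Set G) (H : Subgroup G) (hS : ∀ x ∈ H, ∀ s ∈ S, x * s * x⁻¹ ∈ S)
    (x : ↥H) (s : ↥S) : ((conjPerm S H hS x s : ↥S) : G) = x * s * (x : G)⁻¹ := rfl

theorem conj_inv_eq {x u v : G} (h : x * u * x⁻¹ = v) : x⁻¹ * v * x⁻¹⁻¹ = u := by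
  rw [← h]; group

theorem conj_conj (x y u : G) : (x * y) * u * (x * y)⁻¹ = x * (y * u * y⁻¹) * x⁻¹ := by group

theorem conj_mul (x u v : G) : x * (u * v) * x⁻¹ = (x * u * x⁻¹) * (x * v * x⁻¹) := by group

end general

section perm3

set_option maxRecDepth 100000 in
theorem perm3_pow_six (σ : Equiv.Perm (Fin 3)) : σ ^ 6 = 1 := by
  revert σ; decide

set_option maxRecDepth 100000 in
theorem perm3_exists_three (σ : Equiv.Perm (Fin 3)) (h1 : σ ≠ 1) (h2 : σ ^ 2 = 1) :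
    ∃ τ : Equiv.Perm (Fin 3), (τ * σ * τ⁻¹ * σ) ^ 2 ≠ 1 ∧ (τ * σ * τ⁻¹ * σ) ^ 3 = 1 := by
  revert σ; decide

/-- The symmetric group of degree 3 has no non-trivial normal 2-subgroup. -/
theorem perm3_normal_two_group (N : Subgroup (Equiv.Perm (Fin 3))) (hn : N.Normal)
    (hN : IsPGroup 2 ↥N) : N = ⊥ := by
  rw [eq_bot_iff]
  intro σ hσ
  rw [Subgroup.mem_bot]
  by_contra h1
  have hpow : ∀ π ∈ N, ∃ k : ℕ, orderOf π ∣ 2 ^ k := by
    intro π hπ
    obtain ⟨k, hk⟩ := hN ⟨π, hπ⟩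
    refine ⟨k, orderOf_dvd_of_pow_eq_one ?_⟩
    have := congrArg Subtype.val hk
    simpa using this
  have hcop : ∀ π ∈ N, Nat.Coprime (orderOf π) 3 := by
    intro π hπ
    obtain ⟨k, hk⟩ := hpow π hπ
    exact Nat.Coprime.coprime_dvd_left hk (Nat.Coprime.pow_left k (by norm_num))
  have hd2 : orderOf σ ∣ 2 * 3 := orderOf_dvd_of_pow_eq_one (perm3_pow_six σ)
  have hd3 : orderOf σ ∣ 2 := (Nat.Coprime.dvd_mul_right (hcop σ hσ)).mp hd2
  have hσ2 : σ ^ 2 = 1 := orderOf_dvd_iff_pow_eq_one.mp hd3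
  obtain ⟨τ, hτ2, hτ3⟩ := perm3_exists_three σ h1 hσ2
  have hπN : τ * σ * τ⁻¹ * σ ∈ N := N.mul_mem (hn.conj_mem σ hσ τ) hσ
  have hd : orderOf (τ * σ * τ⁻¹ * σ) ∣ 3 := orderOf_dvd_of_pow_eq_one hτ3
  have h1' : orderOf (τ * σ * τ⁻¹ * σ) = 1 := Nat.Coprime.eq_one_of_dvd (hcop _ hπN) hd
  apply hτ2
  rw [orderOf_eq_one_iff.mp h1', one_pow]

end perm3

section
variable {G : Type*} [Group G] {Q : Subgroup G} {z b g : G}

namespace QQSetup

/-- The configuration is symmetric in `(Q, z)` and `(Q^g, b)`. -/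
theorem swap [Finite G] (h : QQSetup Q z b g) : QQSetup (cj g Q) b z g⁻¹ where
  hEL := h.hEL₁
  hb := by rw [h.hb]; group
  hbQ := h.hzQ₁
  hbz := h.hbz.symm
  hCQ := by
    rw [← Cfsg.Agent.Lib.Helper55.cj_centralizer]
    exact Cfsg.Agent.Lib.Helper55.cj_mono h.hCQ
  hN := h.hN₁

theorem swap_R : QQR (cj g Q) b z g⁻¹ = QQR Q z b g := by
  show (cj g⁻¹ (cj g Q) ⊓ Subgroup.centralizer {b}) ⊔ (cj g Q ⊓ Subgroup.centralizer {z}) = _
  rw [Cfsg.Agent.Lib.Helper55.cj_inv_cj, sup_comm]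

theorem swap_X : QQX (cj g Q) g⁻¹ = QQX Q g := by
  show cj g Q ⊔ cj g⁻¹ (cj g Q) = Q ⊔ cj g Q
  rw [Cfsg.Agent.Lib.Helper55.cj_inv_cj, sup_comm]

theorem R_le_X : QQR Q z b g ≤ QQX Q g :=
  sup_le (inf_le_left.trans le_sup_right) (inf_le_left.trans le_sup_left)

theorem conj_zb_of_mem_Q (h : QQSetup Q z b g) {q : G} (hq : q ∈ Q)
    (h1 : q * b * q⁻¹ = z * b) : q * (z * b) * q⁻¹ = b := by
  have hqz : q * z * q⁻¹ = z := by rw [h.hEL.hzc q hq]; group
  rw [conj_mul, hqz, h1, ← mul_assoc, h.hz2, one_mul]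

/-- Conjugation by `q ∈ Q` preserves commuting with `b`, inside the centralizer of `z`. -/
theorem conj_comm_b_of_mem_Q (h : QQSetup Q z b g) {q r : G} (hq : q ∈ Q)
    (hrz : r * z = z * r) (hrb : r * b = b * r) :
    (q * r * q⁻¹) * b = b * (q * r * q⁻¹) := by
  rcases h.hEL.conj_eq hq h.hbQ with h1 | h1
  · have e1 : q * b = b * q := by
      calc q * b = (q * b * q⁻¹) * q := by group
        _ = b * q := by rw [h1]
    have e2 : q⁻¹ * b = b * q⁻¹ := by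
      calc q⁻¹ * b = q⁻¹ * (b * q) * q⁻¹ := by group
        _ = q⁻¹ * (q * b) * q⁻¹ := by rw [e1]
        _ = b * q⁻¹ := by group
    calc q * r * q⁻¹ * b = q * r * (q⁻¹ * b) := by group
      _ = q * (r * b) * q⁻¹ := by rw [e2]; group
      _ = (q * b) * r * q⁻¹ := by rw [hrb]; group
      _ = b * (q * r * q⁻¹) := by rw [e1]; group
  · have h2 := h.conj_zb_of_mem_Q hq h1
    have e1 : q * (z * b) = b * q := by
      calc q * (z * b) = (q * (z * b) * q⁻¹) * q := by group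
        _ = b * q := by rw [h2]
    have e2 : q⁻¹ * b = (z * b) * q⁻¹ := by
      calc q⁻¹ * b = q⁻¹ * (b * q) * q⁻¹ := by group
        _ = q⁻¹ * (q * (z * b)) * q⁻¹ := by rw [e1]
        _ = (z * b) * q⁻¹ := by group
    have e3 : r * (z * b) = (z * b) * r := by
      rw [← mul_assoc, hrz, mul_assoc, hrb, mul_assoc]
    calc q * r * q⁻¹ * b = q * r * (q⁻¹ * b) := by group
      _ = q * (r * (z * b)) * q⁻¹ := by rw [e2]; group
      _ = (q * (z * b)) * r * q⁻¹ := by rw [e3]; group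
      _ = b * (q * r * q⁻¹) := by rw [e1]; group

/-- `Q` normalizes `R`. -/
theorem conj_R_of_mem_Q (h : QQSetup Q z b g) {q : G} (hq : q ∈ Q) :
    ∀ r ∈ QQR Q z b g, q * r * q⁻¹ ∈ QQR Q z b g := by
  refine sup_induction' (P := fun r => q * r * q⁻¹ ∈ QQR Q z b g) ?_ ?_ ?_ ?_
  · intro r hr
    have hrz : r * z = z * r := Subgroup.mem_centralizer_singleton_iff.mp hr.2
    have hrb : r * b = b * r := h.hEL₁.hzc r hr.1
    have hc : q * r * q⁻¹ * r⁻¹ ∈ QQR₁ Q b := by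
      refine ⟨?_, Subgroup.mem_centralizer_singleton_iff.mpr ?_⟩
      · have : q * r * q⁻¹ * r⁻¹ = q * (r * q⁻¹ * r⁻¹) := by group
        rw [this]; exact Q.mul_mem hq (h.conj_mem_Q hrz (Q.inv_mem hq))
      · have e1 := h.conj_comm_b_of_mem_Q hq hrz hrb
        have e2 : r⁻¹ * b = b * r⁻¹ := by
          calc r⁻¹ * b = r⁻¹ * (b * r) * r⁻¹ := by group
            _ = r⁻¹ * (r * b) * r⁻¹ := by rw [hrb]
            _ = b * r⁻¹ := by group
        calc q * r * q⁻¹ * r⁻¹ * b = q * r * q⁻¹ * (r⁻¹ * b) := by group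
          _ = (q * r * q⁻¹ * b) * r⁻¹ := by rw [e2]; group
          _ = b * (q * r * q⁻¹) * r⁻¹ := by rw [e1]
          _ = b * (q * r * q⁻¹ * r⁻¹) := by group
    have : q * r * q⁻¹ = (q * r * q⁻¹ * r⁻¹) * r := by group
    rw [this]
    exact Subgroup.mul_mem _ (Subgroup.mem_sup_right hc) (Subgroup.mem_sup_left hr)
  · intro r hr
    apply Subgroup.mem_sup_right
    have hrz : r * z = z * r := h.hEL.hzc r hr.1
    have hrb : r * b = b * r := Subgroup.mem_centralizer_singleton_iff.mp hr.2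
    exact ⟨Q.mul_mem (Q.mul_mem hq hr.1) (Q.inv_mem hq),
      Subgroup.mem_centralizer_singleton_iff.mpr (h.conj_comm_b_of_mem_Q hq hrz hrb)⟩
  · rw [mul_one, mul_inv_cancel]; exact Subgroup.one_mem _
  · intro x y hx hy
    have : q * (x * y) * q⁻¹ = (q * x * q⁻¹) * (q * y * q⁻¹) := by group
    rw [this]; exact Subgroup.mul_mem _ hx hy

/-- `Q^g` normalizes `R`. -/
theorem conj_R_of_mem_Q₁ [Finite G] (h : QQSetup Q z b g) {q : G} (hq : q ∈ cj g Q) :
    ∀ r ∈ QQR Q z b g, q * r * q⁻¹ ∈ QQR Q z b g := by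
  have := h.swap.conj_R_of_mem_Q hq
  rwa [swap_R] at this

/-- `X` normalizes `R`. -/
theorem conj_R_of_mem_X [Finite G] (h : QQSetup Q z b g) {x : G} (hx : x ∈ QQX Q g) :
    ∀ r ∈ QQR Q z b g, x * r * x⁻¹ ∈ QQR Q z b g := by
  refine sup_induction' (P := fun x => ∀ r ∈ QQR Q z b g, x * r * x⁻¹ ∈ QQR Q z b g)
    ?_ ?_ ?_ ?_ x hx
  · intro q hq; exact h.conj_R_of_mem_Q hq
  · intro q hq; exact h.conj_R_of_mem_Q₁ hq
  · intro r hr; rw [one_mul, inv_one, mul_one]; exact hr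
  · intro x₁ x₂ h1 h2 r hr
    rw [conj_conj]; exact h1 _ (h2 r hr)

theorem X_le_normalizer_R [Finite G] (h : QQSetup Q z b g) :
    QQX Q g ≤ Subgroup.normalizer ((QQR Q z b g : Subgroup G) : Set G) := fun _ hx =>
  mem_normalizer_of_conj_mem _ _ (h.conj_R_of_mem_X hx)

/-- Elements centralizing `z` and `b` normalize `X`. -/
theorem conj_X_of_centralizes (h : QQSetup Q z b g) {c : G} (hcz : c * z = z * c)
    (hcb : c * b = b * c) : ∀ x ∈ QQX Q g, c * x * c⁻¹ ∈ QQX Q g := by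
  refine sup_induction' (P := fun x => c * x * c⁻¹ ∈ QQX Q g) ?_ ?_ ?_ ?_
  · intro q hq; exact Subgroup.mem_sup_left (h.conj_mem_Q hcz hq)
  · intro q hq; exact Subgroup.mem_sup_right (h.conj_mem_Q₁ hcb hq)
  · rw [mul_one, mul_inv_cancel]; exact Subgroup.one_mem _
  · intro x y hx hy
    rw [conj_mul]; exact Subgroup.mul_mem _ hx hy

end QQSetup

/-- Elements `a ∈ Q`, `a' ∈ Q^g` inducing the transpositions on `{z, b, z b}`. -/
structure QQGens (Q : Subgroup G) (z b g a a' : G) : Prop where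
  haQ : a ∈ Q
  hab : a * b * a⁻¹ = z * b
  ha'Q : a' ∈ cj g Q
  ha'z : a' * z * a'⁻¹ = z * b

theorem QQSetup.exists_gens [Finite G] (h : QQSetup Q z b g) : ∃ a a', QQGens Q z b g a a' := by
  obtain ⟨a, haQ, hab⟩ := h.hEL.exists_conj h.hbQ h.hb1 h.hbz
  obtain ⟨a', ha'Q, ha'z⟩ := h.hEL₁.exists_conj h.hzQ₁ h.hEL.hz1 h.hbz.symm
  exact ⟨a, a', haQ, hab, ha'Q, by rw [ha'z, h.hzb]⟩

namespace QQGens
variable {a a' : G}

theorem az (k : QQGens Q z b g a a') (h : QQSetup Q z b g) : a * z * a⁻¹ = z := by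
  rw [h.hEL.hzc a k.haQ]; group

theorem azb (k : QQGens Q z b g a a') (h : QQSetup Q z b g) : a * (z * b) * a⁻¹ = b :=
  h.conj_zb_of_mem_Q k.haQ k.hab

theorem a'b (k : QQGens Q z b g a a') (h : QQSetup Q z b g) : a' * b * a'⁻¹ = b := by
  rw [h.hEL₁.hzc a' k.ha'Q]; group

theorem a'zb (k : QQGens Q z b g a a') (h : QQSetup Q z b g) : a' * (z * b) * a'⁻¹ = z := by
  rw [conj_mul, k.ha'z, k.a'b h, mul_assoc, h.hb2, mul_one]

theorem ai_z (k : QQGens Q z b g a a') (h : QQSetup Q z b g) : a⁻¹ * z * a⁻¹⁻¹ = z :=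
  conj_inv_eq (k.az h)

theorem ai_zb (k : QQGens Q z b g a a') : a⁻¹ * (z * b) * a⁻¹⁻¹ = b :=
  conj_inv_eq k.hab

theorem ai_b (k : QQGens Q z b g a a') (h : QQSetup Q z b g) : a⁻¹ * b * a⁻¹⁻¹ = z * b :=
  conj_inv_eq (k.azb h)

theorem a'i_zb (k : QQGens Q z b g a a') : a'⁻¹ * (z * b) * a'⁻¹⁻¹ = z :=
  conj_inv_eq k.ha'z

theorem a'i_b (k : QQGens Q z b g a a') (h : QQSetup Q z b g) : a'⁻¹ * b * a'⁻¹⁻¹ = b :=
  conj_inv_eq (k.a'b h)

theorem a'i_z (k : QQGens Q z b g a a') (h : QQSetup Q z b g) : a'⁻¹ * z * a'⁻¹⁻¹ = z * b :=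
  conj_inv_eq (k.a'zb h)

theorem haX (k : QQGens Q z b g a a') : a ∈ QQX Q g := Subgroup.mem_sup_left k.haQ

theorem ha'X (k : QQGens Q z b g a a') : a' ∈ QQX Q g := Subgroup.mem_sup_right k.ha'Q

/-- The braid element lies in `C_{Q^g}(z)`. -/
theorem braid_mem (k : QQGens Q z b g a a') (h : QQSetup Q z b g) :
    a'⁻¹ * a⁻¹ * a' * a * a'⁻¹ * a ∈ QQR₂ Q z g := by
  constructor
  · have e : a'⁻¹ * a⁻¹ * a' * a * a'⁻¹ * a = a'⁻¹ * (a⁻¹ * a' * a * a'⁻¹ * a) := by group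
    rw [e]
    refine (cj g Q).mul_mem ((cj g Q).inv_mem k.ha'Q) ?_
    rw [mem_cj]
    have hm : (g⁻¹ * a⁻¹ * a') * z = z * (g⁻¹ * a⁻¹ * a') := by
      have e1 : (g⁻¹ * a⁻¹ * a') * z * (g⁻¹ * a⁻¹ * a')⁻¹ = z := by
        have : (g⁻¹ * a⁻¹ * a') * z * (g⁻¹ * a⁻¹ * a')⁻¹ =
            g⁻¹ * (a⁻¹ * (a' * z * a'⁻¹) * a⁻¹⁻¹) * g := by group
        rw [this, k.ha'z, k.ai_zb, h.hb]; group
      calc (g⁻¹ * a⁻¹ * a') * z = ((g⁻¹ * a⁻¹ * a') * z * (g⁻¹ * a⁻¹ * a')⁻¹) * (g⁻¹ * a⁻¹ * a') := by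
            group
        _ = z * (g⁻¹ * a⁻¹ * a') := by rw [e1]
    have := h.conj_mem_Q hm k.haQ
    have e2 : g⁻¹ * (a⁻¹ * a' * a * a'⁻¹ * a) * g =
        (g⁻¹ * a⁻¹ * a') * a * (g⁻¹ * a⁻¹ * a')⁻¹ := by group
    rw [e2]; exact this
  · refine Subgroup.mem_centralizer_singleton_iff.mpr ?_
    have e1 : (a'⁻¹ * a⁻¹ * a' * a * a'⁻¹ * a) * z * (a'⁻¹ * a⁻¹ * a' * a * a'⁻¹ * a)⁻¹ = z := by
      have : (a'⁻¹ * a⁻¹ * a' * a * a'⁻¹ * a) * z * (a'⁻¹ * a⁻¹ * a' * a * a'⁻¹ * a)⁻¹ =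
          a'⁻¹ * (a⁻¹ * (a' * (a * (a'⁻¹ * (a * z * a⁻¹) * a'⁻¹⁻¹) * a⁻¹) * a'⁻¹) * a⁻¹⁻¹) *
            a'⁻¹⁻¹ := by group
      rw [this, k.az h, k.a'i_z h, k.azb h, k.a'b h, k.ai_b h, k.a'i_zb]
    calc (a'⁻¹ * a⁻¹ * a' * a * a'⁻¹ * a) * z
        = ((a'⁻¹ * a⁻¹ * a' * a * a'⁻¹ * a) * z * (a'⁻¹ * a⁻¹ * a' * a * a'⁻¹ * a)⁻¹) *
          (a'⁻¹ * a⁻¹ * a' * a * a'⁻¹ * a) := by group
      _ = z * (a'⁻¹ * a⁻¹ * a' * a * a'⁻¹ * a) := by rw [e1]

end QQGens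

end

section six
variable {H : Type*} [Group H]

/-- The six words in two involutions. -/
def Six (α β t : H) : Prop :=
  t = 1 ∨ t = α ∨ t = β ∨ t = α * β ∨ t = β * α ∨ t = α * β * α

theorem six_mul_left {α β : H} (hα : α * α = 1) (hβ : β * β = 1)
    (hbr : β * α * β = α * β * α) {t : H} (ht : Six α β t) :
    Six α β (α * t) ∧ Six α β (β * t) := by
  have e1 : α * (α * β) = β := by rw [← mul_assoc, hα, one_mul]
  have e2 : α * (α * β * α) = β * α := by rw [mul_assoc α β α, ← mul_assoc α α, hα, one_mul]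
  have e3 : β * (α * β) = α * β * α := by rw [← mul_assoc, hbr]
  have e4 : β * (β * α) = α := by rw [← mul_assoc, hβ, one_mul]
  have e5 : β * (α * β * α) = α * β := by
    rw [← mul_assoc, ← mul_assoc, hbr, mul_assoc (α * β), hα, mul_one]
  rcases ht with ht | ht | ht | ht | ht | ht <;> rw [ht]
  · exact ⟨by rw [mul_one]; exact Or.inr (Or.inl rfl),
      by rw [mul_one]; exact Or.inr (Or.inr (Or.inl rfl))⟩
  · exact ⟨by rw [hα]; exact Or.inl rfl, Or.inr (Or.inr (Or.inr (Or.inr (Or.inl rfl))))⟩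
  · exact ⟨Or.inr (Or.inr (Or.inr (Or.inl rfl))), by rw [hβ]; exact Or.inl rfl⟩
  · exact ⟨by rw [e1]; exact Or.inr (Or.inr (Or.inl rfl)),
      by rw [e3]; exact Or.inr (Or.inr (Or.inr (Or.inr (Or.inr rfl))))⟩
  · exact ⟨by rw [← mul_assoc]; exact Or.inr (Or.inr (Or.inr (Or.inr (Or.inr rfl)))),
      by rw [e4]; exact Or.inr (Or.inl rfl)⟩
  · exact ⟨by rw [e2]; exact Or.inr (Or.inr (Or.inr (Or.inr (Or.inl rfl)))),
      by rw [e5]; exact Or.inr (Or.inr (Or.inr (Or.inl rfl)))⟩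

end six

section
variable {G : Type*} [Group G] {Q : Subgroup G} {z b g a a' : G}

/-- Every element of `X` lies in one of six cosets of `R`. -/
theorem QQGens.exists_rep [Finite G] (k : QQGens Q z b g a a') (h : QQSetup Q z b g) :
    ∀ x ∈ QQX Q g, ∃ t, (t = 1 ∨ t = a ∨ t = a' ∨ t = a * a' ∨ t = a' * a ∨ t = a * a' * a) ∧
      t⁻¹ * x ∈ QQR Q z b g := by
  have hn : ((QQR Q z b g).subgroupOf (QQX Q g)).Normal :=
    (Subgroup.normal_subgroupOf_iff_le_normalizer QQSetup.R_le_X).mpr h.X_le_normalizer_R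
  let π : ↥(QQX Q g) →* ↥(QQX Q g) ⧸ (QQR Q z b g).subgroupOf (QQX Q g) := QuotientGroup.mk' _
  have hker : ∀ x : ↥(QQX Q g), π x = 1 ↔ (x : G) ∈ QQR Q z b g := fun x => by
    rw [QuotientGroup.mk'_apply, QuotientGroup.eq_one_iff, Subgroup.mem_subgroupOf]
  have heq : ∀ x y : ↥(QQX Q g), π x = π y → (y : G)⁻¹ * x ∈ QQR Q z b g := fun x y hxy => by
    have := QuotientGroup.eq.mp hxy.symm
    rwa [Subgroup.mem_subgroupOf] at this
  have hzR : z ∈ QQR Q z b g := h.E_le_R h.hzE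
  have hbR : b ∈ QQR Q z b g := h.E_le_R h.hbE
  set α := π ⟨a, k.haX⟩ with hαdef
  set β := π ⟨a', k.ha'X⟩ with hβdef
  have hα : α * α = 1 := by
    rw [hαdef, ← map_mul, hker]
    show a * a ∈ QQR Q z b g
    rcases h.hEL.sq_eq k.haQ with h1 | h1 <;> rw [h1]
    · exact Subgroup.one_mem _
    · exact hzR
  have hβ : β * β = 1 := by
    rw [hβdef, ← map_mul, hker]
    show a' * a' ∈ QQR Q z b g
    rcases h.hEL₁.sq_eq k.ha'Q with h1 | h1 <;> rw [h1]
    · exact Subgroup.one_mem _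
    · exact hbR
  have hαi : α⁻¹ = α := inv_eq_of_mul_eq_one_right hα
  have hβi : β⁻¹ = β := inv_eq_of_mul_eq_one_right hβ
  have hbr' : β⁻¹ * α⁻¹ * β * α * β⁻¹ * α = 1 := by
    rw [hαdef, hβdef]
    simp only [← map_mul, ← map_inv]
    rw [hker]
    exact Subgroup.mem_sup_left (k.braid_mem h)
  have hbr : β * α * β = α * β * α := by
    rw [hαi, hβi] at hbr'
    have h1 : (β * α * β) * (α * β * α) = 1 := by rw [← hbr']; group
    have h2 : β * α * β = (α * β * α)⁻¹ := eq_inv_of_mul_eq_one_left h1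
    rw [h2, mul_inv_rev, mul_inv_rev, hαi, hβi, mul_assoc]
  have hQ : ∀ q ∈ Q, ∃ hq : q ∈ QQX Q g, π ⟨q, hq⟩ = 1 ∨ π ⟨q, hq⟩ = α := by
    intro q hq
    refine ⟨Subgroup.mem_sup_left hq, ?_⟩
    rcases h.R₁_coset k.hab k.haQ hq with h1 | h1
    · left; rw [hker]; exact Subgroup.mem_sup_right h1
    · right
      have hmem : a⁻¹ * q ∈ QQX Q g := Subgroup.mem_sup_left (Q.mul_mem (Q.inv_mem k.haQ) hq)
      have e : (⟨q, Subgroup.mem_sup_left hq⟩ : ↥(QQX Q g)) = ⟨a, k.haX⟩ * ⟨a⁻¹ * q, hmem⟩ :=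
        Subtype.ext (by show q = a * (a⁻¹ * q); group)
      rw [e, map_mul, (hker ⟨a⁻¹ * q, hmem⟩).mpr (Subgroup.mem_sup_right h1), mul_one]
  have hQ₁ : ∀ q ∈ cj g Q, ∃ hq : q ∈ QQX Q g, π ⟨q, hq⟩ = 1 ∨ π ⟨q, hq⟩ = β := by
    intro q hq
    refine ⟨Subgroup.mem_sup_right hq, ?_⟩
    have ha'z : a' * z * a'⁻¹ = b * z := by rw [k.ha'z, h.hzb]
    rcases h.swap.R₁_coset ha'z k.ha'Q hq with h1 | h1
    · left; rw [hker]; exact Subgroup.mem_sup_left h1
    · right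
      have hmem : a'⁻¹ * q ∈ QQX Q g :=
        Subgroup.mem_sup_right ((cj g Q).mul_mem ((cj g Q).inv_mem k.ha'Q) hq)
      have e : (⟨q, Subgroup.mem_sup_right hq⟩ : ↥(QQX Q g)) = ⟨a', k.ha'X⟩ * ⟨a'⁻¹ * q, hmem⟩ :=
        Subtype.ext (by show q = a' * (a'⁻¹ * q); group)
      rw [e, map_mul, (hker ⟨a'⁻¹ * q, hmem⟩).mpr (Subgroup.mem_sup_left h1), mul_one]
  have key : ∀ x ∈ QQX Q g, ∃ hx : x ∈ QQX Q g, ∀ t, Six α β t → Six α β (π ⟨x, hx⟩ * t) := by
    refine sup_induction' (P := fun x => ∃ hx : x ∈ QQX Q g, ∀ t, Six α β t →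
      Six α β (π ⟨x, hx⟩ * t)) ?_ ?_ ?_ ?_
    · intro q hq
      obtain ⟨hq', h1 | h1⟩ := hQ q hq
      · exact ⟨hq', fun t ht => by rw [h1, one_mul]; exact ht⟩
      · exact ⟨hq', fun t ht => by rw [h1]; exact (six_mul_left hα hβ hbr ht).1⟩
    · intro q hq
      obtain ⟨hq', h1 | h1⟩ := hQ₁ q hq
      · exact ⟨hq', fun t ht => by rw [h1, one_mul]; exact ht⟩
      · exact ⟨hq', fun t ht => by rw [h1]; exact (six_mul_left hα hβ hbr ht).2⟩
    · refine ⟨Subgroup.one_mem _, fun t ht => ?_⟩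
      have : (⟨1, Subgroup.one_mem _⟩ : ↥(QQX Q g)) = 1 := rfl
      rw [this, map_one, one_mul]; exact ht
    · rintro x y ⟨hx, h1⟩ ⟨hy, h2⟩
      refine ⟨Subgroup.mul_mem _ hx hy, fun t ht => ?_⟩
      have : (⟨x * y, Subgroup.mul_mem _ hx hy⟩ : ↥(QQX Q g)) = ⟨x, hx⟩ * ⟨y, hy⟩ := rfl
      rw [this, map_mul, mul_assoc]
      exact h1 _ (h2 t ht)
  intro x hx
  obtain ⟨hx', hsix⟩ := key x hx
  have h6 := hsix 1 (Or.inl rfl)
  rw [mul_one] at h6
  rcases h6 with h1 | h1 | h1 | h1 | h1 | h1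
  · refine ⟨1, Or.inl rfl, ?_⟩
    rw [inv_one, one_mul]; exact (hker _).mp h1
  · exact ⟨a, Or.inr (Or.inl rfl), heq _ _ h1⟩
  · exact ⟨a', Or.inr (Or.inr (Or.inl rfl)), heq _ _ h1⟩
  · refine ⟨a * a', Or.inr (Or.inr (Or.inr (Or.inl rfl))), ?_⟩
    rw [hαdef, hβdef, ← map_mul] at h1
    exact heq _ _ h1
  · refine ⟨a' * a, Or.inr (Or.inr (Or.inr (Or.inr (Or.inl rfl)))), ?_⟩
    rw [hαdef, hβdef, ← map_mul] at h1
    exact heq _ _ h1
  · refine ⟨a * a' * a, Or.inr (Or.inr (Or.inr (Or.inr (Or.inr rfl)))), ?_⟩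
    rw [hαdef, hβdef, ← map_mul, ← map_mul] at h1
    exact heq _ _ h1

namespace QQSetup

theorem R_le_centralizer_V (h : QQSetup Q z b g) :
    QQR Q z b g ≤ Subgroup.centralizer ((h.V : Subgroup G) : Set G) := by
  intro x hx
  rw [Subgroup.mem_centralizer_iff]
  intro v hv
  exact (h.V_central hv hx).symm

/-- `C_X(V) = R`. -/
theorem X_inf_centralizer_V [Finite G] (h : QQSetup Q z b g) :
    QQX Q g ⊓ Subgroup.centralizer ((h.V : Subgroup G) : Set G) = QQR Q z b g := by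
  apply le_antisymm
  · rintro x ⟨hxX, hxC⟩
    have hxC' : x ∈ Subgroup.centralizer ((h.V : Subgroup G) : Set G) := hxC
    rw [Subgroup.mem_centralizer_iff] at hxC'
    obtain ⟨a, a', k⟩ := h.exists_gens
    obtain ⟨t, ht, htx⟩ := k.exists_rep h x hxX
    have hxz : x ∈ Subgroup.centralizer ({z} : Set G) :=
      Subgroup.mem_centralizer_singleton_iff.mpr (hxC' z h.z_mem_V).symm
    have hxb : x ∈ Subgroup.centralizer ({b} : Set G) :=
      Subgroup.mem_centralizer_singleton_iff.mpr (hxC' b h.b_mem_V).symm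
    have hrz : t⁻¹ * x ∈ Subgroup.centralizer ({z} : Set G) :=
      Subgroup.mem_centralizer_singleton_iff.mpr (h.R_comm_z htx)
    have hrb : t⁻¹ * x ∈ Subgroup.centralizer ({b} : Set G) :=
      Subgroup.mem_centralizer_singleton_iff.mpr (h.R_comm_b htx)
    have ht' : t = x * (t⁻¹ * x)⁻¹ := by group
    have htz : t * z * t⁻¹ = z := by
      have : t ∈ Subgroup.centralizer ({z} : Set G) := by
        rw [ht']; exact Subgroup.mul_mem _ hxz (Subgroup.inv_mem _ hrz)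
      rw [Subgroup.mem_centralizer_singleton_iff.mp this]; group
    have htb : t * b * t⁻¹ = b := by
      have : t ∈ Subgroup.centralizer ({b} : Set G) := by
        rw [ht']; exact Subgroup.mul_mem _ hxb (Subgroup.inv_mem _ hrb)
      rw [Subgroup.mem_centralizer_singleton_iff.mp this]; group
    have hne1 : z * b ≠ b := fun h0 => h.hEL.hz1 (mul_eq_right.mp h0)
    have hne2 : z * b ≠ z := fun h0 => h.hb1 (mul_eq_left.mp h0)
    rcases ht with ht | ht | ht | ht | ht | ht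
    · rw [ht, inv_one, one_mul] at htx; exact htx
    · exfalso; rw [ht, k.hab] at htb; exact hne1 htb
    · exfalso; rw [ht, k.ha'z] at htz; exact hne2 htz
    · exfalso; rw [ht, conj_conj, k.ha'z, k.azb h] at htz; exact h.hbz htz
    · exfalso; rw [ht, conj_conj, k.az h, k.ha'z] at htz; exact hne2 htz
    · exfalso; rw [ht, conj_conj, k.az h, conj_conj, k.ha'z, k.azb h] at htz; exact h.hbz htz
  · exact le_inf R_le_X h.R_le_centralizer_V

/-- `R` is a 2-group. -/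
theorem isPGroup_R [Finite G] (h : QQSetup Q z b g) : IsPGroup 2 ↥(QQR Q z b g) := by
  intro x
  refine ⟨2, Subtype.ext ?_⟩
  have h1 := h.sq_mem_E x.2
  have h2 := h.E_sq h1
  show ((x ^ 2 ^ 2 : ↥(QQR Q z b g)) : G) = 1
  rw [Subgroup.coe_pow]
  calc (x : G) ^ 2 ^ 2 = ((x : G) * x) * ((x : G) * x) := by
        rw [show (2 : ℕ) ^ 2 = 4 from rfl, pow_succ, pow_succ, pow_succ, pow_one]
        group
    _ = 1 := h2

/-- The non-identity elements of `V`. -/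
def S (h : QQSetup Q z b g) : Set G := {v | v ∈ h.V ∧ v ≠ 1}

theorem S_eq (h : QQSetup Q z b g) : h.S = {z, b, z * b} := by
  ext v
  simp only [S, Set.mem_ofPred_eq, Set.mem_insert_iff, Set.mem_singleton_iff]
  constructor
  · rintro ⟨hv | hv | hv | hv, hv1⟩
    · exact absurd hv hv1
    · exact Or.inl hv
    · exact Or.inr (Or.inl hv)
    · exact Or.inr (Or.inr hv)
  · rintro (hv | hv | hv) <;> rw [hv]
    · exact ⟨h.z_mem_V, h.hEL.hz1⟩
    · exact ⟨h.b_mem_V, h.hb1⟩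
    · refine ⟨Subgroup.mul_mem _ h.z_mem_V h.b_mem_V, fun h0 => ?_⟩
      apply h.hbz
      calc b = (z * z) * b := by rw [h.hz2, one_mul]
        _ = z * (z * b) := by group
        _ = z := by rw [h0, mul_one]

theorem ncard_S (h : QQSetup Q z b g) : h.S.ncard = 3 := by
  rw [Set.ncard_eq_three]
  refine ⟨z, b, z * b, h.hbz.symm, fun h0 => h.hb1 ?_, fun h0 => h.hEL.hz1 ?_, h.S_eq⟩
  · exact (mul_eq_left.mp h0.symm)
  · exact (mul_eq_right.mp h0.symm)

theorem z_mem_S (h : QQSetup Q z b g) : z ∈ h.S := ⟨h.z_mem_V, h.hEL.hz1⟩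

theorem b_mem_S (h : QQSetup Q z b g) : b ∈ h.S := ⟨h.b_mem_V, h.hb1⟩

theorem conj_S_of_conj_V (h : QQSetup Q z b g) {x : G} (hx : ∀ v ∈ h.V, x * v * x⁻¹ ∈ h.V) :
    ∀ s ∈ h.S, x * s * x⁻¹ ∈ h.S := by
  rintro s ⟨hs, hs1⟩
  refine ⟨hx s hs, fun h0 => hs1 ?_⟩
  calc s = x⁻¹ * (x * s * x⁻¹) * x := by group
    _ = 1 := by rw [h0]; group

theorem conj_S_of_mem_normalizer (h : QQSetup Q z b g) :
    ∀ y ∈ Subgroup.normalizer ((h.V : Subgroup G) : Set G), ∀ s ∈ h.S, y * s * y⁻¹ ∈ h.S :=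
  fun _ hy => h.conj_S_of_conj_V (fun v hv => (Subgroup.mem_normalizer_iff.mp hy v).mp hv)

theorem conj_S_of_mem_X [Finite G] (h : QQSetup Q z b g) :
    ∀ x ∈ QQX Q g, ∀ s ∈ h.S, x * s * x⁻¹ ∈ h.S :=
  fun _ hx => h.conj_S_of_conj_V (h.conj_V_of_mem_X hx)

/-- an element centralizing `z` and `b` centralizes `V` -/
theorem mem_centralizer_V_of (h : QQSetup Q z b g) {c : G} (hcz : c * z = z * c)
    (hcb : c * b = b * c) : c ∈ Subgroup.centralizer ((h.V : Subgroup G) : Set G) := by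
  rw [Subgroup.mem_centralizer_iff]
  intro v hv
  rcases hv with hv | hv | hv | hv <;> rw [hv]
  · rw [one_mul, mul_one]
  · exact hcz.symm
  · exact hcb.symm
  · rw [mul_assoc, ← hcb, ← mul_assoc, ← hcz, mul_assoc]

/-- The action of `X` on the involutions of `V`. -/
noncomputable def ψX [Finite G] (h : QQSetup Q z b g) : ↥(QQX Q g) →* Equiv.Perm ↥h.S :=
  conjPerm h.S (QQX Q g) h.conj_S_of_mem_X

/-- The action of `N(V)` on the involutions of `V`. -/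
noncomputable def ψN (h : QQSetup Q z b g) :
    ↥(Subgroup.normalizer ((h.V : Subgroup G) : Set G)) →* Equiv.Perm ↥h.S :=
  conjPerm h.S _ h.conj_S_of_mem_normalizer

theorem ψX_eq_one_iff [Finite G] (h : QQSetup Q z b g) (x : ↥(QQX Q g)) :
    h.ψX x = 1 ↔ (x : G) ∈ QQR Q z b g := by
  rw [← h.X_inf_centralizer_V]
  constructor
  · intro h1
    refine ⟨x.2, ?_⟩
    have hz := congrArg (fun σ : Equiv.Perm ↥h.S => ((σ ⟨z, h.z_mem_S⟩ : ↥h.S) : G)) h1
    have hb := congrArg (fun σ : Equiv.Perm ↥h.S => ((σ ⟨b, h.b_mem_S⟩ : ↥h.S) : G)) h1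
    have hz' : (x : G) * z * (x : G)⁻¹ = z := hz
    have hb' : (x : G) * b * (x : G)⁻¹ = b := hb
    apply h.mem_centralizer_V_of
    · calc (x : G) * z = ((x : G) * z * (x : G)⁻¹) * x := by group
        _ = z * x := by rw [hz']
    · calc (x : G) * b = ((x : G) * b * (x : G)⁻¹) * x := by group
        _ = b * x := by rw [hb']
  · rintro ⟨_, hxC⟩
    have hxC' : (x : G) ∈ Subgroup.centralizer ((h.V : Subgroup G) : Set G) := hxC
    rw [Subgroup.mem_centralizer_iff] at hxC'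
    ext s
    show (x : G) * s * (x : G)⁻¹ = s
    rw [← hxC' s s.2.1]; group

theorem card_perm_S [Finite G] (h : QQSetup Q z b g) : Nat.card (Equiv.Perm ↥h.S) = 6 := by
  rw [Nat.card_perm, Nat.card_coe_set_eq, h.ncard_S]; rfl

theorem ψX_surjective [Finite G] (h : QQSetup Q z b g) : Function.Surjective h.ψX := by
  obtain ⟨a, a', k⟩ := h.exists_gens
  rw [← MonoidHom.range_eq_top]
  apply Subgroup.eq_top_of_card_eq
  have hle : Nat.card h.ψX.range ≤ 6 := by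
    rw [← h.card_perm_S]; exact Subgroup.card_le_card_group _
  have h2 : 2 ∣ Nat.card h.ψX.range := by
    have ho : orderOf (h.ψX ⟨a, k.haX⟩) = 2 := by
      apply orderOf_eq_prime
      · rw [← map_pow, h.ψX_eq_one_iff]
        show ((⟨a, k.haX⟩ ^ 2 : ↥(QQX Q g)) : G) ∈ QQR Q z b g
        rw [Subgroup.coe_pow, sq]
        show a * a ∈ QQR Q z b g
        rcases h.hEL.sq_eq k.haQ with h1 | h1 <;> rw [h1]
        · exact Subgroup.one_mem _
        · exact h.E_le_R h.hzE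
      · intro h0
        have h1 : a ∈ QQR Q z b g := (h.ψX_eq_one_iff _).mp h0
        have h2 : a * b = b * a := h.R_comm_b h1
        have h3 : a * b * a⁻¹ = b := by rw [h2]; group
        rw [k.hab] at h3
        exact h.hEL.hz1 (mul_eq_right.mp h3)
    rw [← ho]; exact Subgroup.orderOf_dvd_natCard _ (MonoidHom.mem_range.mpr ⟨_, rfl⟩)
  have h3 : 3 ∣ Nat.card h.ψX.range := by
    have hρX : a * a' ∈ QQX Q g := Subgroup.mul_mem _ k.haX k.ha'X
    have hρz : (a * a') * z * (a * a')⁻¹ = b := by rw [conj_conj, k.ha'z, k.azb h]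
    have hρb : (a * a') * b * (a * a')⁻¹ = z * b := by rw [conj_conj, k.a'b h, k.hab]
    have hρzb : (a * a') * (z * b) * (a * a')⁻¹ = z := by rw [conj_conj, k.a'zb h, k.az h]
    have ho : orderOf (h.ψX ⟨a * a', hρX⟩) = 3 := by
      have : Fact (Nat.Prime 3) := ⟨Nat.prime_three⟩
      apply orderOf_eq_prime
      · rw [← map_pow, h.ψX_eq_one_iff, ← h.X_inf_centralizer_V]
        refine ⟨Subtype.property _, ?_⟩
        show ((⟨a * a', hρX⟩ ^ 3 : ↥(QQX Q g)) : G) ∈ Subgroup.centralizer _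
        rw [Subgroup.coe_pow]
        have e : (a * a') ^ 3 = (a * a') * (a * a') * (a * a') := by
          rw [pow_succ, pow_succ, pow_one]
        show (a * a') ^ 3 ∈ Subgroup.centralizer _
        rw [e]
        have hz3 : ((a * a') * (a * a') * (a * a')) * z * ((a * a') * (a * a') * (a * a'))⁻¹ = z := by
          rw [conj_conj, hρz, conj_conj, hρb, hρzb]
        have hb3 : ((a * a') * (a * a') * (a * a')) * b * ((a * a') * (a * a') * (a * a'))⁻¹ = b := by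
          rw [conj_conj, hρb, conj_conj, hρzb, hρz]
        apply h.mem_centralizer_V_of
        · calc ((a * a') * (a * a') * (a * a')) * z
              = (((a * a') * (a * a') * (a * a')) * z * ((a * a') * (a * a') * (a * a'))⁻¹) *
                ((a * a') * (a * a') * (a * a')) := by group
            _ = z * ((a * a') * (a * a') * (a * a')) := by rw [hz3]
        · calc ((a * a') * (a * a') * (a * a')) * b
              = (((a * a') * (a * a') * (a * a')) * b * ((a * a') * (a * a') * (a * a'))⁻¹) *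
                ((a * a') * (a * a') * (a * a')) := by group
            _ = b * ((a * a') * (a * a') * (a * a')) := by rw [hb3]
      · intro h0
        have h1 : a * a' ∈ QQR Q z b g := (h.ψX_eq_one_iff _).mp h0
        have h2 : (a * a') * z = z * (a * a') := h.R_comm_z h1
        have h3 : (a * a') * z * (a * a')⁻¹ = z := by rw [h2]; group
        rw [hρz] at h3
        exact h.hbz h3
    rw [← ho]; exact Subgroup.orderOf_dvd_natCard _ (MonoidHom.mem_range.mpr ⟨_, rfl⟩)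
  have h6 : 2 * 3 ∣ Nat.card h.ψX.range :=
    Nat.Coprime.mul_dvd_of_dvd_of_dvd (by norm_num) h2 h3
  have h7 : Nat.card h.ψX.range = 6 := le_antisymm hle (Nat.le_of_dvd Nat.card_pos h6)
  rw [h7, h.card_perm_S]

/-- `X / R` is the symmetric group of degree 3. -/
theorem exists_hom [Finite G] (h : QQSetup Q z b g) :
    ∃ ψ : ↥(QQX Q g) →* Equiv.Perm (Fin 3), Function.Surjective ψ ∧
      ψ.ker = (QQR Q z b g).subgroupOf (QQX Q g) := by
  have hc : Nat.card ↥h.S = 3 := by rw [Nat.card_coe_set_eq, h.ncard_S]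
  let e : ↥h.S ≃ Fin 3 := Finite.equivFinOfCardEq hc
  refine ⟨(Equiv.permCongrHom e).toMonoidHom.comp h.ψX, ?_, ?_⟩
  · exact (Equiv.permCongrHom e).surjective.comp h.ψX_surjective
  · ext x
    rw [MonoidHom.mem_ker, Subgroup.mem_subgroupOf, ← h.ψX_eq_one_iff]
    show (Equiv.permCongrHom e) (h.ψX x) = 1 ↔ _
    exact map_eq_one_iff _ (Equiv.permCongrHom e).injective

/-- `N(V) = X C(V)`. -/
theorem exists_factor [Finite G] (h : QQSetup Q z b g) {y : G}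
    (hy : y ∈ Subgroup.normalizer ((h.V : Subgroup G) : Set G)) :
    ∃ x ∈ QQX Q g, ∃ c, c * z = z * c ∧ c * b = b * c ∧ y = x * c := by
  obtain ⟨x, hx⟩ := h.ψX_surjective (h.ψN ⟨y, hy⟩)
  have hz := congrArg (fun σ : Equiv.Perm ↥h.S => ((σ ⟨z, h.z_mem_S⟩ : ↥h.S) : G)) hx
  have hb := congrArg (fun σ : Equiv.Perm ↥h.S => ((σ ⟨b, h.b_mem_S⟩ : ↥h.S) : G)) hx
  have hz' : (x : G) * z * (x : G)⁻¹ = y * z * y⁻¹ := hz
  have hb' : (x : G) * b * (x : G)⁻¹ = y * b * y⁻¹ := hb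
  refine ⟨x, x.2, (x : G)⁻¹ * y, ?_, ?_, by group⟩
  · calc ((x : G)⁻¹ * y) * z = (x : G)⁻¹ * (y * z * y⁻¹) * y := by group
      _ = (x : G)⁻¹ * ((x : G) * z * (x : G)⁻¹) * y := by rw [hz']
      _ = z * ((x : G)⁻¹ * y) := by group
  · calc ((x : G)⁻¹ * y) * b = (x : G)⁻¹ * (y * b * y⁻¹) * y := by group
      _ = (x : G)⁻¹ * ((x : G) * b * (x : G)⁻¹) * y := by rw [hb']
      _ = b * ((x : G)⁻¹ * y) := by group

end QQSetup

end

end Cfsg.Agent.Lib.Helper38
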