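import Mathlib
import Cfsg.Prelude.Def_GeometricClasses
import Cfsg.Agent.Lib.Helper95.Transvection

/-!
# K-SLMax-N2 : `SL_n` is not inside the stabiliser of an `m`-decomposition

One transvection `x ↦ x + (φ ⬝ᵥ x) • v` with `v ∈ D i₀`, `φ` vanishing on all `D j` (`j ≠ i₁`) and
`φ ⬝ᵥ w = 1` for some `w ∈ D i₁` maps `w` to `w + v`, which lies in no `D j`.
-/

set_option autoImplicit false

namespace Cfsg.Agent.Lib.Helper38.SLMax

open Cfsg Cfsg.Geo
open scoped Matrix MatrixGroups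

variable {F : Type*} [Field F] {n : ℕ}

theorem sl_not_le_decompositionStabilizer {t m : ℕ} (D : Fin t → Submodule F (Fin n → F))
    (hD : IsMDecomposition m D) :
    ¬ specialLinear (Fin n) F ≤ decompositionStabilizer D := by
  intro hle
  have ht := hD.two_le
  let i₀ : Fin t := ⟨0, by omega⟩
  let i₁ : Fin t := ⟨1, by omega⟩
  have h01 : i₀ ≠ i₁ := by
    intro h
    have := congrArg Fin.val h
    simp [i₀, i₁] at this
  -- nonzero vectors in `D i₀` and `D i₁`
  have hpos : ∀ i, 0 < Module.finrank F (D i) := fun i => by rw [hD.finrank_eq i]; exact hD.pos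
  obtain ⟨v', hv'⟩ := Module.finrank_pos_iff_exists_ne_zero.mp (hpos i₀)
  obtain ⟨w', hw'⟩ := Module.finrank_pos_iff_exists_ne_zero.mp (hpos i₁)
  obtain ⟨v, hv⟩ := v'
  obtain ⟨w, hw⟩ := w'
  have hv0 : v ≠ 0 := fun h => hv' (Subtype.ext h)
  have hw0 : w ≠ 0 := fun h => hw' (Subtype.ext h)
  -- the sum of the other components
  set S : Submodule F (Fin n → F) := ⨆ (j) (_ : j ≠ i₁), D j with hS
  have hDS : ∀ j, j ≠ i₁ → D j ≤ S := fun j hj => le_iSup₂ (f := fun j (_ : j ≠ i₁) => D j) j hj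
  have hdisj : Disjoint (D i₁) S := hD.indep i₁
  rw [Submodule.disjoint_def] at hdisj
  have hwS : w ∉ S := fun h => hw0 (hdisj w hw h)
  have hvS : v ∈ S := hDS i₀ h01 hv
  obtain ⟨φ, hφS, hφw⟩ := Cfsg.Agent.Lib.Helper95.exists_dotProduct_separating S w hwS
  have hφv : φ ⬝ᵥ v = 0 := hφS v hvS
  have hg := hle (Cfsg.Agent.Lib.Helper95.tvGL_mem_specialLinear φ v hφv)
  obtain ⟨σ, hσ⟩ := hg
  have hmem : Matrix.toLin' ((Cfsg.Agent.Lib.Helper95.tvGL φ v hφv : GL (Fin n) F) :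
      Matrix (Fin n) (Fin n) F) w ∈ D (σ i₁) := by
    rw [← hσ i₁]
    exact Submodule.mem_map_of_mem hw
  rw [Matrix.toLin'_apply, Cfsg.Agent.Lib.Helper95.tvGL_val,
    Cfsg.Agent.Lib.Helper95.tvMat_mulVec, hφw, one_smul] at hmem
  by_cases hk : σ i₁ = i₁
  · rw [hk] at hmem
    have hv1 : v ∈ D i₁ := by
      have := (D i₁).sub_mem hmem hw
      simpa using this
    exact hv0 (hdisj v hv1 hvS)
  · have h1 : w + v ∈ S := hDS _ hk hmem
    have h2 : w ∈ S := by
      have := S.sub_mem h1 hvS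
      simpa using this
    exact hwS h2

end Cfsg.Agent.Lib.Helper38.SLMax
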