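import Mathlib
import Cfsg.Prelude.Def_GeometricClasses
import Cfsg.Agent.Lib.Helper51.SUGen10
import Cfsg.Agent.Lib.Helper51.SUMax1
import Cfsg.Agent.Lib.Helper82.SpMaxG1

/-!
# K-SUMax-G1 : a maximal subgroup `H` of `SU` satisfies `H ⊔ (scalars ⊓ SU) ≠ SU`
-/

set_option autoImplicit false

namespace Cfsg.Agent.Lib.Helper38.SUMax

open Cfsg Cfsg.Geo
open scoped Matrix MatrixGroups commutatorElement

variable {F : Type*} [Field F] [Fintype F] {n q : ℕ}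

/-- `SU` as a subgroup of `SL`, mapped into `GL`. -/
noncomputable def suToGL (n : ℕ) (F : Type*) [Field F] (q : ℕ) : ↥(Cfsg.SU n F q) →* GL (Fin n) F :=
  (Matrix.SpecialLinearGroup.toGL).comp (Cfsg.SU n F q).subtype

omit [Fintype F] in
theorem suToGL_val (A : ↥(Cfsg.SU n F q)) :
    ((suToGL n F q A : GL (Fin n) F) : Matrix (Fin n) (Fin n) F) = Cfsg.Agent.Lib.Helper51.smat A :=
  rfl

theorem range_suToGL :
    (suToGL n F q).range = GU n F q ⊓ specialLinear (Fin n) F := by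
  ext g
  rw [Cfsg.Agent.Lib.Helper51.mem_GUSL_iff, MonoidHom.mem_range]
  constructor
  · rintro ⟨A, rfl⟩
    rw [suToGL_val]
    exact ⟨Cfsg.Agent.Lib.Helper51.smat_iso A, Cfsg.Agent.Lib.Helper51.smat_det A⟩
  · rintro ⟨h1, h2⟩
    refine ⟨Cfsg.Agent.Lib.Helper51.toSU _ h1 h2, ?_⟩
    apply Units.ext
    rw [suToGL_val, Cfsg.Agent.Lib.Helper51.smat_toSU]

/-- `SU` (as the subgroup `GU ⊓ SL` of `GL`) is perfect. -/
theorem commutator_GUSL (hF : Fintype.card F = q ^ 2) (hn : 3 ≤ n) (hex : ¬ (n = 3 ∧ q = 2)) :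
    ⁅GU n F q ⊓ specialLinear (Fin n) F, GU n F q ⊓ specialLinear (Fin n) F⁆ =
      GU n F q ⊓ specialLinear (Fin n) F := by
  have hperf := Cfsg.Agent.Lib.Helper51.SU_perfect (n := n) hF hn hex
  have h2 := Subgroup.map_commutator (⊤ : Subgroup ↥(Cfsg.SU n F q)) ⊤ (suToGL n F q)
  rw [← commutator_def, hperf, ← MonoidHom.range_eq_map, range_suToGL] at h2
  exact h2.symm

theorem sup_scalars_ne_of_isMaximalIn (hF : Fintype.card F = q ^ 2) (hn : 3 ≤ n)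
    (hex : ¬ (n = 3 ∧ q = 2))
    (H : Subgroup (GL (Fin n) F)) (hH : IsMaximalIn (GU n F q ⊓ specialLinear (Fin n) F) H) :
    H ⊔ (scalars (Fin n) F ⊓ (GU n F q ⊓ specialLinear (Fin n) F)) ≠
      GU n F q ⊓ specialLinear (Fin n) F := by
  intro hsup
  have hlt : H < GU n F q ⊓ specialLinear (Fin n) F := hH.1
  apply lt_irrefl H
  refine lt_of_lt_of_le hlt ?_
  rw [← commutator_GUSL hF hn hex, Subgroup.commutator_le]
  have hZn : (scalars (Fin n) F ⊓ (GU n F q ⊓ specialLinear (Fin n) F)).Normal := ⟨fun z hz g => by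
    rw [← Cfsg.Agent.Lib.Helper82.SpMax.scalars_comm z g hz.1, mul_inv_cancel_right]
    exact hz⟩
  have hdec : ∀ g ∈ GU n F q ⊓ specialLinear (Fin n) F,
      ∃ h ∈ H, ∃ z ∈ scalars (Fin n) F, g = h * z := by
    intro g hg
    rw [← hsup] at hg
    have hg' : g ∈ ((H ⊔ (scalars (Fin n) F ⊓ (GU n F q ⊓ specialLinear (Fin n) F)) :
        Subgroup _) : Set _) := hg
    rw [Subgroup.mul_normal] at hg'
    obtain ⟨h, hh, z, hz, rfl⟩ := Set.mem_mul.mp hg'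
    exact ⟨h, hh, z, hz.1, rfl⟩
  intro g₁ hg₁ g₂ hg₂
  obtain ⟨h₁, hh₁, z₁, hz₁, rfl⟩ := hdec g₁ hg₁
  obtain ⟨h₂, hh₂, z₂, hz₂, rfl⟩ := hdec g₂ hg₂
  rw [Cfsg.Agent.Lib.Helper82.SpMax.commutatorElement_mul_central h₁ h₂ z₁ z₂
    (fun x => Cfsg.Agent.Lib.Helper82.SpMax.scalars_comm z₁ x hz₁)
    (fun x => Cfsg.Agent.Lib.Helper82.SpMax.scalars_comm z₂ x hz₂), commutatorElement_def]
  exact H.mul_mem (H.mul_mem (H.mul_mem hh₁ hh₂) (H.inv_mem hh₁)) (H.inv_mem hh₂)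

end Cfsg.Agent.Lib.Helper38.SUMax
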