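import Mathlib

/-!
Keystone K-S2037-F (Q-lemma) for S2037 / S2038, corrected version: the hypothesis `n₁ * n₁ = 1`
is added (without it the statement fails, e.g. for SL(2,7) over PSL(2,7) with `n₁` of order 3).
-/

set_option autoImplicit false

namespace Cfsg.Agent.Lib.Helper38.SchurTwo

/-- Transport of "square one" along a conjugation downstairs, for a central extension by `{1,z}`. -/
theorem sq_one_transport {G Γ : Type*} [Group G] [Group Γ] (σ : Γ →* G)
    (hσ : Function.Surjective σ) (z : Γ) (hz2 : z * z = 1) (hzc : ∀ x : Γ, x * z = z * x)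
    (hker : ∀ x : Γ, σ x = 1 → x = 1 ∨ x = z)
    (x y : Γ) (g : G) (hg : g * σ x * g⁻¹ = σ y) (hx : x * x = 1) : y * y = 1 := by
  obtain ⟨γ, rfl⟩ := hσ g
  have h1 : σ (y⁻¹ * (γ * x * γ⁻¹)) = 1 := by
    rw [map_mul, map_mul, map_mul, map_inv, map_inv, hg]; group
  have hconj : (γ * x * γ⁻¹) * (γ * x * γ⁻¹) = 1 := by
    calc (γ * x * γ⁻¹) * (γ * x * γ⁻¹) = γ * (x * x) * γ⁻¹ := by group
      _ = 1 := by rw [hx]; group
  rcases hker _ h1 with h | h
  · have : y = γ * x * γ⁻¹ := by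
      have := congrArg (fun t => y * t) h
      simpa using this.symm
    rw [this]; exact hconj
  · have hyz : y * z = γ * x * γ⁻¹ := by
      have := congrArg (fun t => y * t) h
      simpa using this.symm
    have : (y * z) * (y * z) = y * y := by
      calc (y * z) * (y * z) = y * (z * y) * z := by group
        _ = y * (y * z) * z := by rw [hzc y]
        _ = y * y * (z * z) := by group
        _ = y * y := by rw [hz2, mul_one]
    rw [← this, hyz]; exact hconj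

/-- If `u`, `v`, `u*v` all have square `z` (central, of square one) then `v*u = u*v*z`. -/
theorem anticomm_of_sq {Γ : Type*} [Group Γ] (z : Γ) (hz2 : z * z = 1)
    (u v : Γ) (hu : u * u = z) (hv : v * v = z) (huv : (u * v) * (u * v) = z) :
    v * u = u * v * z := by
  have hu_inv : u⁻¹ = u * z := by
    rw [inv_eq_iff_mul_eq_one, ← mul_assoc, hu, hz2]
  have hv_inv : v⁻¹ = v * z := by
    rw [inv_eq_iff_mul_eq_one, ← mul_assoc, hv, hz2]
  calc v * u = u⁻¹ * ((u * v) * (u * v)) * v⁻¹ := by group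
    _ = u * z * z * (v * z) := by rw [huv, hu_inv, hv_inv]
    _ = u * v * z := by rw [mul_assoc u z z, hz2, mul_one, ← mul_assoc]

/-- If `u`, `v`, `u*v` all have square one then they commute. -/
theorem comm_of_sq_one {Γ : Type*} [Group Γ]
    (u v : Γ) (hu : u * u = 1) (hv : v * v = 1) (huv : (u * v) * (u * v) = 1) :
    u * v = v * u := by
  calc u * v = u⁻¹ * ((u * u) * (v * v)) * v⁻¹ := by group
    _ = u⁻¹ * ((u * v) * (u * v)) * v⁻¹ := by rw [hu, hv, huv, mul_one]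
    _ = v * u := by group

/-- K-S2037-F (Q-lemma), with the extra hypothesis `hn₁ : n₁ * n₁ = 1`. -/
theorem sq_eq_one_of_involution_classes {G Γ : Type*} [Group G] [Group Γ] (σ : Γ →* G)
    (hσ : Function.Surjective σ) (z : Γ) (hz2 : z * z = 1) (hzc : ∀ x : Γ, x * z = z * x)
    (hker : ∀ x : Γ, σ x = 1 → x = 1 ∨ x = z)
    (n₁ n₂ n₃ a b d : G) (hn₁ : n₁ * n₁ = 1)
    (h2 : ∃ g : G, g * n₂ * g⁻¹ = n₁) (h3 : ∃ g : G, g * n₃ * g⁻¹ = n₁)
    (h12 : ∃ g : G, g * (n₁ * n₂) * g⁻¹ = n₁) (h13 : ∃ g : G, g * (n₁ * n₃) * g⁻¹ = n₁)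
    (h23 : ∃ g : G, g * (n₂ * n₃) * g⁻¹ = n₁) (h123 : ∃ g : G, g * (n₁ * (n₂ * n₃)) * g⁻¹ = n₁)
    (ha : ∃ g : G, g * a * g⁻¹ = n₁) (hb : ∃ g : G, g * b * g⁻¹ = n₁)
    (hd : ∃ g : G, g * d * g⁻¹ = n₁)
    (hab : ∃ g : G, g * (a * b) * g⁻¹ = n₁) (had : ∃ g : G, g * (a * d) * g⁻¹ = n₁)
    (hbd : ∃ g : G, g * (b * d) * g⁻¹ = n₁)
    (hcl : ∀ τ : G, τ * τ = 1 → τ = 1 ∨ (∃ g : G, g * τ * g⁻¹ = n₁) ∨
      ∃ g : G, g * τ * g⁻¹ = a * (b * d)) :
    ∀ x : Γ, σ x * σ x = 1 → x * x = 1 := by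
  have T := sq_one_transport σ hσ z hz2 hzc hker
  obtain ⟨m₁, hm₁⟩ := hσ n₁
  obtain ⟨m₂, hm₂⟩ := hσ n₂
  obtain ⟨m₃, hm₃⟩ := hσ n₃
  -- squares of lifts of elements of square one lie in `{1, z}`
  have hsq : ∀ y : Γ, σ y * σ y = 1 → y * y = 1 ∨ y * y = z := by
    intro y hy
    apply hker
    rw [map_mul, hy]
  -- conjugates of `n₁` have square one
  have hconjsq : ∀ τ : G, (∃ g : G, g * τ * g⁻¹ = n₁) → τ * τ = 1 := by
    rintro τ ⟨g, hg⟩
    have : τ = g⁻¹ * n₁ * g := by rw [← hg]; group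
    rw [this]
    calc g⁻¹ * n₁ * g * (g⁻¹ * n₁ * g) = g⁻¹ * (n₁ * n₁) * g := by group
      _ = 1 := by rw [hn₁]; group
  -- Step 1: the lift of `n₁` has square one
  have hm₁sq : m₁ * m₁ = 1 := by
    by_contra hne
    have hm₁z : m₁ * m₁ = z := by
      rcases hsq m₁ (by rw [hm₁, hn₁]) with h | h
      · exact absurd h hne
      · exact h
    -- every lift of a conjugate of `n₁` has square `z`
    have key : ∀ y : Γ, (∃ g : G, g * σ y * g⁻¹ = n₁) → y * y = z := by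
      rintro y ⟨g, hg⟩
      rcases hsq y (hconjsq _ ⟨g, hg⟩) with h | h
      · exact absurd (T y m₁ g (by rw [hg, hm₁]) h) hne
      · exact h
    have e2 : m₂ * m₂ = z := key m₂ (by rw [hm₂]; exact h2)
    have e3 : m₃ * m₃ = z := key m₃ (by rw [hm₃]; exact h3)
    have e12 : (m₁ * m₂) * (m₁ * m₂) = z :=
      key (m₁ * m₂) (by rw [map_mul, hm₁, hm₂]; exact h12)
    have e13 : (m₁ * m₃) * (m₁ * m₃) = z :=
      key (m₁ * m₃) (by rw [map_mul, hm₁, hm₃]; exact h13)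
    have e23 : (m₂ * m₃) * (m₂ * m₃) = z :=
      key (m₂ * m₃) (by rw [map_mul, hm₂, hm₃]; exact h23)
    have e123 : (m₁ * (m₂ * m₃)) * (m₁ * (m₂ * m₃)) = z :=
      key (m₁ * (m₂ * m₃)) (by rw [map_mul, map_mul, hm₁, hm₂, hm₃]; exact h123)
    have c12 : m₂ * m₁ = m₁ * m₂ * z := anticomm_of_sq z hz2 m₁ m₂ hm₁z e2 e12
    have c13 : m₃ * m₁ = m₁ * m₃ * z := anticomm_of_sq z hz2 m₁ m₃ hm₁z e3 e13
    have c123 : (m₂ * m₃) * m₁ = m₁ * (m₂ * m₃) * z :=
      anticomm_of_sq z hz2 m₁ (m₂ * m₃) hm₁z e23 e123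
    have c' : (m₂ * m₃) * m₁ = m₁ * (m₂ * m₃) := by
      calc (m₂ * m₃) * m₁ = m₂ * (m₃ * m₁) := by group
        _ = m₂ * (m₁ * m₃ * z) := by rw [c13]
        _ = (m₂ * m₁) * m₃ * z := by group
        _ = (m₁ * m₂ * z) * m₃ * z := by rw [c12]
        _ = m₁ * m₂ * (z * m₃) * z := by group
        _ = m₁ * m₂ * (m₃ * z) * z := by rw [hzc m₃]
        _ = m₁ * (m₂ * m₃) * (z * z) := by group
        _ = m₁ * (m₂ * m₃) := by rw [hz2, mul_one]
    have hz1 : z = 1 := by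
      have := c123.symm.trans c'
      exact mul_eq_left.mp this
    exact hne (hm₁z.trans hz1)
  -- Step 2: every lift of a conjugate of `n₁` has square one
  have key1 : ∀ y : Γ, (∃ g : G, g * σ y * g⁻¹ = n₁) → y * y = 1 := by
    rintro y ⟨g, hg⟩
    refine T m₁ y g⁻¹ ?_ hm₁sq
    rw [hm₁, ← hg]; group
  obtain ⟨a', ha'⟩ := hσ a
  obtain ⟨b', hb'⟩ := hσ b
  obtain ⟨d', hd'⟩ := hσ d
  have fa : a' * a' = 1 := key1 a' (by rw [ha']; exact ha)
  have fb : b' * b' = 1 := key1 b' (by rw [hb']; exact hb)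
  have fd : d' * d' = 1 := key1 d' (by rw [hd']; exact hd)
  have fab : (a' * b') * (a' * b') = 1 := key1 _ (by rw [map_mul, ha', hb']; exact hab)
  have fad : (a' * d') * (a' * d') = 1 := key1 _ (by rw [map_mul, ha', hd']; exact had)
  have fbd : (b' * d') * (b' * d') = 1 := key1 _ (by rw [map_mul, hb', hd']; exact hbd)
  have cab : a' * b' = b' * a' := comm_of_sq_one a' b' fa fb fab
  have cad : a' * d' = d' * a' := comm_of_sq_one a' d' fa fd fad
  have fabd : (a' * (b' * d')) * (a' * (b' * d')) = 1 := by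
    calc (a' * (b' * d')) * (a' * (b' * d'))
        = a' * (b' * (d' * a')) * (b' * d') := by group
      _ = a' * (b' * (a' * d')) * (b' * d') := by rw [cad]
      _ = a' * ((b' * a') * d') * (b' * d') := by group
      _ = a' * ((a' * b') * d') * (b' * d') := by rw [cab]
      _ = (a' * a') * ((b' * d') * (b' * d')) := by group
      _ = 1 := by rw [fa, fbd, mul_one]
  -- Step 3: conclusion
  intro x hx
  rcases hcl (σ x) hx with h | h | h
  · rcases hker x h with h' | h'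
    · rw [h', mul_one]
    · rw [h', hz2]
  · exact key1 x h
  · obtain ⟨g, hg⟩ := h
    refine T (a' * (b' * d')) x g⁻¹ ?_ fabd
    rw [map_mul, map_mul, ha', hb', hd', ← hg]; group

end Cfsg.Agent.Lib.Helper38.SchurTwo
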