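import Mathlib
import Cfsg.Prelude.Def_GeometricClasses
import Cfsg.Agent.Lib.Helper61.AschDefs
import Cfsg.Agent.Lib.Helper43.SpAschDefs
import Cfsg.Agent.Lib.Helper43.SpAschDefs2

/-!
# K-SpAsch-S3c: `q` even, a quadratic field subalgebra that is adjoint-closed but not self-adjoint gives a
quadratic form `Q v = f (θ v) v` with polar form `f`, preserved up to scalars by the normaliser.
-/

set_option autoImplicit false
set_option linter.unusedSectionVars false

namespace Cfsg.Agent.Lib.Helper38.SpAsch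

open Cfsg Cfsg.Geo Cfsg.Agent.Lib.Helper61.Asch Cfsg.Agent.Lib.Helper43.SpAsch
open scoped Matrix Kronecker MatrixGroups

variable {F : Type*} [Field F] {ι : Type} [Fintype ι] [DecidableEq ι]

/-- `k'` is an adjoint of `k` for the form `f` -/
def AdjRel (f : (ι → F) → (ι → F) → F) (k k' : Matrix ι ι F) : Prop :=
  ∀ u v : ι → F, f (k *ᵥ u) v = f u (k' *ᵥ v)

namespace AdjRel

variable {f : (ι → F) → (ι → F) → F}

theorem symm (hf : IsSymplecticForm f) {k k' : Matrix ι ι F} (h : AdjRel f k k') : AdjRel f k' k := by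
  intro u v
  rw [hf.skew, ← h, hf.skew, neg_neg]

theorem mul {k k' l l' : Matrix ι ι F} (h : AdjRel f k k') (h' : AdjRel f l l') :
    AdjRel f (k * l) (l' * k') := by
  intro u v
  rw [← Matrix.mulVec_mulVec, h, h', Matrix.mulVec_mulVec]

theorem add (hf : IsBilinearForm f) {k k' l l' : Matrix ι ι F} (h : AdjRel f k k') (h' : AdjRel f l l') :
    AdjRel f (k + l) (k' + l') := by
  intro u v
  rw [Matrix.add_mulVec, Matrix.add_mulVec, hf.add_left, hf.add_right, h, h']

theorem one : AdjRel f (1 : Matrix ι ι F) 1 := by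
  intro u v
  rw [Matrix.one_mulVec, Matrix.one_mulVec]

theorem uniq (hf : IsSymplecticForm f) {k a b : Matrix ι ι F} (h : AdjRel f k a) (h' : AdjRel f k b) :
    a = b := by
  apply Matrix.toLin'.injective
  apply LinearMap.ext
  intro v
  rw [Matrix.toLin'_apply, Matrix.toLin'_apply]
  by_contra hne
  have hw : a *ᵥ v - b *ᵥ v ≠ 0 := sub_ne_zero.mpr hne
  obtain ⟨x, hx⟩ := (hf.nondegenerate _ hw).1
  apply hx
  have h1 : f x (a *ᵥ v) = f x (b *ᵥ v) := by rw [← h, ← h']
  have h2 : f x (a *ᵥ v - b *ᵥ v) + f x (b *ᵥ v) = f x (a *ᵥ v) := by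
    rw [← hf.bilinear.add_right, sub_add_cancel]
  rw [h1] at h2
  exact add_eq_right.mp h2

end AdjRel

section CharTwo

variable {f : (ι → F) → (ι → F) → F}

theorem two_eq_zero_of_not_odd_card [Fintype F] (hq : ¬ Odd (Fintype.card F)) : (2 : F) = 0 := by
  have hchar : ringChar F = 2 := by
    apply FiniteField.even_card_iff_char_two.mpr
    rcases Nat.even_or_odd (Fintype.card F) with h | h
    · exact Nat.even_iff.mp h
    · exact absurd h hq
  have hcp : CharP F 2 := by rw [← hchar]; exact ringChar.charP F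
  have := CharP.cast_eq_zero F 2
  exact_mod_cast this

theorem mat_add_self (h2 : (2 : F) = 0) (k : Matrix ι ι F) : k + k = 0 := by
  rw [← two_smul F k, h2, zero_smul]

theorem mat_neg_eq (h2 : (2 : F) = 0) (k : Matrix ι ι F) : -k = k :=
  neg_eq_of_add_eq_zero_left (mat_add_self h2 k)

theorem fld_neg_eq (h2 : (2 : F) = 0) (x : F) : -x = x := by
  have : x + x = 0 := by rw [← two_mul, h2, zero_mul]
  exact neg_eq_of_add_eq_zero_left this

/-- squaring is injective on a field subalgebra in characteristic two -/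
theorem sq_injective (h2 : (2 : F) = 0) {r : ℕ} (E : Subalgebra F (Matrix ι ι F)) (hE : IsFieldSubalgebra r E)
    {x y : Matrix ι ι F} (hx : x ∈ E) (hy : y ∈ E) (hxy : x * x = y * y) : x = y := by
  have hs : (x + y) * (x + y) = 0 := by
    have hc : y * x = x * y := hE.comm y hy x hx
    have : (x + y) * (x + y) = x * x + y * y + (x * y + x * y) := by
      rw [add_mul, mul_add, mul_add, hc]; abel
    rw [this, mat_add_self h2, add_zero, hxy, mat_add_self h2]
  have h0 : x + y = 0 := by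
    by_contra hne
    obtain ⟨w, hw, hxw⟩ := hE.inv (x + y) (E.add_mem hx hy) hne
    have hc : w * (x + y) = (x + y) * w := hE.comm w hw _ (E.add_mem hx hy)
    have h1 : (1 : Matrix ι ι F) = (x + y) * (x + y) * (w * w) := by
      calc (1 : Matrix ι ι F) = ((x + y) * w) * ((x + y) * w) := by rw [hxw, mul_one]
        _ = (x + y) * (w * (x + y)) * w := by simp only [mul_assoc]
        _ = (x + y) * (x + y) * (w * w) := by rw [hc]; simp only [mul_assoc]
    rw [hs, zero_mul] at h1
    apply hne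
    calc x + y = (x + y) * 1 := (mul_one _).symm
      _ = 0 := by rw [h1, mul_zero]
  calc x = -y := eq_neg_of_add_eq_zero_left h0
    _ = y := mat_neg_eq h2 y

/-- in characteristic two a self-adjoint element `δ` of an adjoint-closed field subalgebra has `f (δ v) v = 0` -/
theorem selfadj_zero [Fintype F] (hf : IsSymplecticForm f) (h2 : (2 : F) = 0) {r : ℕ}
    (E : Subalgebra F (Matrix ι ι F)) (hE : IsFieldSubalgebra r E) (hac : IsAdjointClosedFor f E)
    {δ : Matrix ι ι F} (hδ : δ ∈ E) (hadj : AdjRel f δ δ) (v : ι → F) : f (δ *ᵥ v) v = 0 := by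
  have hfin : Finite E := inferInstance
  let sq : E → E := fun x => ⟨(x : Matrix ι ι F) * x, E.mul_mem x.2 x.2⟩
  have hinj : Function.Injective sq := by
    intro x y hxy
    have : (x : Matrix ι ι F) * x = (y : Matrix ι ι F) * y := congrArg Subtype.val hxy
    exact Subtype.ext (sq_injective h2 E hE x.2 y.2 this)
  have hsurj : Function.Surjective sq := Finite.injective_iff_surjective.mp hinj
  obtain ⟨l, hl⟩ := hsurj ⟨δ, hδ⟩
  have hl' : (l : Matrix ι ι F) * l = δ := congrArg Subtype.val hl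
  obtain ⟨l', hl'E, hadjl⟩ := hac l l.2
  have h1 : AdjRel f ((l : Matrix ι ι F) * l) (l' * l') := AdjRel.mul hadjl hadjl
  rw [hl'] at h1
  have h3 : l' * l' = (l : Matrix ι ι F) * l := by rw [hl']; exact AdjRel.uniq hf h1 hadj
  have h4 : l' = (l : Matrix ι ι F) := sq_injective h2 E hE hl'E l.2 h3
  rw [h4] at hadjl
  rw [← hl', ← Matrix.mulVec_mulVec, hadjl]
  exact hf.alternating _

end CharTwo

/-- **K-SpAsch-S3c**. -/
theorem quadFor_of_field_even [Fintype F] {n : ℕ} {f : (Fin n → F) → (Fin n → F) → F} (hf : IsSymplecticForm f)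
    (hq : ¬ Odd (Fintype.card F))
    (K : Subgroup (GL (Fin n) F)) (hKΔ : K ≤ similarityGroup f) (E : Subalgebra F (Matrix (Fin n) (Fin n) F))
    (hE : IsFieldSubalgebra 2 E) (hac : IsAdjointClosedFor f E) (hns : ¬ IsSelfAdjointFor f E)
    (hKE : K ≤ subalgebraNormalizer E) : QuadFor f K := by
  have h2 : (2 : F) = 0 := two_eq_zero_of_not_odd_card hq
  have hb := hf.bilinear
  -- an element that is not self-adjoint
  obtain ⟨k₀, hk₀E, hk₀⟩ : ∃ k₀ ∈ E, ¬ AdjRel f k₀ k₀ := by
    by_contra hcon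
    push Not at hcon
    exact hns (fun k hk u v => hcon k hk u v)
  obtain ⟨k₀', hk₀'E, hadj₀⟩ := hac k₀ hk₀E
  have hadj₀ : AdjRel f k₀ k₀' := hadj₀
  set s : Matrix (Fin n) (Fin n) F := k₀ + k₀' with hs
  have hsE : s ∈ E := E.add_mem hk₀E hk₀'E
  have hss : AdjRel f s s := by
    have := AdjRel.add hb hadj₀ (AdjRel.symm hf hadj₀)
    rwa [add_comm k₀' k₀] at this
  have hs0 : s ≠ 0 := by
    intro h0
    have : k₀' = k₀ := by
      calc k₀' = -k₀ := eq_neg_of_add_eq_zero_right h0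
        _ = k₀ := mat_neg_eq h2 k₀
    rw [this] at hadj₀
    exact hk₀ hadj₀
  obtain ⟨z, hzE, hsz⟩ := hE.inv s hsE hs0
  have hzz : AdjRel f z z := by
    obtain ⟨z', hz'E, hadjz⟩ := hac z hzE
    have hadjz : AdjRel f z z' := hadjz
    have h1 : AdjRel f (s * z) (z' * s) := AdjRel.mul hss hadjz
    rw [hsz] at h1
    have h3 : z' * s = 1 := AdjRel.uniq hf h1 AdjRel.one
    have : z' = z := by
      calc z' = z' * (s * z) := by rw [hsz, mul_one]
        _ = (z' * s) * z := by rw [mul_assoc]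
        _ = z := by rw [h3, one_mul]
    rwa [this] at hadjz
  set θ : Matrix (Fin n) (Fin n) F := z * k₀ with hθ
  set θ' : Matrix (Fin n) (Fin n) F := k₀' * z with hθ'
  have hθE : θ ∈ E := E.mul_mem hzE hk₀E
  have hθ'E : θ' ∈ E := E.mul_mem hk₀'E hzE
  have hθθ' : AdjRel f θ θ' := AdjRel.mul hzz hadj₀
  have hsum : θ + θ' = 1 := by
    rw [hθ, hθ', hE.comm k₀' hk₀'E z hzE, ← mul_add, ← hs, hE.comm z hzE s hsE, hsz]
  -- the quadratic form
  set Q : (Fin n → F) → F := fun v => f (θ *ᵥ v) v with hQdef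
  have hpol : ∀ u v, QuadraticMap.polar Q u v = f u v := by
    intro u v
    unfold QuadraticMap.polar
    simp only [hQdef]
    rw [Matrix.mulVec_add, hb.add_left, hb.add_right, hb.add_right]
    have h1 : f (θ *ᵥ v) u = f (θ' *ᵥ u) v := by
      rw [hθθ', hf.skew, fld_neg_eq h2]
    have h3 : f (θ *ᵥ u) v + f (θ' *ᵥ u) v = f u v := by
      rw [← hb.add_left, ← Matrix.add_mulVec, hsum, Matrix.one_mulVec]
    rw [h1]
    linear_combination h3
  have hQ : IsNondegenerateQuadraticForm Q := by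
    have hfun : QuadraticMap.polar Q = f := by
      funext u v; exact hpol u v
    refine ⟨?_, ?_, ?_⟩
    · intro c v
      simp only [hQdef]
      rw [Matrix.mulVec_smul, hb.smul_left, hb.smul_right]; ring
    · rw [hfun]; exact hb
    · rw [hfun]; exact hf.nondegenerate
  refine ⟨Q, hQ, hpol, ?_⟩
  intro g hg
  obtain ⟨c, hc⟩ := hKΔ hg
  refine ⟨c, fun v => ?_⟩
  set Gm : Matrix (Fin n) (Fin n) F := (g : Matrix (Fin n) (Fin n) F) with hGm
  set Gi : Matrix (Fin n) (Fin n) F := ((g⁻¹ : GL (Fin n) F) : Matrix (Fin n) (Fin n) F) with hGi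
  have hGiGm : Gi * Gm = 1 := by
    rw [hGi, hGm, ← Units.val_mul, inv_mul_cancel, Units.val_one]
  have hGmGi : Gm * Gi = 1 := by
    rw [hGi, hGm, ← Units.val_mul, mul_inv_cancel, Units.val_one]
  have hconjE : ∀ k ∈ E, Gi * k * Gm ∈ E := by
    intro k hk
    have := (hKE (K.inv_mem hg) k).mp hk
    rwa [inv_inv] at this
  have hconjAdj : ∀ k k', AdjRel f k k' → AdjRel f (Gi * k * Gm) (Gi * k' * Gm) := by
    intro k k' hkk' u v
    have hcne : (c : F) ≠ 0 := c.ne_zero
    have e1 : (c : F) * f ((Gi * k * Gm) *ᵥ u) v = (c : F) * f u ((Gi * k' * Gm) *ᵥ v) := by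
      rw [← hc, ← hc, Matrix.mulVec_mulVec, Matrix.mulVec_mulVec]
      have a1 : Gm * (Gi * k * Gm) = k * Gm := by
        rw [← mul_assoc, ← mul_assoc, hGmGi, one_mul]
      have a2 : Gm * (Gi * k' * Gm) = k' * Gm := by
        rw [← mul_assoc, ← mul_assoc, hGmGi, one_mul]
      rw [a1, a2, ← Matrix.mulVec_mulVec, hkk', Matrix.mulVec_mulVec]
    exact mul_left_cancel₀ hcne e1
  set θg : Matrix (Fin n) (Fin n) F := Gi * θ * Gm with hθg
  set θg' : Matrix (Fin n) (Fin n) F := Gi * θ' * Gm with hθg'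
  have hθgE : θg ∈ E := hconjE θ hθE
  have hθg'E : θg' ∈ E := hconjE θ' hθ'E
  have hθgadj : AdjRel f θg θg' := hconjAdj θ θ' hθθ'
  have hsumg : θg + θg' = 1 := by
    rw [hθg, hθg', ← add_mul, ← mul_add, hsum, mul_one, hGiGm]
  set δ : Matrix (Fin n) (Fin n) F := θg + θ with hδ
  have hδE : δ ∈ E := E.add_mem hθgE hθE
  have hδadj : AdjRel f δ δ := by
    have h1 : AdjRel f δ (θg' + θ') := AdjRel.add hb hθgadj hθθ'
    have h3 : θg' + θ' = δ := by
      have h4 : δ + (θg' + θ') = 0 := by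
        have : δ + (θg' + θ') = (θg + θg') + (θ + θ') := by rw [hδ]; abel
        rw [this, hsumg, hsum]; exact mat_add_self h2 1
      calc θg' + θ' = -δ := eq_neg_of_add_eq_zero_right h4
        _ = δ := mat_neg_eq h2 δ
    rwa [h3] at h1
  have hδ0 : f (δ *ᵥ v) v = 0 := selfadj_zero hf h2 E hE hac hδE hδadj v
  have hθgθ : f (θg *ᵥ v) v = f (θ *ᵥ v) v := by
    have h1 : θg = δ + θ := by
      rw [hδ, add_assoc, mat_add_self h2, add_zero]
    rw [h1, Matrix.add_mulVec, hb.add_left, hδ0, zero_add]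
  simp only [hQdef]
  have a1 : θ *ᵥ (Gm *ᵥ v) = Gm *ᵥ (θg *ᵥ v) := by
    rw [Matrix.mulVec_mulVec, Matrix.mulVec_mulVec, hθg, ← mul_assoc, ← mul_assoc, hGmGi, one_mul]
  rw [a1, hc, hθgθ]

end Cfsg.Agent.Lib.Helper38.SpAsch
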