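import Mathlib
import Cfsg.Prelude.Def_GeometricClasses
import Cfsg.Agent.Lib.Helper38.SpAschS3c

/-!
# K-SpMax-Y2a: over `F_3` every adjoint-closed, not self-adjoint quadratic field subalgebra of `M_4(F)` is
`Sp_4(3)`-conjugate to `F[J]`.
-/

set_option autoImplicit false
set_option linter.unusedSectionVars false

namespace Cfsg.Agent.Lib.Helper38.SpMax

open Cfsg Cfsg.Geo Cfsg.Agent.Lib.Helper38.SpAsch
open scoped Matrix Kronecker MatrixGroups

variable {F : Type*} [Field F]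

/-! ### the standard symplectic form -/

theorem sympForm_sum (m : ℕ) (u v : Fin m ⊕ Fin m → F) :
    sympForm m F u v = ∑ i, (u (Sum.inr i) * v (Sum.inl i) - u (Sum.inl i) * v (Sum.inr i)) := by
  unfold sympForm
  simp only [dotProduct, Matrix.mulVec, Fintype.sum_sum_type, Matrix.J, Matrix.fromBlocks_apply₁₁,
    Matrix.fromBlocks_apply₁₂, Matrix.fromBlocks_apply₂₁, Matrix.fromBlocks_apply₂₂, Matrix.zero_apply,
    Matrix.neg_apply, Matrix.one_apply, zero_mul, Finset.sum_const_zero, zero_add, add_zero, neg_mul,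
    ite_mul, one_mul, Finset.sum_neg_distrib, Finset.sum_ite_eq, Finset.mem_univ, if_true]
  rw [Finset.sum_sub_distrib]
  simp only [mul_neg, Finset.sum_neg_distrib]
  ring

theorem isSymplecticForm_sympForm_std (m : ℕ) : IsSymplecticForm (sympForm m F) := by
  refine ⟨⟨?_, ?_, ?_, ?_⟩, ?_, ?_, ?_⟩
  · intro x y v
    simp only [sympForm_sum, Pi.add_apply, ← Finset.sum_add_distrib]
    exact Finset.sum_congr rfl fun i _ => by ring
  · intro c x v
    simp only [sympForm_sum, Pi.smul_apply, smul_eq_mul, Finset.mul_sum]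
    exact Finset.sum_congr rfl fun i _ => by ring
  · intro v x y
    simp only [sympForm_sum, Pi.add_apply, ← Finset.sum_add_distrib]
    exact Finset.sum_congr rfl fun i _ => by ring
  · intro c v x
    simp only [sympForm_sum, Pi.smul_apply, smul_eq_mul, Finset.mul_sum]
    exact Finset.sum_congr rfl fun i _ => by ring
  · intro v w
    simp only [sympForm_sum, ← Finset.sum_neg_distrib]
    exact Finset.sum_congr rfl fun i _ => by ring
  · intro v
    simp only [sympForm_sum]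
    exact Finset.sum_eq_zero fun i _ => by ring
  · intro v hv
    obtain ⟨j, hj⟩ : ∃ j, v j ≠ 0 := by
      by_contra h
      push Not at h
      exact hv (funext h)
    have key : ∀ (x : Fin m ⊕ Fin m → F), sympForm m F x v = - sympForm m F v x := by
      intro x
      simp only [sympForm_sum, ← Finset.sum_neg_distrib]
      exact Finset.sum_congr rfl fun i _ => by ring
    have h1 : ∃ x, sympForm m F x v ≠ 0 := by
      rcases j with j | j
      · refine ⟨Pi.single (Sum.inr j) 1, ?_⟩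
        rw [sympForm_sum, Finset.sum_eq_single j]
        · simpa using hj
        · intro b _ hb
          simp [hb]
        · simp
      · refine ⟨Pi.single (Sum.inl j) 1, ?_⟩
        rw [sympForm_sum, Finset.sum_eq_single j]
        · simpa using hj
        · intro b _ hb
          simp [hb]
        · simp
    refine ⟨h1, ?_⟩
    obtain ⟨x, hx⟩ := h1
    refine ⟨x, ?_⟩
    intro h
    apply hx
    rw [key, h, neg_zero]

/-! ### a field with three elements -/

section Three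

variable [Fintype F]

theorem tri_of_card_three (hq : Fintype.card F = 3) (x : F) : x = 0 ∨ x = 1 ∨ x = -1 := by
  have h := FiniteField.pow_card x
  rw [hq] at h
  have h1 : x * ((x - 1) * (x + 1)) = 0 := by linear_combination h
  rcases mul_eq_zero.mp h1 with h0 | h0
  · exact Or.inl h0
  · rcases mul_eq_zero.mp h0 with h2 | h2
    · right; left; linear_combination h2
    · right; right; linear_combination h2

theorem three_eq_zero_of_card_three (hq : Fintype.card F = 3) : (3 : F) = 0 := by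
  have := Nat.cast_card_eq_zero F
  rw [hq] at this
  exact_mod_cast this

theorem two_ne_zero_of_card_three (hq : Fintype.card F = 3) : (2 : F) ≠ 0 := by
  intro h2
  have h3 := three_eq_zero_of_card_three hq
  have : (1 : F) = 0 := by linear_combination h3 - h2
  exact one_ne_zero this

theorem two_eq_neg_one_of_card_three (hq : Fintype.card F = 3) : (2 : F) = -1 := by
  have h3 := three_eq_zero_of_card_three hq
  linear_combination h3

theorem one_ne_neg_one_of_card_three (hq : Fintype.card F = 3) : (1 : F) ≠ -1 := by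
  intro h
  apply two_ne_zero_of_card_three hq
  linear_combination h

end Three

/-! ### adjoints, quadratic field subalgebras -/

section Field2

variable {ι : Type} [Fintype ι] [DecidableEq ι] {f : (ι → F) → (ι → F) → F}

theorem adjRel_smul (hb : IsBilinearForm f) {k k' : Matrix ι ι F} (c : F) (h : AdjRel f k k') :
    AdjRel f (c • k) (c • k') := by
  intro u v
  rw [Matrix.smul_mulVec, Matrix.smul_mulVec, hb.smul_left, hb.smul_right, h]

theorem adjRel_neg (hb : IsBilinearForm f) {k k' : Matrix ι ι F} (h : AdjRel f k k') :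
    AdjRel f (-k) (-k') := by
  have := adjRel_smul hb (-1) h
  simpa using this

theorem adjRel_sub (hb : IsBilinearForm f) {k k' l l' : Matrix ι ι F} (h : AdjRel f k k') (h' : AdjRel f l l') :
    AdjRel f (k - l) (k' - l') := by
  rw [sub_eq_add_neg, sub_eq_add_neg]
  exact AdjRel.add hb h (adjRel_neg hb h')

theorem adjRel_scalar (hb : IsBilinearForm f) (c : F) : AdjRel f (c • (1 : Matrix ι ι F)) (c • 1) :=
  adjRel_smul hb c AdjRel.one

/-- in a quadratic field subalgebra, `1` and any non-scalar element span -/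
theorem exists_repr [Nonempty ι] (K : Subalgebra F (Matrix ι ι F)) (hK : IsFieldSubalgebra 2 K)
    {y : Matrix ι ι F} (hy : y ∈ K) (hns : ∀ c : F, y ≠ c • 1) :
    ∀ z ∈ K, ∃ a b : F, z = a • 1 + b • y := by
  intro z hz
  have hfd : FiniteDimensional F K := by
    apply Module.finite_of_finrank_pos; rw [hK.finrank_eq]; norm_num
  let y' : K := ⟨y, hy⟩
  have hli : LinearIndependent F ![(1 : K), y'] := by
    rw [LinearIndependent.pair_iff]
    intro s t hst
    have hst' : s • (1 : Matrix ι ι F) + t • y = 0 := by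
      have := congrArg Subtype.val hst
      simpa using this
    by_cases ht : t = 0
    · subst ht
      rw [zero_smul, add_zero] at hst'
      have : s = 0 := by
        by_contra hs
        have h1 : (1 : Matrix ι ι F) = 0 := by
          have := congrArg (fun M => s⁻¹ • M) hst'
          simp only [smul_smul, inv_mul_cancel₀ hs, one_smul, smul_zero] at this
          exact this
        exact one_ne_zero h1
      exact ⟨this, rfl⟩
    · exfalso
      apply hns (-(t⁻¹ * s))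
      have := congrArg (fun M => t⁻¹ • M) hst'
      simp only [smul_add, smul_smul, inv_mul_cancel₀ ht, one_smul, smul_zero] at this
      rw [neg_smul]; exact eq_neg_of_add_eq_zero_right this
  have hspan := hli.span_eq_top_of_card_eq_finrank' (by rw [Fintype.card_fin, hK.finrank_eq])
  have hz' : (⟨z, hz⟩ : K) ∈ Submodule.span F (Set.range ![(1 : K), y']) := by rw [hspan]; trivial
  rw [Submodule.mem_span_range_iff_exists_fun] at hz'
  obtain ⟨c, hc⟩ := hz'
  rw [Fin.sum_univ_two] at hc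
  refine ⟨c 0, c 1, ?_⟩
  have := congrArg Subtype.val hc
  simpa using this.symm

end Field2

section FindJ

variable {ι : Type} [Fintype ι] [DecidableEq ι] {f : (ι → F) → (ι → F) → F} [Fintype F]

/-- an element `j` with `j² = -1` and adjoint `-j` -/
theorem exists_sq_neg_one [Nonempty ι] (hq : Fintype.card F = 3) (hf : IsSymplecticForm f)
    (K : Subalgebra F (Matrix ι ι F)) (hK : IsFieldSubalgebra 2 K)
    (hac : IsAdjointClosedFor f K) (hnsa : ¬ IsSelfAdjointFor f K) :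
    ∃ j ∈ K, j * j = -1 ∧ AdjRel f j (-j) ∧ ∀ c : F, j ≠ c • 1 := by
  have hb := hf.bilinear
  have h2 : (2 : F) ≠ 0 := two_ne_zero_of_card_three hq
  obtain ⟨k₀, hk₀K, hk₀⟩ : ∃ k₀ ∈ K, ¬ AdjRel f k₀ k₀ := by
    by_contra hcon
    push Not at hcon
    exact hnsa (fun k hk u v => hcon k hk u v)
  obtain ⟨k₀', hk₀'K, hadj₀⟩ := hac k₀ hk₀K
  have hadj₀ : AdjRel f k₀ k₀' := hadj₀
  set y : Matrix ι ι F := k₀ - k₀' with hy
  have hyK : y ∈ K := K.sub_mem hk₀K hk₀'K
  have hyadj : AdjRel f y (-y) := by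
    have := adjRel_sub hb hadj₀ (AdjRel.symm hf hadj₀)
    rwa [show k₀' - k₀ = -y by rw [hy]; abel] at this
  have hy0 : y ≠ 0 := by
    intro h0
    have : k₀' = k₀ := (sub_eq_zero.mp h0).symm
    rw [this] at hadj₀
    exact hk₀ hadj₀
  have two_smul_ne : ∀ M : Matrix ι ι F, M = -M → M = 0 := by
    intro M hM
    have h3 : (2 : F) • M = 0 := by
      rw [two_smul]
      nth_rewrite 2 [hM]
      exact add_neg_cancel M
    rcases smul_eq_zero.mp h3 with h | h
    · exact absurd h h2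
    · exact h
  have hyns : ∀ c : F, y ≠ c • 1 := by
    intro c hc
    have h1 : AdjRel f y y := by rw [hc]; exact adjRel_scalar hb c
    have h3 : y = -y := AdjRel.uniq hf h1 hyadj
    exact hy0 (two_smul_ne y h3)
  -- `y * y` is a scalar
  obtain ⟨a, b, hab⟩ := exists_repr K hK hyK hyns (y * y) (K.mul_mem hyK hyK)
  have hyy : AdjRel f (y * y) (y * y) := by
    have := AdjRel.mul hyadj hyadj
    rwa [neg_mul_neg] at this
  have hb0 : b = 0 := by
    have h1 : AdjRel f (a • 1 + b • y) (a • 1 + b • (-y)) :=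
      AdjRel.add hb (adjRel_scalar hb a) (adjRel_smul hb b hyadj)
    rw [← hab] at h1
    have h3 : y * y = a • 1 + b • (-y) := AdjRel.uniq hf hyy h1
    have h4 : b • y = -(b • y) := by
      have : a • (1 : Matrix ι ι F) + b • y = a • 1 + b • (-y) := by rw [← hab, ← h3]
      have h5 := add_left_cancel this
      rw [smul_neg] at h5
      exact h5
    have h6 := two_smul_ne _ h4
    rcases smul_eq_zero.mp h6 with h | h
    · exact h
    · exact absurd h hy0
  rw [hb0, zero_smul, add_zero] at hab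
  -- `a = -1`
  have ha : a = -1 := by
    rcases tri_of_card_three hq a with h | h | h
    · exfalso
      rw [h, zero_smul] at hab
      obtain ⟨w, hwK, hyw⟩ := hK.inv y hyK hy0
      apply hy0
      calc y = y * (y * w) := by rw [hyw, mul_one]
        _ = (y * y) * w := by rw [mul_assoc]
        _ = 0 := by rw [hab, zero_mul]
    · exfalso
      rw [h, one_smul] at hab
      have hprod : (y - 1) * (y + 1) = 0 := by
        have : (y - 1) * (y + 1) = y * y - 1 := by
          rw [sub_mul, mul_add, mul_add, mul_one, one_mul, one_mul]; abel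
        rw [this, hab, sub_self]
      by_cases h1 : y - 1 = 0
      · apply hyns 1
        rw [one_smul]; exact sub_eq_zero.mp h1
      · obtain ⟨w, hwK, hyw⟩ := hK.inv (y - 1) (K.sub_mem hyK K.one_mem) h1
        have hc : w * (y - 1) = (y - 1) * w := hK.comm w hwK _ (K.sub_mem hyK K.one_mem)
        have h3 : y + 1 = 0 := by
          calc y + 1 = (w * (y - 1)) * (y + 1) := by rw [hc, hyw, one_mul]
            _ = w * ((y - 1) * (y + 1)) := by rw [mul_assoc]
            _ = 0 := by rw [hprod, mul_zero]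
        apply hyns (-1)
        rw [neg_smul, one_smul]
        exact eq_neg_of_add_eq_zero_left h3
    · exact h
  refine ⟨y, hyK, ?_, hyadj, hyns⟩
  rw [hab, ha, neg_smul, one_smul]

end FindJ


/-! ### the symmetric form `b u v = f u (j v)` -/

section JForm

variable {ι : Type} [Fintype ι] [DecidableEq ι] {f : (ι → F) → (ι → F) → F}

theorem f_neg_right (hb : IsBilinearForm f) (u w : ι → F) : f u (-w) = - f u w := by
  have := hb.smul_right (-1) u w
  simpa using this

theorem f_neg_left (hb : IsBilinearForm f) (u w : ι → F) : f (-u) w = - f u w := by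
  have := hb.smul_left (-1) u w
  simpa using this

theorem f_sub_left (hb : IsBilinearForm f) (u v w : ι → F) : f (u - v) w = f u w - f v w := by
  rw [sub_eq_add_neg, hb.add_left, f_neg_left hb, ← sub_eq_add_neg]

theorem jj_apply {j : Matrix ι ι F} (hjj : j * j = -1) (v : ι → F) : j *ᵥ (j *ᵥ v) = -v := by
  rw [Matrix.mulVec_mulVec, hjj, Matrix.neg_mulVec, Matrix.one_mulVec]

theorem j_ne_zero {j : Matrix ι ι F} (hjj : j * j = -1) {v : ι → F} (hv : v ≠ 0) : j *ᵥ v ≠ 0 := by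
  intro h
  apply hv
  have := jj_apply hjj v
  rw [h, Matrix.mulVec_zero] at this
  exact neg_eq_zero.mp this.symm

theorem f_j_left (hf : IsSymplecticForm f) {j : Matrix ι ι F} (hadj : AdjRel f j (-j)) (u v : ι → F) :
    f (j *ᵥ u) v = - f u (j *ᵥ v) := by
  rw [hadj u v, Matrix.neg_mulVec, f_neg_right hf.bilinear]

theorem f_j_j (hf : IsSymplecticForm f) {j : Matrix ι ι F} (hjj : j * j = -1) (hadj : AdjRel f j (-j))
    (u v : ι → F) : f (j *ᵥ u) (j *ᵥ v) = f u v := by
  rw [f_j_left hf hadj, jj_apply hjj, f_neg_right hf.bilinear, neg_neg]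

theorem b_symm (hf : IsSymplecticForm f) {j : Matrix ι ι F} (hadj : AdjRel f j (-j)) (u v : ι → F) :
    f u (j *ᵥ v) = f v (j *ᵥ u) := by
  rw [hf.skew v, f_j_left hf hadj, neg_neg]

theorem b_polar (hf : IsSymplecticForm f) {j : Matrix ι ι F} (hadj : AdjRel f j (-j)) (p q : ι → F) :
    f (p + q) (j *ᵥ (p + q)) = f p (j *ᵥ p) + 2 * f p (j *ᵥ q) + f q (j *ᵥ q) := by
  rw [Matrix.mulVec_add, hf.bilinear.add_left, hf.bilinear.add_right, hf.bilinear.add_right,
    b_symm hf hadj q p]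
  ring

theorem b_diag_add (hf : IsSymplecticForm f) {j : Matrix ι ι F} (hjj : j * j = -1) (hadj : AdjRel f j (-j))
    (u : ι → F) : f (u + j *ᵥ u) (j *ᵥ (u + j *ᵥ u)) = 2 * f u (j *ᵥ u) := by
  rw [b_polar hf hadj, f_j_j hf hjj hadj, jj_apply hjj, f_neg_right hf.bilinear, hf.alternating]
  ring

/-- a vector with `b v v ≠ 0` in a `j`-stable relatively non-degenerate nonzero subspace -/
theorem exists_diag_ne_zero (hf : IsSymplecticForm f) {j : Matrix ι ι F} (hjj : j * j = -1)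
    (hadj : AdjRel f j (-j)) (h2 : (2 : F) ≠ 0) (S : Submodule F (ι → F))
    (hSj : ∀ x ∈ S, j *ᵥ x ∈ S) (hSnd : ∀ z ∈ S, z ≠ 0 → ∃ x ∈ S, f x z ≠ 0)
    (hS : ∃ z ∈ S, z ≠ 0) : ∃ v ∈ S, f v (j *ᵥ v) ≠ 0 := by
  by_contra hcon
  push Not at hcon
  have hall : ∀ p ∈ S, ∀ q ∈ S, f p (j *ᵥ q) = 0 := by
    intro p hp q hq
    have h1 := b_polar hf hadj p q
    rw [hcon p hp, hcon q hq, hcon (p + q) (S.add_mem hp hq)] at h1
    have h3 : 2 * f p (j *ᵥ q) = 0 := by linear_combination -h1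
    rcases mul_eq_zero.mp h3 with h | h
    · exact absurd h h2
    · exact h
  obtain ⟨z, hzS, hz0⟩ := hS
  obtain ⟨x, hxS, hx⟩ := hSnd (j *ᵥ z) (hSj z hzS) (j_ne_zero hjj hz0)
  exact hx (hall x hxS z hzS)

/-- normalise `b a a = -1` over `F_3` -/
theorem exists_norm [Fintype F] (hq : Fintype.card F = 3) (hf : IsSymplecticForm f) {j : Matrix ι ι F}
    (hjj : j * j = -1) (hadj : AdjRel f j (-j)) (v : ι → F) (hv : f v (j *ᵥ v) ≠ 0) :
    ∃ a, f a (j *ᵥ a) = -1 ∧ (a = v ∨ a = v + j *ᵥ v) := by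
  rcases tri_of_card_three hq (f v (j *ᵥ v)) with h | h | h
  · exact absurd h hv
  · refine ⟨v + j *ᵥ v, ?_, Or.inr rfl⟩
    rw [b_diag_add hf hjj hadj, h, mul_one]
    exact two_eq_neg_one_of_card_three hq
  · exact ⟨v, h, Or.inl rfl⟩

end JForm


/-! ### an adapted symplectic basis -/

section Basis

variable [Fintype F] {f : (Fin 2 ⊕ Fin 2 → F) → (Fin 2 ⊕ Fin 2 → F) → F}

theorem exists_symp_basis (hq : Fintype.card F = 3) (hf : IsSymplecticForm f)
    {j : Matrix (Fin 2 ⊕ Fin 2) (Fin 2 ⊕ Fin 2) F} (hjj : j * j = -1) (hadj : AdjRel f j (-j)) :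
    ∃ a : Fin 2 → (Fin 2 ⊕ Fin 2 → F), (∀ i i', f (a i) (a i') = 0) ∧
      (∀ i i', f (a i) (j *ᵥ a i') = if i = i' then -1 else 0) := by
  have hb := hf.bilinear
  have h2 := two_ne_zero_of_card_three hq
  -- first vector
  obtain ⟨v₀, -, hv₀⟩ := exists_diag_ne_zero hf hjj hadj h2 ⊤ (fun _ _ => Submodule.mem_top)
    (fun z _ hz => by obtain ⟨x, hx⟩ := (hf.nondegenerate z hz).1; exact ⟨x, Submodule.mem_top, hx⟩)
    ⟨Pi.single (Sum.inl 0) 1, Submodule.mem_top, by
      intro h; have := congrFun h (Sum.inl 0); simp at this⟩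
  obtain ⟨a₀, ha₀, -⟩ := exists_norm hq hf hjj hadj v₀ hv₀
  have h12 : f a₀ (j *ᵥ a₀) = -1 := ha₀
  have h21 : f (j *ᵥ a₀) a₀ = 1 := by rw [hf.skew, h12, neg_neg]
  -- the orthogonal complement
  let S : Submodule F (Fin 2 ⊕ Fin 2 → F) :=
    { carrier := {x | f x a₀ = 0 ∧ f x (j *ᵥ a₀) = 0}
      add_mem' := by
        intro x y hx hy
        exact ⟨by rw [hb.add_left, hx.1, hy.1, add_zero], by rw [hb.add_left, hx.2, hy.2, add_zero]⟩
      zero_mem' := by
        have h0 : ∀ w, f 0 w = 0 := by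
          intro w
          have := hb.smul_left 0 0 w
          simpa using this
        exact ⟨h0 _, h0 _⟩
      smul_mem' := by
        intro c x hx
        exact ⟨by rw [hb.smul_left, hx.1, mul_zero], by rw [hb.smul_left, hx.2, mul_zero]⟩ }
  have hSmem : ∀ x, x ∈ S ↔ f x a₀ = 0 ∧ f x (j *ᵥ a₀) = 0 := fun x => Iff.rfl
  -- j-stable
  have hSj : ∀ x ∈ S, j *ᵥ x ∈ S := by
    intro x hx
    rw [hSmem] at hx ⊢
    constructor
    · rw [f_j_left hf hadj, hx.2, neg_zero]
    · rw [f_j_j hf hjj hadj, hx.1]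
  -- the projection
  let π : (Fin 2 ⊕ Fin 2 → F) → (Fin 2 ⊕ Fin 2 → F) :=
    fun x => x + f x (j *ᵥ a₀) • a₀ - f x a₀ • (j *ᵥ a₀)
  have hπS : ∀ x, π x ∈ S := by
    intro x
    rw [hSmem]
    constructor
    · show f (x + f x (j *ᵥ a₀) • a₀ - f x a₀ • (j *ᵥ a₀)) a₀ = 0
      rw [f_sub_left hb, hb.add_left, hb.smul_left, hb.smul_left, hf.alternating, h21]; ring
    · show f (x + f x (j *ᵥ a₀) • a₀ - f x a₀ • (j *ᵥ a₀)) (j *ᵥ a₀) = 0
      rw [f_sub_left hb, hb.add_left, hb.smul_left, hb.smul_left, hf.alternating, h12]; ring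
  have hπf : ∀ x, ∀ z ∈ S, f (π x) z = f x z := by
    intro x z hz
    rw [hSmem] at hz
    show f (x + f x (j *ᵥ a₀) • a₀ - f x a₀ • (j *ᵥ a₀)) z = f x z
    have h1 : f a₀ z = 0 := by rw [hf.skew, hz.1, neg_zero]
    have h3 : f (j *ᵥ a₀) z = 0 := by rw [hf.skew, hz.2, neg_zero]
    rw [f_sub_left hb, hb.add_left, hb.smul_left, hb.smul_left, h1, h3]; ring
  have hSnd : ∀ z ∈ S, z ≠ 0 → ∃ x ∈ S, f x z ≠ 0 := by
    intro z hz hz0
    obtain ⟨x, hx⟩ := (hf.nondegenerate z hz0).1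
    exact ⟨π x, hπS x, by rw [hπf x z hz]; exact hx⟩
  have hSne : ∃ z ∈ S, z ≠ 0 := by
    by_contra hcon
    push Not at hcon
    have hπ0 : ∀ x, π x = 0 := fun x => hcon (π x) (hπS x)
    have hsurj : Function.Surjective (fun p : F × F => p.1 • a₀ + p.2 • (j *ᵥ a₀)) := by
      intro x
      refine ⟨(- f x (j *ᵥ a₀), f x a₀), ?_⟩
      have h3 : x + f x (j *ᵥ a₀) • a₀ - f x a₀ • (j *ᵥ a₀) = 0 := hπ0 x
      show (- f x (j *ᵥ a₀)) • a₀ + f x a₀ • (j *ᵥ a₀) = x
      calc (- f x (j *ᵥ a₀)) • a₀ + f x a₀ • (j *ᵥ a₀)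
          = x - (x + f x (j *ᵥ a₀) • a₀ - f x a₀ • (j *ᵥ a₀)) := by rw [neg_smul]; abel
        _ = x := by rw [h3, sub_zero]
    have := Fintype.card_le_of_surjective _ hsurj
    simp [hq] at this
  -- second vector
  obtain ⟨v₁, hv₁S, hv₁⟩ := exists_diag_ne_zero hf hjj hadj h2 S hSj hSnd hSne
  obtain ⟨a₁, ha₁, ha₁'⟩ := exists_norm hq hf hjj hadj v₁ hv₁
  have ha₁S : a₁ ∈ S := by
    rcases ha₁' with h | h
    · rw [h]; exact hv₁S
    · rw [h]; exact S.add_mem hv₁S (hSj _ hv₁S)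
  rw [hSmem] at ha₁S
  obtain ⟨h10, h1e⟩ := ha₁S
  have h01 : f a₀ a₁ = 0 := by rw [hf.skew, h10, neg_zero]
  have hb01 : f a₀ (j *ᵥ a₁) = 0 := by rw [b_symm hf hadj]; exact h1e
  refine ⟨![a₀, a₁], ?_, ?_⟩
  · intro i i'
    fin_cases i <;> fin_cases i' <;> simp [hf.alternating, h01, h10]
  · intro i i'
    fin_cases i <;> fin_cases i' <;> simp [ha₀, ha₁, hb01, h1e]

end Basis


/-! ### the change of basis -/

section ChangeOfBasis

theorem exists_P_of_basis (m : ℕ) {j : Matrix (Fin m ⊕ Fin m) (Fin m ⊕ Fin m) F} (hjj : j * j = -1)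
    (hadj : AdjRel (sympForm m F) j (-j)) (a : Fin m → (Fin m ⊕ Fin m → F))
    (hfa : ∀ i i', sympForm m F (a i) (a i') = 0)
    (hba : ∀ i i', sympForm m F (a i) (j *ᵥ a i') = if i = i' then -1 else 0) :
    ∃ P : GL (Fin m ⊕ Fin m) F, P ∈ spGL m F ∧
      j * (P : Matrix (Fin m ⊕ Fin m) (Fin m ⊕ Fin m) F) =
        (P : Matrix (Fin m ⊕ Fin m) (Fin m ⊕ Fin m) F) * Matrix.J (Fin m) F := by
  have hf := isSymplecticForm_sympForm_std (F := F) m
  let cols : Fin m ⊕ Fin m → (Fin m ⊕ Fin m → F) := Sum.elim a (fun i => j *ᵥ a i)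
  let P : Matrix (Fin m ⊕ Fin m) (Fin m ⊕ Fin m) F := Matrix.of (fun r k => cols k r)
  have hgram : ∀ k l, (Pᵀ * Matrix.J (Fin m) F * P) k l = sympForm m F (cols k) (cols l) := by
    intro k l
    rw [Matrix.mul_assoc]
    rfl
  have hPJP : Pᵀ * Matrix.J (Fin m) F * P = Matrix.J (Fin m) F := by
    ext k l
    rw [hgram]
    rcases k with i | i <;> rcases l with i' | i'
    · show sympForm m F (a i) (a i') = _
      rw [hfa]; simp [Matrix.J]
    · show sympForm m F (a i) (j *ᵥ a i') = _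
      rw [hba]; simp [Matrix.J, Matrix.one_apply]
      split_ifs <;> simp
    · show sympForm m F (j *ᵥ a i) (a i') = _
      rw [f_j_left hf hadj, hba]; simp [Matrix.J, Matrix.one_apply]
      split_ifs <;> simp
    · show sympForm m F (j *ᵥ a i) (j *ᵥ a i') = _
      rw [f_j_j hf hjj hadj, hfa]; simp [Matrix.J]
  have hQP : (-(Matrix.J (Fin m) F) * Pᵀ * Matrix.J (Fin m) F) * P = 1 := by
    rw [Matrix.mul_assoc, Matrix.mul_assoc, ← Matrix.mul_assoc Pᵀ, hPJP, Matrix.neg_mul, Matrix.J_squared,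
      neg_neg]
  have hPQ : P * (-(Matrix.J (Fin m) F) * Pᵀ * Matrix.J (Fin m) F) = 1 := mul_eq_one_comm.mp hQP
  refine ⟨⟨P, _, hPQ, hQP⟩, ?_, ?_⟩
  · intro u v
    show sympForm m F (P *ᵥ u) (P *ᵥ v) = sympForm m F u v
    unfold sympForm
    rw [← Matrix.vecMul_transpose, ← Matrix.dotProduct_mulVec, Matrix.mulVec_mulVec, Matrix.mulVec_mulVec, hPJP]
  · show j * P = P * Matrix.J (Fin m) F
    have h1 : ∀ r k, (j * P) r k = (j *ᵥ cols k) r := fun r k => rfl
    ext r k
    rw [h1]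
    rcases k with i | i
    · show (j *ᵥ a i) r = _
      simp [Matrix.mul_apply, Fintype.sum_sum_type, Matrix.J, Matrix.one_apply, P, cols]
    · show (j *ᵥ (j *ᵥ a i)) r = _
      rw [jj_apply hjj]
      simp [Matrix.mul_apply, Fintype.sum_sum_type, Matrix.J, Matrix.one_apply, P, cols]

theorem mem_adjoin_J_iff (m : ℕ) (x : Matrix (Fin m ⊕ Fin m) (Fin m ⊕ Fin m) F) :
    x ∈ Algebra.adjoin F {Matrix.J (Fin m) F} ↔ ∃ α β : F, x = α • 1 + β • Matrix.J (Fin m) F := by
  constructor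
  · intro hx
    induction hx using Algebra.adjoin_induction with
    | mem x hx =>
      rw [Set.mem_singleton_iff] at hx
      exact ⟨0, 1, by rw [hx]; simp⟩
    | algebraMap r => exact ⟨r, 0, by rw [Algebra.algebraMap_eq_smul_one]; simp⟩
    | add x y _ _ hx hy =>
      obtain ⟨α, β, rfl⟩ := hx
      obtain ⟨α', β', rfl⟩ := hy
      exact ⟨α + α', β + β', by rw [add_smul, add_smul]; abel⟩
    | mul x y _ _ hx hy =>
      obtain ⟨α, β, rfl⟩ := hx
      obtain ⟨α', β', rfl⟩ := hy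
      refine ⟨α * α' - β * β', α * β' + β * α', ?_⟩
      rw [add_mul, mul_add, mul_add]
      simp only [smul_mul_assoc, mul_smul_comm, one_mul, mul_one, Matrix.J_squared]
      module
  · rintro ⟨α, β, rfl⟩
    exact Subalgebra.add_mem _ (Subalgebra.smul_mem _ (Subalgebra.one_mem _) α)
      (Subalgebra.smul_mem _ (Algebra.subset_adjoin (Set.mem_singleton _)) β)

end ChangeOfBasis

/-! ### the keystone -/

theorem exists_conj_to_adjoin_J_of_card_three [Fintype F] (hq : Fintype.card F = 3)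
    (K : Subalgebra F (Matrix (Fin 2 ⊕ Fin 2) (Fin 2 ⊕ Fin 2) F)) (hK : IsFieldSubalgebra 2 K)
    (hac : IsAdjointClosedFor (sympForm 2 F) K) (hnsa : ¬ IsSelfAdjointFor (sympForm 2 F) K) :
    ∃ g ∈ spGL 2 F, ∀ k : Matrix (Fin 2 ⊕ Fin 2) (Fin 2 ⊕ Fin 2) F,
      k ∈ K ↔ (g : Matrix (Fin 2 ⊕ Fin 2) (Fin 2 ⊕ Fin 2) F) * k *
        ((g⁻¹ : GL (Fin 2 ⊕ Fin 2) F) : Matrix (Fin 2 ⊕ Fin 2) (Fin 2 ⊕ Fin 2) F) ∈
          Algebra.adjoin F {Matrix.J (Fin 2) F} := by
  have hf := isSymplecticForm_sympForm_std (F := F) 2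
  obtain ⟨j, hjK, hjj, hadj, hns⟩ := exists_sq_neg_one hq hf K hK hac hnsa
  obtain ⟨a, hfa, hba⟩ := exists_symp_basis hq hf hjj hadj
  obtain ⟨P, hP, hjP⟩ := exists_P_of_basis 2 hjj hadj a hfa hba
  have hPi : ((P⁻¹ : GL (Fin 2 ⊕ Fin 2) F) : Matrix (Fin 2 ⊕ Fin 2) (Fin 2 ⊕ Fin 2) F) *
      (P : Matrix (Fin 2 ⊕ Fin 2) (Fin 2 ⊕ Fin 2) F) = 1 := by
    rw [← Units.val_mul, inv_mul_cancel, Units.val_one]
  have hPi' : (P : Matrix (Fin 2 ⊕ Fin 2) (Fin 2 ⊕ Fin 2) F) *
      ((P⁻¹ : GL (Fin 2 ⊕ Fin 2) F) : Matrix (Fin 2 ⊕ Fin 2) (Fin 2 ⊕ Fin 2) F) = 1 := by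
    rw [← Units.val_mul, mul_inv_cancel, Units.val_one]
  have hconj : ((P⁻¹ : GL (Fin 2 ⊕ Fin 2) F) : Matrix (Fin 2 ⊕ Fin 2) (Fin 2 ⊕ Fin 2) F) * j *
      (P : Matrix (Fin 2 ⊕ Fin 2) (Fin 2 ⊕ Fin 2) F) = Matrix.J (Fin 2) F := by
    rw [Matrix.mul_assoc, hjP, ← Matrix.mul_assoc, hPi, Matrix.one_mul]
  have hconj' : (P : Matrix (Fin 2 ⊕ Fin 2) (Fin 2 ⊕ Fin 2) F) * Matrix.J (Fin 2) F *
      ((P⁻¹ : GL (Fin 2 ⊕ Fin 2) F) : Matrix (Fin 2 ⊕ Fin 2) (Fin 2 ⊕ Fin 2) F) = j := by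
    rw [← hjP, Matrix.mul_assoc, hPi', Matrix.mul_one]
  refine ⟨P⁻¹, (spGL 2 F).inv_mem hP, ?_⟩
  intro k
  rw [inv_inv, mem_adjoin_J_iff]
  constructor
  · intro hk
    obtain ⟨α, β, rfl⟩ := exists_repr K hK hjK hns k hk
    refine ⟨α, β, ?_⟩
    rw [Matrix.mul_add, Matrix.add_mul, Matrix.mul_smul, Matrix.smul_mul, Matrix.mul_one, hPi, Matrix.mul_smul,
      Matrix.smul_mul, hconj]
  · rintro ⟨α, β, h⟩
    have hk : k = α • 1 + β • j := by
      have h1 : k = (P : Matrix (Fin 2 ⊕ Fin 2) (Fin 2 ⊕ Fin 2) F) *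
          (((P⁻¹ : GL (Fin 2 ⊕ Fin 2) F) : Matrix (Fin 2 ⊕ Fin 2) (Fin 2 ⊕ Fin 2) F) * k *
            (P : Matrix (Fin 2 ⊕ Fin 2) (Fin 2 ⊕ Fin 2) F)) *
          ((P⁻¹ : GL (Fin 2 ⊕ Fin 2) F) : Matrix (Fin 2 ⊕ Fin 2) (Fin 2 ⊕ Fin 2) F) := by
        rw [← Matrix.mul_assoc, ← Matrix.mul_assoc, hPi', Matrix.one_mul, Matrix.mul_assoc, hPi', Matrix.mul_one]
      rw [h1, h, Matrix.mul_add, Matrix.add_mul, Matrix.mul_smul, Matrix.smul_mul, Matrix.mul_one, hPi',
        Matrix.mul_smul, Matrix.smul_mul, hconj']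
    rw [hk]
    exact K.add_mem (K.smul_mem K.one_mem α) (K.smul_mem hjK β)

end Cfsg.Agent.Lib.Helper38.SpMax
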