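import Mathlib
import Cfsg.Agent.Lib.Helper69.StNDefs

/-!
# K-StN pack (S2401), leaf E4 (keystone 240115): the comparison map is injective on `Upos X`

One root at a time.  `e4N X k i0` is generated by the root elements `X i j t`, `i < j`, with
`k < j - i`, or `k = j - i` and `i0 ≤ i`.  An element of `e4N X k i0` is `X a b t * g'` with
`(a, b) = (i0, i0 + k)` and `g' ∈ e4N X k (i0 + 1)`; the `(a, b)` entry of its image is `t`.
-/

set_option autoImplicit false
set_option linter.unusedSectionVars false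
set_option linter.unusedVariables false

namespace Cfsg.Agent.Lib.Helper38.StN

open Cfsg.Agent.Lib.Helper69.StN Matrix

variable {n : ℕ} {K : Type*} [Field K] {S : Type*} [Group S] {X : Fin n → Fin n → K → S}

/-- the root `(i, j)` is at or above the threshold `(k, i0)` -/
def e4Above (k i0 : ℕ) (i j : Fin n) : Prop :=
  i < j ∧ (k < j.val - i.val ∨ (k = j.val - i.val ∧ i0 ≤ i.val))

/-- the subgroup generated by the root elements above the threshold -/
def e4N (X : Fin n → Fin n → K → S) (k i0 : ℕ) : Subgroup S :=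
  Subgroup.closure {g | ∃ i j t, e4Above k i0 i j ∧ g = X i j t}

theorem e4_X_mem (X : Fin n → Fin n → K → S) {k i0 : ℕ} {i j : Fin n} (h : e4Above k i0 i j)
    (t : K) : X i j t ∈ e4N X k i0 := Subgroup.subset_closure ⟨i, j, t, h, rfl⟩

/-- `X a b u` normalises the next subgroup -/
theorem e4_conj_mem (hX : IsSt X) {k i0 : ℕ} {a b : Fin n} (hab : a < b)
    (hk : b.val - a.val = k) (ha : a.val = i0) (u : K) :
    ∀ g ∈ e4N X k (i0 + 1), X a b u * g * (X a b u)⁻¹ ∈ e4N X k (i0 + 1) := by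
  intro g hg
  have hab' : a.val < b.val := hab
  refine Subgroup.closure_induction
    (p := fun g _ => X a b u * g * (X a b u)⁻¹ ∈ e4N X k (i0 + 1)) ?_ ?_ ?_ ?_ hg
  · rintro x ⟨i, j, s, ⟨hij, hthr⟩, rfl⟩
    have hij' : i.val < j.val := hij
    by_cases h1 : b = i
    · subst h1
      have h := hX.comm3 a b j hab.ne hij.ne (fun e => by rw [e] at hab'; omega) u s
      have h2 : X a b u * X b j s * (X a b u)⁻¹ = X a j (u * s) * X b j s :=
        mul_inv_eq_iff_eq_mul.mp h
      rw [h2]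
      refine (e4N X k (i0 + 1)).mul_mem (e4_X_mem X ⟨?_, ?_⟩ _) (e4_X_mem X ⟨hij, hthr⟩ _)
      · exact lt_trans hab hij
      · left; omega
    · by_cases h2 : a = j
      · subst h2
        have h := hX.comm3 i a b hij.ne hab.ne (fun e => by rw [e] at hij'; omega) s u
        have h3 : X a b u * X i a s * (X a b u)⁻¹ = (X i b (s * u))⁻¹ * X i a s := by
          rw [← h]; group
        rw [h3]
        refine (e4N X k (i0 + 1)).mul_mem
          ((e4N X k (i0 + 1)).inv_mem (e4_X_mem X ⟨?_, ?_⟩ _)) (e4_X_mem X ⟨hij, hthr⟩ _)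
        · exact lt_trans hij hab
        · left; omega
      · have h := hX.comm a b i j hab.ne hij.ne h2 h1 u s
        rw [h, mul_inv_cancel_right]
        exact e4_X_mem X ⟨hij, hthr⟩ _
  · simp
  · intro x y _ _ hx hy
    have e : X a b u * (x * y) * (X a b u)⁻¹ =
        (X a b u * x * (X a b u)⁻¹) * (X a b u * y * (X a b u)⁻¹) := by group
    rw [e]
    exact (e4N X k (i0 + 1)).mul_mem hx hy
  · intro x _ hx
    have e : X a b u * x⁻¹ * (X a b u)⁻¹ = (X a b u * x * (X a b u)⁻¹)⁻¹ := by group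
    rw [e]
    exact (e4N X k (i0 + 1)).inv_mem hx

theorem e4_conj_mem' (hX : IsSt X) {k i0 : ℕ} {a b : Fin n} (hab : a < b)
    (hk : b.val - a.val = k) (ha : a.val = i0) (u : K) (g : S) (hg : g ∈ e4N X k (i0 + 1)) :
    (X a b u)⁻¹ * g * X a b u ∈ e4N X k (i0 + 1) := by
  have h := e4_conj_mem hX hab hk ha (-u) g hg
  rw [← hX.inv hab.ne, inv_inv] at h
  exact h

/-- the decomposition `g = X a b t * g'` -/
theorem e4_decomp (hX : IsSt X) {k i0 : ℕ} {a b : Fin n} (hab : a < b)
    (hk : b.val - a.val = k) (ha : a.val = i0) :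
    ∀ g ∈ e4N X k i0, ∃ t : K, ∃ g' ∈ e4N X k (i0 + 1), g = X a b t * g' := by
  intro g hg
  have hab' : a.val < b.val := hab
  refine Subgroup.closure_induction
    (p := fun g _ => ∃ t : K, ∃ g' ∈ e4N X k (i0 + 1), g = X a b t * g') ?_ ?_ ?_ ?_ hg
  · rintro x ⟨i, j, s, ⟨hij, hthr⟩, rfl⟩
    have hij' : i.val < j.val := hij
    by_cases h : i = a ∧ j = b
    · obtain ⟨rfl, rfl⟩ := h
      exact ⟨s, 1, (e4N X k (i0 + 1)).one_mem, (mul_one _).symm⟩
    · refine ⟨0, X i j s, e4_X_mem X ⟨hij, ?_⟩ _, by rw [hX.zero hab.ne, one_mul]⟩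
      rcases hthr with h1 | ⟨h1, h2⟩
      · left; exact h1
      · right
        refine ⟨h1, ?_⟩
        by_contra hcon
        apply h
        constructor
        · apply Fin.ext; omega
        · apply Fin.ext; omega
  · exact ⟨0, 1, (e4N X k (i0 + 1)).one_mem, by rw [hX.zero hab.ne, one_mul]⟩
  · rintro x y _ _ ⟨t, g', hg', rfl⟩ ⟨u, h', hh', rfl⟩
    refine ⟨t + u, (X a b u)⁻¹ * g' * X a b u * h',
      (e4N X k (i0 + 1)).mul_mem (e4_conj_mem' hX hab hk ha u g' hg') hh', ?_⟩
    rw [← hX.add a b hab.ne]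
    group
  · rintro x _ ⟨t, g', hg', rfl⟩
    refine ⟨-t, X a b t * g'⁻¹ * (X a b t)⁻¹,
      e4_conj_mem hX hab hk ha t g'⁻¹ ((e4N X k (i0 + 1)).inv_mem hg'), ?_⟩
    rw [← hX.inv hab.ne]
    group

/-- the matrices which are upper unitriangular with zero entries below the threshold -/
def e4Q (k i0 : ℕ) (M : Matrix (Fin n) (Fin n) K) : Prop :=
  (∀ i j : Fin n, j < i → M i j = 0) ∧ (∀ i, M i i = 1) ∧
    ∀ i j : Fin n, i < j → ¬ (k < j.val - i.val ∨ (k = j.val - i.val ∧ i0 ≤ i.val)) → M i j = 0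

theorem e4Q_one (k i0 : ℕ) : e4Q k i0 (1 : Matrix (Fin n) (Fin n) K) :=
  ⟨fun i j h => Matrix.one_apply_ne h.ne', fun i => Matrix.one_apply_eq i,
    fun i j h _ => Matrix.one_apply_ne h.ne⟩

theorem e4Q_mul {k i0 : ℕ} {M M' : Matrix (Fin n) (Fin n) K} (h : e4Q k i0 M)
    (h' : e4Q k i0 M') : e4Q k i0 (M * M') := by
  obtain ⟨hl, hd, hu⟩ := h
  obtain ⟨hl', hd', hu'⟩ := h'
  refine ⟨?_, ?_, ?_⟩
  · intro i j hji
    rw [Matrix.mul_apply]
    refine Finset.sum_eq_zero fun l _ => ?_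
    by_cases h1 : l < i
    · rw [hl i l h1, zero_mul]
    · have : j < l := lt_of_lt_of_le hji (not_lt.mp h1)
      rw [hl' l j this, mul_zero]
  · intro i
    rw [Matrix.mul_apply, Finset.sum_eq_single i]
    · rw [hd, hd', one_mul]
    · intro l _ hli
      rcases lt_or_gt_of_ne hli with h1 | h1
      · rw [hl i l h1, zero_mul]
      · rw [hl' l i h1, mul_zero]
    · intro hi; exact absurd (Finset.mem_univ i) hi
  · intro i j hij hthr
    have hij' : i.val < j.val := hij
    rw [Matrix.mul_apply]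
    refine Finset.sum_eq_zero fun l _ => ?_
    by_cases h1 : l < i
    · rw [hl i l h1, zero_mul]
    · by_cases h2 : l = i
      · subst h2
        rw [hu' l j hij hthr, mul_zero]
      · have h3 : i < l := lt_of_le_of_ne (not_lt.mp h1) (Ne.symm h2)
        have h3' : i.val < l.val := h3
        by_cases h4 : l < j
        · have h4' : l.val < j.val := h4
          rw [hu i l h3 (by omega), zero_mul]
        · by_cases h5 : l = j
          · subst h5
            rw [hu i l hij hthr, zero_mul]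
          · have h6 : j < l := lt_of_le_of_ne (not_lt.mp h4) (Ne.symm h5)
            rw [hl' l j h6, mul_zero]

theorem e4Q_transvection {k i0 : ℕ} {i j : Fin n} (h : e4Above k i0 i j) (t : K) :
    e4Q k i0 (Matrix.transvection i j t) := by
  obtain ⟨hij, hthr⟩ := h
  have hij' : i.val < j.val := hij
  unfold Matrix.transvection
  refine ⟨?_, ?_, ?_⟩
  · intro r c hcr
    have hcr' : c.val < r.val := hcr
    rw [Matrix.add_apply, Matrix.one_apply_ne hcr.ne', zero_add, Matrix.single_apply_of_ne]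
    rintro ⟨rfl, rfl⟩
    omega
  · intro r
    rw [Matrix.add_apply, Matrix.one_apply_eq, Matrix.single_apply_of_ne, add_zero]
    rintro ⟨rfl, h2⟩
    rw [h2] at hij'
    omega
  · intro r c hrc hn
    rw [Matrix.add_apply, Matrix.one_apply_ne hrc.ne, zero_add, Matrix.single_apply_of_ne]
    rintro ⟨rfl, rfl⟩
    exact hn hthr

theorem e4_phi_mem (hX : IsSt X) {φ : S →* SpecialLinearGroup (Fin n) K} (hφ : IsPhi X φ)
    (k i0 : ℕ) : ∀ g ∈ e4N X k i0,
      e4Q k i0 ((φ g : SpecialLinearGroup (Fin n) K) : Matrix (Fin n) (Fin n) K) := by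
  intro g hg
  refine Subgroup.closure_induction''
    (p := fun g _ => e4Q k i0 ((φ g : SpecialLinearGroup (Fin n) K) : Matrix (Fin n) (Fin n) K))
    ?_ ?_ ?_ ?_ hg
  · rintro x ⟨i, j, t, h, rfl⟩
    rw [hφ i j h.1.ne t]
    exact e4Q_transvection h t
  · rintro x ⟨i, j, t, h, rfl⟩
    rw [hX.inv h.1.ne, hφ i j h.1.ne (-t)]
    exact e4Q_transvection h (-t)
  · rw [map_one]
    exact e4Q_one k i0
  · intro x y _ _ hx hy
    rw [map_mul, Matrix.SpecialLinearGroup.coe_mul]
    exact e4Q_mul hx hy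

/-- one step: from the threshold `(k, i0)` to `(k, i0 + 1)` -/
theorem e4_step (hX : IsSt X) {φ : S →* SpecialLinearGroup (Fin n) K} (hφ : IsPhi X φ)
    (k i0 : ℕ) : ∀ g ∈ e4N X k i0, φ g = 1 → g ∈ e4N X k (i0 + 1) := by
  intro g hg h1
  by_cases hex : ∃ a b : Fin n, a < b ∧ b.val - a.val = k ∧ a.val = i0
  · obtain ⟨a, b, hab, hk, ha⟩ := hex
    obtain ⟨t, g', hg', rfl⟩ := e4_decomp hX hab hk ha g hg
    obtain ⟨hl, hd, hu⟩ := e4_phi_mem hX hφ k (i0 + 1) g' hg'
    have hab' : a.val < b.val := hab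
    have e : ((φ (X a b t * g') : SpecialLinearGroup (Fin n) K) : Matrix (Fin n) (Fin n) K) a b
        = t := by
      rw [map_mul, Matrix.SpecialLinearGroup.coe_mul, hφ a b hab.ne t]
      rw [show ((Matrix.SpecialLinearGroup.transvection hab.ne t : SpecialLinearGroup (Fin n) K) :
        Matrix (Fin n) (Fin n) K) = Matrix.transvection a b t from rfl]
      unfold Matrix.transvection
      rw [Matrix.add_mul, Matrix.one_mul, Matrix.add_apply, Matrix.single_mul_apply_same,
        hd b, hu a b hab (by omega), zero_add, mul_one]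
    rw [h1] at e
    have e0 : t = 0 := by
      rw [← e]
      exact Matrix.one_apply_ne hab.ne
    rw [e0, hX.zero hab.ne, one_mul]
    exact hg'
  · have hle : e4N X k i0 ≤ e4N X k (i0 + 1) := by
      apply Subgroup.closure_mono
      rintro x ⟨i, j, t, ⟨hij, hthr⟩, rfl⟩
      have hij' : i.val < j.val := hij
      refine ⟨i, j, t, ⟨hij, ?_⟩, rfl⟩
      rcases hthr with h2 | ⟨h2, h3⟩
      · left; exact h2
      · right
        refine ⟨h2, ?_⟩
        by_contra hcon
        exact hex ⟨i, j, hij, h2.symm, by omega⟩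
    exact hle hg

theorem e4_steps (hX : IsSt X) {φ : S →* SpecialLinearGroup (Fin n) K} (hφ : IsPhi X φ)
    (k i0 d : ℕ) : ∀ g ∈ e4N X k i0, φ g = 1 → g ∈ e4N X k (i0 + d) := by
  induction d with
  | zero => intro g hg _; exact hg
  | succ d ih =>
    intro g hg h1
    exact e4_step hX hφ k (i0 + d) g (ih g hg h1) h1

theorem e4_next (hX : IsSt X) {φ : S →* SpecialLinearGroup (Fin n) K} (hφ : IsPhi X φ)
    (k : ℕ) : ∀ g ∈ e4N X k 0, φ g = 1 → g ∈ e4N X (k + 1) 0 := by
  intro g hg h1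
  have h := e4_steps hX hφ k 0 n g hg h1
  have hle : e4N X k (0 + n) ≤ e4N X (k + 1) 0 := by
    apply Subgroup.closure_mono
    rintro x ⟨i, j, t, ⟨hij, hthr⟩, rfl⟩
    have hij' : i.val < j.val := hij
    have hi := i.2
    refine ⟨i, j, t, ⟨hij, ?_⟩, rfl⟩
    rcases hthr with h2 | ⟨h2, h3⟩
    · omega
    · omega
  exact hle h

theorem e4_all (hX : IsSt X) {φ : S →* SpecialLinearGroup (Fin n) K} (hφ : IsPhi X φ)
    (k : ℕ) : ∀ g ∈ e4N X 0 0, φ g = 1 → g ∈ e4N X k 0 := by
  induction k with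
  | zero => intro g hg _; exact hg
  | succ k ih =>
    intro g hg h1
    exact e4_next hX hφ k g (ih g hg h1) h1

/-- LEAF E4 (keystone 240115). -/
theorem Upos_inj (hX : IsSt X) {φ : S →* SpecialLinearGroup (Fin n) K} (hφ : IsPhi X φ) :
    ∀ g ∈ Upos X, φ g = 1 → g = 1 := by
  intro g hg h1
  have h0 : g ∈ e4N X 0 0 := by
    have hle : Upos X ≤ e4N X 0 0 := by
      apply Subgroup.closure_mono
      rintro x ⟨i, j, t, hij, rfl⟩
      have hij' : i.val < j.val := hij
      exact ⟨i, j, t, ⟨hij, by left; omega⟩, rfl⟩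
    exact hle hg
  have hn := e4_all hX hφ n g h0 h1
  have hbot : e4N X n 0 = ⊥ := by
    rw [e4N, Subgroup.closure_eq_bot_iff]
    rintro x ⟨i, j, t, ⟨hij, hthr⟩, rfl⟩
    have hij' : i.val < j.val := hij
    have hj := j.2
    exfalso
    rcases hthr with h2 | ⟨h2, _⟩ <;> omega
  rw [hbot] at hn
  exact Subgroup.mem_bot.mp hn

end Cfsg.Agent.Lib.Helper38.StN
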