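import Cfsg.Agent.Lib.Helper49.StOpDefs
import Cfsg.Agent.Lib.Helper56.StOpR0c
import Cfsg.Agent.Lib.Helper59.StOpR0a

/-!
# K-StOp pack (S2548), leaf F3L (keystone 254812): the rank one identity for the last simple
root `ε_{m-2} + ε_{m-1}` of `O⁺_{2m}(F)`

`sCross p l * xP p l t = xP p l t⁻¹ * h * yP p l t⁻¹` with `h` the diagonal isometry
`e_p ↦ -t⁻¹`, `e_l ↦ t⁻¹`, `f_p ↦ -t`, `f_l ↦ t`.  Everything is checked on column vectors
(`Matrix.ext_iff_mulVec`).
-/

set_option autoImplicit false
set_option linter.unusedSectionVars false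
set_option linter.unusedVariables false
set_option linter.unusedSimpArgs false

namespace Cfsg.Agent.Lib.Helper38.StOp

open Cfsg Cfsg.Agent.Lib.Helper49.StOp Matrix

variable {m : ℕ} {F : Type*} [Field F]

/-- the diagonal entries of the torus element of the rank one identity -/
def f3lD (p l : Fin m) (t : F) : OI m → F
  | Sum.inl k => if k = p then -t⁻¹ else if k = l then t⁻¹ else 1
  | Sum.inr k => if k = p then -t else if k = l then t else 1

theorem f3lD_mul (p l : Fin m) (hpl : p ≠ l) (t : F) (ht : t ≠ 0) (k : Fin m) :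
    f3lD p l t (Sum.inl k) * f3lD p l t (Sum.inr k) = 1 := by
  unfold f3lD
  by_cases h : k = p
  · subst h; simp [ht]
  · by_cases h' : k = l
    · subst h'; simp [h, ht]
    · simp [h, h']

theorem f3lD_mul_inv (p l : Fin m) (hpl : p ≠ l) (t : F) (ht : t ≠ 0) (a : OI m) :
    f3lD p l t a * f3lD p l t⁻¹ a = 1 := by
  unfold f3lD
  rcases a with k | k
  · by_cases h : k = p
    · subst h; simp [ht]
    · by_cases h' : k = l
      · subst h'; simp [h, ht]
      · simp [h, h']
  · by_cases h : k = p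
    · subst h; simp [ht]
    · by_cases h' : k = l
      · subst h'; simp [h, ht]
      · simp [h, h']

theorem quad_f3l (p l : Fin m) (hpl : p ≠ l) (t : F) (ht : t ≠ 0) (u : OI m → F) :
    Cfsg.quadFormPlus m F (Matrix.diagonal (f3lD p l t) *ᵥ u) = Cfsg.quadFormPlus m F u := by
  unfold Cfsg.quadFormPlus
  refine Finset.sum_congr rfl fun k _ => ?_
  rw [Matrix.mulVec_diagonal, Matrix.mulVec_diagonal]
  have := f3lD_mul p l hpl t ht k
  calc f3lD p l t (Sum.inl k) * u (Sum.inl k) * (f3lD p l t (Sum.inr k) * u (Sum.inr k))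
      = (f3lD p l t (Sum.inl k) * f3lD p l t (Sum.inr k)) * (u (Sum.inl k) * u (Sum.inr k)) := by
        ring
    _ = u (Sum.inl k) * u (Sum.inr k) := by rw [this, one_mul]

theorem exists_f3lH (p l : Fin m) (hpl : p ≠ l) (t : F) (ht : t ≠ 0) :
    ∃ g : OG m F, mat g = Matrix.diagonal (f3lD p l t) := by
  refine exists_of_isometry _ (Matrix.diagonal (f3lD p l t⁻¹)) ?_ ?_ (quad_f3l p l hpl t ht)
  · rw [Matrix.diagonal_mul_diagonal, ← Matrix.diagonal_one]
    congr 1
    funext a
    exact f3lD_mul_inv p l hpl t ht a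
  · rw [Matrix.diagonal_mul_diagonal, ← Matrix.diagonal_one]
    congr 1
    funext a
    rw [mul_comm]
    exact f3lD_mul_inv p l hpl t ht a

/-- the torus element -/
noncomputable def f3lH (p l : Fin m) (t : F) : OG m F := ofMat (Matrix.diagonal (f3lD p l t))

theorem mat_f3lH (p l : Fin m) (hpl : p ≠ l) (t : F) (ht : t ≠ 0) :
    mat (f3lH p l t) = Matrix.diagonal (f3lD p l t) :=
  mat_ofMat _ (exists_f3lH p l hpl t ht)

theorem f3lH_mem_T (p l : Fin m) (hpl : p ≠ l) (t : F) (ht : t ≠ 0) :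
    f3lH p l t ∈ Tsub m F := by
  rw [mem_Tsub_iff]
  intro a b hab
  rw [mat_f3lH p l hpl t ht, Matrix.diagonal_apply_ne _ hab]

open Cfsg.Agent.Lib.Helper56.StOp in
/-- the matrix identity -/
theorem sCrossMat_mul_xPMat (p l : Fin m) (hpl : p ≠ l) (t : F) (ht : t ≠ 0) :
    sCrossMat m F p l * xPMat m F p l t =
      xPMat m F p l t⁻¹ * Matrix.diagonal (f3lD p l t) * yPMat m F p l t⁻¹ := by
  have hlp : l ≠ p := hpl.symm
  rw [Matrix.ext_iff_mulVec]
  intro u
  rw [← Matrix.mulVec_mulVec, ← Matrix.mulVec_mulVec, ← Matrix.mulVec_mulVec]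
  unfold sCrossMat
  rw [Matrix.permMatrix_mulVec, xPMat_mulVec, xPMat_mulVec]
  funext a
  simp only [Function.comp_apply, Matrix.mulVec_diagonal, yPMat_mulVec]
  unfold crossE f3lD
  rcases a with k | k
  · by_cases h : k = p
    · subst h
      simp [Equiv.swap_apply_def, hpl, hlp]
      field_simp
      ring
    · by_cases h' : k = l
      · subst h'
        simp [Equiv.swap_apply_def, hpl, hlp, h]
        field_simp
        ring
      · simp [Equiv.swap_apply_def, hpl, hlp, h, h']
  · by_cases h : k = p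
    · subst h
      simp [Equiv.swap_apply_def, hpl, hlp]
      field_simp
      ring
    · by_cases h' : k = l
      · subst h'
        simp [Equiv.swap_apply_def, hpl, hlp, h]
        field_simp
        ring
      · simp [Equiv.swap_apply_def, hpl, hlp, h, h']

open Cfsg.Agent.Lib.Helper56.StOp Cfsg.Agent.Lib.Helper59.StOp in
theorem rank_one_cross_aux (p l : Fin m) (hpl : p ≠ l) (t : F) (ht : t ≠ 0) :
    sCross m F p l * xP m F p l t = xP m F p l t⁻¹ * f3lH p l t * yP m F p l t⁻¹ := by
  apply mat_injective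
  rw [mat_mul, mat_mul, mat_mul, mat_sCross, mat_xP p l hpl, mat_xP p l hpl, mat_yP p l hpl,
    mat_f3lH p l hpl t ht]
  exact sCrossMat_mul_xPMat p l hpl t ht

/-- LEAF F3L (keystone 254812): the rank one identity, last simple root. -/
theorem rank_one_cross (hm : 2 ≤ m) (t : F) (ht : t ≠ 0) :
    ∃ t' t'' : F, ∃ h ∈ Tsub m F,
      sCross m F (prevF hm) (lastF (by omega)) * xP m F (prevF hm) (lastF (by omega)) t =
        xP m F (prevF hm) (lastF (by omega)) t' * h * yP m F (prevF hm) (lastF (by omega)) t'' :=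
  ⟨t⁻¹, t⁻¹, f3lH (prevF hm) (lastF (by omega)) t,
    f3lH_mem_T _ _ (prevF_ne_lastF hm) t ht,
    rank_one_cross_aux _ _ (prevF_ne_lastF hm) t ht⟩

end Cfsg.Agent.Lib.Helper38.StOp
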