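import Mathlib
import Cfsg.Agent.Lib.Helper38.LargeExtraspecial

set_option autoImplicit false

namespace Cfsg.Agent.Lib.Helper38

section ambientCFour
variable {G : Type*} [Group G]

/-- Symmetry lemma, case of a centre containing an element `c₀` of order four with `c₀² = z`:
`Q` is a subgroup whose commutators and squares lie in `{1, z}`, whose only central involution
is `z`, containing its centralizer and normalized by the centralizer of `z`.
If `z` lies in the conjugate `h Q h⁻¹`, then the conjugate `h z h⁻¹` lies in `Q`. -/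
theorem conj_mem_of_conj_inv_mem_cfour (Q : Subgroup G)
    (z : G) (hzQ : z ∈ Q) (hzc : ∀ q ∈ Q, q * z = z * q) (hz1 : z ≠ 1) (hz2 : z * z = 1)
    (hcm : ∀ x ∈ Q, ∀ y ∈ Q, x * y * x⁻¹ * y⁻¹ = 1 ∨ x * y * x⁻¹ * y⁻¹ = z)
    (hsq : ∀ x ∈ Q, x * x = 1 ∨ x * x = z)
    (hinv : ∀ ζ ∈ Q, (∀ q ∈ Q, q * ζ = ζ * q) → ζ * ζ = 1 → ζ = 1 ∨ ζ = z)
    (c₀ : G) (hc₀Q : c₀ ∈ Q) (hc₀c : ∀ q ∈ Q, q * c₀ = c₀ * q) (hc₀sq : c₀ * c₀ = z)
    (hCQ : Subgroup.centralizer (Q : Set G) ≤ Q)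
    (hN : Subgroup.centralizer ({z} : Set G) ≤ Subgroup.normalizer (Q : Set G))
    (h : G) (htQ : h⁻¹ * z * h ∈ Q) :
    h * z * h⁻¹ ∈ Q := by
  classical
  by_contra hcQ
  have hzinv : z⁻¹ = z := inv_eq_of_mul_eq_one_right hz2
  obtain ⟨t, ht⟩ : ∃ t, t = h⁻¹ * z * h := ⟨_, rfl⟩
  obtain ⟨c, hc⟩ : ∃ c, c = h * z * h⁻¹ := ⟨_, rfl⟩
  rw [← ht] at htQ
  rw [← hc] at hcQ
  have hzt : z = h * t * h⁻¹ := by rw [ht]; group
  have hcz : c ≠ z := fun h0 => hcQ (by rw [h0]; exact hzQ)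
  have htz : t ≠ z := by
    intro h0
    apply hcz
    rw [hc]
    conv_rhs => rw [hzt, h0]
  have ht1 : t ≠ 1 := by
    intro h0; apply hz1; rw [hzt, h0]; group
  have ht2 : t * t = 1 := by
    calc t * t = h⁻¹ * (z * z) * h := by rw [ht]; group
      _ = 1 := by rw [hz2]; group
  have htz_comm : t * z = z * t := hzc t htQ
  have hconj_z : ∀ x' : G, x' * t = t * x' → (h * x' * h⁻¹) * z = z * (h * x' * h⁻¹) := by
    intro x' hx'
    calc (h * x' * h⁻¹) * z = (h * x' * h⁻¹) * (h * t * h⁻¹) := by rw [← hzt]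
      _ = h * (x' * t) * h⁻¹ := by group
      _ = h * (t * x') * h⁻¹ := by rw [hx']
      _ = (h * t * h⁻¹) * (h * x' * h⁻¹) := by group
      _ = z * (h * x' * h⁻¹) := by rw [← hzt]
  have hconj_c : ∀ x' : G, x' * z = z * x' → (h * x' * h⁻¹) * c = c * (h * x' * h⁻¹) := by
    intro x' hx'
    calc (h * x' * h⁻¹) * c = h * (x' * z) * h⁻¹ := by rw [hc]; group
      _ = h * (z * x') * h⁻¹ := by rw [hx']
      _ = c * (h * x' * h⁻¹) := by rw [hc]; group
  have hcz_comm : c * z = z * c := by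
    have := hconj_z z htz_comm.symm
    rw [← hc] at this
    exact this
  have hc2 : c * c = 1 := by
    calc c * c = h * (z * z) * h⁻¹ := by rw [hc]; group
      _ = 1 := by rw [hz2]; group
  have hcinv : c⁻¹ = c := inv_eq_of_mul_eq_one_right hc2
  have hNmem : ∀ x, x * z = z * x → ∀ q ∈ Q, x * q * x⁻¹ ∈ Q := by
    intro x hx q hq
    have := hN (Subgroup.mem_centralizer_singleton_iff.mpr hx)
    exact (Subgroup.mem_normalizer_iff.mp this q).mp hq
  -- the conjugate of the central element of order four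
  obtain ⟨x, hx⟩ : ∃ x, x = h * c₀ * h⁻¹ := ⟨_, rfl⟩
  have hxz : x * z = z * x := by rw [hx]; exact hconj_z c₀ (hc₀c t htQ).symm
  have hxc : x * c = c * x := by rw [hx]; exact hconj_c c₀ (hzc c₀ hc₀Q)
  have hxx : x * x = c := by
    calc x * x = h * (c₀ * c₀) * h⁻¹ := by rw [hx]; group
      _ = c := by rw [hc₀sq, hc]
  -- (i) some element of Q conjugates c to c z
  have hi : ∃ q ∈ Q, q * c * q⁻¹ = c * z := by
    by_contra hno
    push Not at hno
    have hbad : ∀ q ∈ Q, (c * q * c⁻¹ * q⁻¹ = 1 ∨ c * q * c⁻¹ * q⁻¹ = z) → c * q = q * c := by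
      intro q hq h1
      rcases h1 with h1 | h1
      · calc c * q = (c * q * c⁻¹ * q⁻¹) * q * c := by group
          _ = q * c := by rw [h1, one_mul]
      · exfalso
        apply hno q hq
        rw [hcinv] at h1
        calc q * c * q⁻¹ = (c * c) * (q * c * q⁻¹) := by rw [hc2, one_mul]
          _ = c * (c * q * c * q⁻¹) := by group
          _ = c * z := by rw [h1]
    -- x centralizes the centralizer of c in Q
    have hxD : ∀ f ∈ Q, c * f = f * c → x * f = f * x := by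
      intro f hfQ hcf
      obtain ⟨f', hf'⟩ : ∃ f', f' = h⁻¹ * f * h := ⟨_, rfl⟩
      have hf'z : f' * z = z * f' := by
        calc f' * z = h⁻¹ * (f * c) * h := by rw [hf', hc]; group
          _ = h⁻¹ * (c * f) * h := by rw [hcf]
          _ = z * f' := by rw [hf', hc]; group
      have hf'inv : f'⁻¹ * z = z * f'⁻¹ := by
        calc f'⁻¹ * z = f'⁻¹ * (z * f') * f'⁻¹ := by group
          _ = f'⁻¹ * (f' * z) * f'⁻¹ := by rw [hf'z]
          _ = z * f'⁻¹ := by group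
      obtain ⟨ζ, hζ⟩ : ∃ ζ, ζ = f' * c₀ * f'⁻¹ := ⟨_, rfl⟩
      have hζQ : ζ ∈ Q := by rw [hζ]; exact hNmem f' hf'z c₀ hc₀Q
      have hζc : ∀ q ∈ Q, q * ζ = ζ * q := by
        intro q hq
        have hq' : f'⁻¹ * q * f' ∈ Q := by
          have := hNmem f'⁻¹ hf'inv q hq
          rwa [inv_inv] at this
        have h1 := hc₀c _ hq'
        calc q * ζ = f' * ((f'⁻¹ * q * f') * c₀) * f'⁻¹ := by rw [hζ]; group
          _ = f' * (c₀ * (f'⁻¹ * q * f')) * f'⁻¹ := by rw [h1]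
          _ = ζ * q := by rw [hζ]; group
      have hζsq : ζ * ζ = z := by
        calc ζ * ζ = f' * (c₀ * c₀) * f'⁻¹ := by rw [hζ]; group
          _ = f' * z * f'⁻¹ := by rw [hc₀sq]
          _ = z := by rw [hf'z]; group
      have hw : ζ * c₀⁻¹ = 1 ∨ ζ * c₀⁻¹ = z := by
        apply hinv _ (Q.mul_mem hζQ (Q.inv_mem hc₀Q))
        · intro q hq
          have h1 := hζc q hq
          have h2 : q * c₀⁻¹ = c₀⁻¹ * q := by
            calc q * c₀⁻¹ = c₀⁻¹ * (c₀ * q) * c₀⁻¹ := by group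
              _ = c₀⁻¹ * (q * c₀) * c₀⁻¹ := by rw [hc₀c q hq]
              _ = c₀⁻¹ * q := by group
          calc q * (ζ * c₀⁻¹) = (q * ζ) * c₀⁻¹ := by group
            _ = (ζ * q) * c₀⁻¹ := by rw [h1]
            _ = ζ * (q * c₀⁻¹) := by group
            _ = ζ * (c₀⁻¹ * q) := by rw [h2]
            _ = ζ * c₀⁻¹ * q := by group
        · have h3 : c₀⁻¹ * ζ = ζ * c₀⁻¹ := hζc c₀⁻¹ (Q.inv_mem hc₀Q)
          calc ζ * c₀⁻¹ * (ζ * c₀⁻¹) = ζ * (c₀⁻¹ * ζ) * c₀⁻¹ := by group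
            _ = ζ * (ζ * c₀⁻¹) * c₀⁻¹ := by rw [h3]
            _ = (ζ * ζ) * (c₀ * c₀)⁻¹ := by group
            _ = 1 := by rw [hζsq, hc₀sq, mul_inv_cancel]
      have hyQ : x * f * x⁻¹ * f⁻¹ ∈ Q := Q.mul_mem (hNmem x hxz f hfQ) (Q.inv_mem hfQ)
      have hf : f = h * f' * h⁻¹ := by rw [hf']; group
      have hy : x * f * x⁻¹ * f⁻¹ = h * (ζ * c₀⁻¹)⁻¹ * h⁻¹ := by
        rw [hx, hζ, hf]; group
      rcases hw with hw | hw
      · rw [hw, inv_one] at hy
        have hy1 : x * f * x⁻¹ * f⁻¹ = 1 := by rw [hy]; group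
        calc x * f = (x * f * x⁻¹ * f⁻¹) * f * x := by group
          _ = f * x := by rw [hy1, one_mul]
      · exfalso
        apply hcQ
        rw [hw, hzinv, ← hc] at hy
        rw [← hy]; exact hyQ
    -- commutators with c lie in the centralizer of c
    have hstep : ∀ q ∈ Q, c * (x * q * x⁻¹ * q⁻¹) = (x * q * x⁻¹ * q⁻¹) * c := by
      intro q hq
      obtain ⟨d, hd⟩ : ∃ d, d = c * q * c⁻¹ * q⁻¹ := ⟨_, rfl⟩
      have hdQ : d ∈ Q := by rw [hd]; exact Q.mul_mem (hNmem c hcz_comm q hq) (Q.inv_mem hq)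
      have hcd : c * d = d * c := by
        apply hbad d hdQ
        have h1 : c * d * c⁻¹ * d⁻¹ = (d * d)⁻¹ := by
          have h2 : c * d * c⁻¹ = d⁻¹ := by
            calc c * d * c⁻¹ = (c * c) * (q * c⁻¹ * q⁻¹ * c⁻¹) := by rw [hd]; group
              _ = q * c⁻¹ * q⁻¹ * c⁻¹ := by rw [hc2, one_mul]
              _ = q * c * q⁻¹ * c⁻¹ := by rw [hcinv]
              _ = d⁻¹ := by rw [hd]; group
          rw [h2]; group
        rw [h1]
        rcases hsq d hdQ with h3 | h3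
        · left; rw [h3, inv_one]
        · right; rw [h3, hzinv]
      obtain ⟨e, he⟩ : ∃ e, e = x * q * x⁻¹ * q⁻¹ := ⟨_, rfl⟩
      rw [← he]
      have heQ : e ∈ Q := by rw [he]; exact Q.mul_mem (hNmem x hxz q hq) (Q.inv_mem hq)
      apply hbad e heQ
      have hxd := hxD d hdQ hcd
      have h1 : c * q * c⁻¹ = d * q := by rw [hd]; group
      have hce : c * e * c⁻¹ = d * e * d⁻¹ := by
        calc c * e * c⁻¹ = (c * x) * q * (c * x)⁻¹ * (c * q * c⁻¹)⁻¹ := by rw [he]; group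
          _ = (x * c) * q * (x * c)⁻¹ * (c * q * c⁻¹)⁻¹ := by rw [hxc]
          _ = x * (c * q * c⁻¹) * x⁻¹ * (c * q * c⁻¹)⁻¹ := by group
          _ = x * (d * q) * x⁻¹ * (d * q)⁻¹ := by rw [h1]
          _ = (x * d) * (q * x⁻¹ * q⁻¹) * d⁻¹ := by group
          _ = (d * x) * (q * x⁻¹ * q⁻¹) * d⁻¹ := by rw [hxd]
          _ = d * e * d⁻¹ := by rw [he]; group
      rw [hce]
      exact hcm d hdQ e heQ
    apply hcQ
    apply hCQ
    rw [Subgroup.mem_centralizer_iff]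
    intro q hq
    obtain ⟨e, he⟩ : ∃ e, e = x * q * x⁻¹ * q⁻¹ := ⟨_, rfl⟩
    have heQ : e ∈ Q := by rw [he]; exact Q.mul_mem (hNmem x hxz q hq) (Q.inv_mem hq)
    have hce : c * e = e * c := by rw [he]; exact hstep q hq
    have hxe := hxD e heQ hce
    have hcq : c * q * c⁻¹ * q⁻¹ = e * e := by
      calc c * q * c⁻¹ * q⁻¹ = (x * x) * q * (x * x)⁻¹ * q⁻¹ := by rw [hxx]
        _ = (x * (x * q * x⁻¹ * q⁻¹)) * x⁻¹ * (x * q * x⁻¹ * q⁻¹) := by group
        _ = (x * e) * x⁻¹ * e := by rw [← he]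
        _ = (e * x) * x⁻¹ * e := by rw [hxe]
        _ = e * e := by group
    have := hbad q hq (by rw [hcq]; exact hsq e heQ)
    exact this.symm
  obtain ⟨q, hqQ, hqc⟩ := hi
  -- (ii) some element of Q moves t to z t
  have hii : ∃ q₀ ∈ Q, q₀ * t * q₀⁻¹ * t⁻¹ = z := by
    by_contra hno
    push Not at hno
    have hcen : ∀ q ∈ Q, q * t = t * q := by
      intro q hq
      rcases hcm q hq t htQ with h1 | h1
      · calc q * t = (q * t * q⁻¹ * t⁻¹) * t * q := by group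
          _ = t * q := by rw [h1, one_mul]
      · exact absurd h1 (hno q hq)
    rcases hinv t htQ hcen ht2 with h1 | h1
    · exact ht1 h1
    · exact htz h1
  obtain ⟨q₀, hq₀Q, hq₀t⟩ := hii
  have hq₀t' : q₀ * t * q₀⁻¹ = z * t := mul_inv_eq_iff_eq_mul.mp hq₀t
  obtain ⟨q', hq'⟩ : ∃ q', q' = h * q₀ * h⁻¹ := ⟨_, rfl⟩
  have hq'c : q' * c * q'⁻¹ = c := by
    have := hconj_c q₀ (hzc q₀ hq₀Q)
    rw [← hq'] at this
    rw [this]; group
  have hq'z : q' * z * q'⁻¹ = c * z := by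
    calc q' * z * q'⁻¹ = h * (q₀ * t * q₀⁻¹) * h⁻¹ := by rw [hq', hzt]; group
      _ = h * (z * t) * h⁻¹ := by rw [hq₀t']
      _ = c * z := by rw [hc, hzt]; group
  have hqz : q * z * q⁻¹ = z := by rw [hzc q hqQ]; group
  obtain ⟨k, hk⟩ : ∃ k, k = q' * q * h := ⟨_, rfl⟩
  have hkz : k * z * k⁻¹ = z := by
    calc k * z * k⁻¹ = q' * (q * (h * z * h⁻¹) * q⁻¹) * q'⁻¹ := by rw [hk]; group
      _ = q' * (c * z) * q'⁻¹ := by rw [← hc, hqc]
      _ = (q' * c * q'⁻¹) * (q' * z * q'⁻¹) := by group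
      _ = c * (c * z) := by rw [hq'c, hq'z]
      _ = z := by rw [← mul_assoc, hc2, one_mul]
  have hkz' : k * z = z * k := by
    calc k * z = (k * z * k⁻¹) * k := by group
      _ = z * k := by rw [hkz]
  have hkt : k * t * k⁻¹ ∈ Q := hNmem k hkz' t htQ
  have hkt' : k * t * k⁻¹ = c * z := by
    calc k * t * k⁻¹ = q' * (q * (h * t * h⁻¹) * q⁻¹) * q'⁻¹ := by rw [hk]; group
      _ = q' * (q * z * q⁻¹) * q'⁻¹ := by rw [← hzt]
      _ = c * z := by rw [hqz, hq'z]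
  apply hcQ
  have : c = (k * t * k⁻¹) * z⁻¹ := by rw [hkt']; group
  rw [this]
  exact Q.mul_mem hkt (Q.inv_mem hzQ)

end ambientCFour

end Cfsg.Agent.Lib.Helper38
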