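import Mathlib
import Cfsg.Prelude.Def_ClassificationK
import Cfsg.Agent.Lib.Helper38.PGroup
import Cfsg.Agent.Lib.Helper38.Extraspecial
import Cfsg.Agent.Lib.Helper59.SympMain
import Cfsg.Agent.Lib.Helper03.PGroupFrattini

set_option autoImplicit false
open scoped commutatorElement

namespace Cfsg.Agent.Lib.Helper38

/-- Structure of a 2-group of symplectic type of exponent dividing four, relative to a central
involution `ζ`: commutators and squares lie in `{1, ζ}`, and `ζ` is the only central
involution. -/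
theorem symp_exp_four_structure {T : Type*} [Group T] [Finite T]
    (hT : Cfsg.IsOfSymplecticType T) (h4 : ∀ x : T, x ^ 4 = 1)
    (ζ : T) (hζc : ζ ∈ Subgroup.center T) (hζ1 : ζ ≠ 1) (hζ2 : ζ * ζ = 1) :
    (∀ x y : T, x * y * x⁻¹ * y⁻¹ = 1 ∨ x * y * x⁻¹ * y⁻¹ = ζ) ∧
    (∀ x : T, x * x = 1 ∨ x * x = ζ) ∧
    (∀ w ∈ Subgroup.center T, w * w = 1 → w = 1 ∨ w = ζ) := by
  classical
  have hf2 : Fact (Nat.Prime 2) := ⟨Nat.prime_two⟩
  obtain ⟨hP, hsymp⟩ := hT
  have hZc : IsCyclic ↥(Subgroup.center T) := hsymp _ inferInstance inferInstance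
  have hinv : ∀ w ∈ Subgroup.center T, w * w = 1 → w = 1 ∨ w = ζ := by
    intro w hw hw2
    by_cases hw1 : w = 1
    · exact Or.inl hw1
    · right
      have ho : orderOf (⟨w, hw⟩ : ↥(Subgroup.center T)) = 2 := by
        rw [Subgroup.orderOf_mk]
        exact orderOf_eq_prime (by rw [pow_two]; exact hw2) hw1
      have hoζ : orderOf (⟨ζ, hζc⟩ : ↥(Subgroup.center T)) = 2 := by
        rw [Subgroup.orderOf_mk]
        exact orderOf_eq_prime (by rw [pow_two]; exact hζ2) hζ1
      exact congrArg Subtype.val (eq_of_orderOf_eq_two_of_isCyclic _ _ ho hoζ)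
  have hcsq : ∀ w ∈ Subgroup.center T, w * w = 1 ∨ w * w = ζ := by
    intro w hw
    apply hinv _ (Subgroup.mul_mem _ hw hw)
    have := h4 w
    calc w * w * (w * w) = w ^ 4 := by simp [pow_succ, mul_assoc]
      _ = 1 := this
  obtain ⟨E, R, hER, hsup, hE, hR⟩ :=
    Cfsg.Agent.Lib.Helper59.symplectic_type_structure hP hsymp
  have h4R : ∀ x : ↥R, x ^ 4 = 1 := by
    intro x
    apply Subtype.ext
    rw [Subgroup.coe_pow]
    exact h4 x
  have hRc : IsCyclic ↥R := by
    rcases hR with hR | ⟨-, h16, hR⟩
    · exact hR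
    · exfalso
      rcases hR with ⟨m, ⟨e⟩⟩ | ⟨m, ⟨e⟩⟩ | ⟨n, hn3, -, x, y, hx, -, -⟩
      · have hcard : Nat.card ↥R = 2 * m := by
          rw [Nat.card_congr e.toEquiv, DihedralGroup.nat_card]
        have h1 : (DihedralGroup.r 1 : DihedralGroup m) ^ 4 = 1 := by
          have h3 := h4R (e.symm (DihedralGroup.r 1))
          have := congrArg e h3
          simpa using this
        have h5 := orderOf_dvd_of_pow_eq_one h1
        rw [DihedralGroup.orderOf_r_one] at h5
        have := Nat.le_of_dvd (by norm_num) h5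
        omega
      · have h1 : (QuaternionGroup.a 1 : QuaternionGroup m) ^ 4 = 1 := by
          have h3 := h4R (e.symm (QuaternionGroup.a 1))
          have := congrArg e h3
          simpa using this
        have h5 := orderOf_dvd_of_pow_eq_one h1
        rw [QuaternionGroup.orderOf_a_one] at h5
        have h6 := Nat.le_of_dvd (by norm_num) h5
        have hm0 : m ≠ 0 := by
          rintro rfl
          simp at h5
        have : NeZero m := ⟨hm0⟩
        have hcard : Nat.card ↥R = 4 * m := by
          rw [Nat.card_congr e.toEquiv, Nat.card_eq_fintype_card, QuaternionGroup.card]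
        omega
      · have h1 := h4R x
        have h5 := orderOf_dvd_of_pow_eq_one h1
        rw [hx] at h5
        have h6 := Nat.le_of_dvd (by norm_num) h5
        have h7 : 2 ^ 3 ≤ 2 ^ n := Nat.pow_le_pow_right (by norm_num) hn3
        omega
  have hRcomm : ∀ r ∈ R, ∀ r' ∈ R, r * r' = r' * r := by
    intro r hr r' hr'
    have hc : IsMulCommutative ↥R := IsCyclic.isMulCommutative
    have := hc.is_comm.comm (⟨r, hr⟩ : ↥R) ⟨r', hr'⟩
    exact congrArg Subtype.val this
  have hRcen : R ≤ Subgroup.center T := by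
    intro r hr
    rw [Subgroup.mem_center_iff]
    have hle : E ⊔ R ≤ Subgroup.centralizer ({r} : Set T) := by
      apply sup_le
      · intro e he
        rw [Subgroup.mem_centralizer_singleton_iff]
        exact hER e he r hr
      · intro r' hr'
        rw [Subgroup.mem_centralizer_singleton_iff]
        exact hRcomm r' hr' r hr
    intro g
    have hg : g ∈ Subgroup.centralizer ({r} : Set T) := hle (by rw [hsup]; trivial)
    exact Subgroup.mem_centralizer_singleton_iff.mp hg
  have hRn : R.Normal := by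
    constructor
    intro n hn g
    have h1 := Subgroup.mem_center_iff.mp (hRcen hn) g
    have h2 : g * n * g⁻¹ = n := by rw [h1]; group
    rw [h2]; exact hn
  have hdecomp : ∀ x : T, ∃ e ∈ E, ∃ r ∈ R, e * r = x := by
    intro x
    exact Subgroup.mem_sup_of_normal_right.mp (by rw [hsup]; trivial)
  have hEfacts : (∀ e ∈ E, ∀ e' ∈ E, e * e' * e⁻¹ * e'⁻¹ = 1 ∨ e * e' * e⁻¹ * e'⁻¹ = ζ) ∧
      (∀ e ∈ E, e * e = 1 ∨ e * e = ζ) := by
    rcases hE with rfl | hE
    · constructor
      · intro e he e' he'
        rw [Subgroup.mem_bot] at he he'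
        left; rw [he, he']; group
      · intro e he
        rw [Subgroup.mem_bot] at he
        left; rw [he, one_mul]
    · obtain ⟨⟨hPE, hfrat, hcommeq⟩, hcard⟩ := hE
      have hcenE : ∀ a : ↥E, a ∈ Subgroup.center ↥E → (a : T) = 1 ∨ (a : T) = ζ := by
        intro a ha
        have hacT : (a : T) ∈ Subgroup.center T := by
          rw [Subgroup.mem_center_iff]
          intro x
          obtain ⟨e, he, r, hr, rfl⟩ := hdecomp x
          have h1 : e * (a : T) = (a : T) * e := by
            have := Subgroup.mem_center_iff.mp ha ⟨e, he⟩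
            exact congrArg Subtype.val this
          have h2 : r * (a : T) = (a : T) * r :=
            (Subgroup.mem_center_iff.mp (hRcen hr) (a : T)).symm
          calc e * r * (a : T) = e * (r * (a : T)) := by group
            _ = e * ((a : T) * r) := by rw [h2]
            _ = (e * (a : T)) * r := by group
            _ = ((a : T) * e) * r := by rw [h1]
            _ = (a : T) * (e * r) := by group
        apply hinv _ hacT
        have h3 : (⟨a, ha⟩ : ↥(Subgroup.center ↥E)) ^ 2 = 1 := by
          rw [← hcard]; exact pow_card_eq_one'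
        have h4' : a ^ 2 = 1 := congrArg Subtype.val h3
        have h5 : (a : T) ^ 2 = 1 := by
          have := congrArg Subtype.val h4'
          simpa using this
        rw [← pow_two]; exact h5
      constructor
      · intro e he e' he'
        have hmem : ⁅(⟨e, he⟩ : ↥E), ⟨e', he'⟩⁆ ∈ Subgroup.center ↥E := by
          rw [← hcommeq, commutator_def]
          exact Subgroup.commutator_mem_commutator (Subgroup.mem_top _) (Subgroup.mem_top _)
        have := hcenE _ hmem
        simpa [commutatorElement_def] using this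
      · intro e he
        have hmem : (⟨e, he⟩ : ↥E) ^ 2 ∈ Subgroup.center ↥E := by
          rw [← hfrat]
          exact Cfsg.Agent.Lib.Helper03.pow_mem_frattini_of_isPGroup hPE _
        have := hcenE _ hmem
        simpa [pow_two] using this
  obtain ⟨hEcm, hEsq⟩ := hEfacts
  refine ⟨?_, ?_, hinv⟩
  · intro x y
    obtain ⟨e, he, r, hr, rfl⟩ := hdecomp x
    obtain ⟨e', he', r', hr', rfl⟩ := hdecomp y
    have hr1 := Subgroup.mem_center_iff.mp (hRcen hr)
    have hr2 := Subgroup.mem_center_iff.mp (hRcen hr')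
    have : e * r * (e' * r') * (e * r)⁻¹ * (e' * r')⁻¹ = e * e' * e⁻¹ * e'⁻¹ := by
      calc e * r * (e' * r') * (e * r)⁻¹ * (e' * r')⁻¹
          = e * (r * e') * (r' * r⁻¹) * e⁻¹ * r'⁻¹ * e'⁻¹ := by group
        _ = e * (e' * r) * (r' * r⁻¹) * e⁻¹ * r'⁻¹ * e'⁻¹ := by rw [hr1 e']
        _ = e * e' * (r * r' * r⁻¹) * e⁻¹ * r'⁻¹ * e'⁻¹ := by group
        _ = e * e' * (r' * r * r⁻¹) * e⁻¹ * r'⁻¹ * e'⁻¹ := by rw [hr2 r]
        _ = e * e' * (r' * e⁻¹) * r'⁻¹ * e'⁻¹ := by group
        _ = e * e' * (e⁻¹ * r') * r'⁻¹ * e'⁻¹ := by rw [hr2 e⁻¹]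
        _ = e * e' * e⁻¹ * e'⁻¹ := by group
    rw [this]
    exact hEcm e he e' he'
  · intro x
    obtain ⟨e, he, r, hr, rfl⟩ := hdecomp x
    have hr1 := Subgroup.mem_center_iff.mp (hRcen hr)
    have : e * r * (e * r) = (e * e) * (r * r) := by
      calc e * r * (e * r) = e * (r * e) * r := by group
        _ = e * (e * r) * r := by rw [hr1 e]
        _ = (e * e) * (r * r) := by group
    rw [this]
    rcases hEsq e he with h1 | h1 <;> rcases hcsq r (hRcen hr) with h2 | h2 <;> rw [h1, h2]
    · left; rw [one_mul]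
    · right; rw [one_mul]
    · right; rw [mul_one]
    · left; exact hζ2

end Cfsg.Agent.Lib.Helper38
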