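import Mathlib
import Cfsg.Prelude.Def_ClassificationK
import Cfsg.Agent.Lib.Helper38.SympExpFour
import Cfsg.Agent.Lib.Helper38.SympExpFourStr
import Cfsg.Agent.Lib.Helper28.FStar

set_option autoImplicit false
open scoped commutatorElement

namespace Cfsg.Agent.Lib.Helper38

/-- If `q` fixes `z` and maps `t` to `z t`, and `p` fixes `t` and maps `z` to `z t`, then `⟨p, q⟩`
induces every permutation of the three involutions of the four-group `⟨z, t⟩`. -/
theorem sthree_on_four {G : Type*} [Group G] (z t q p : G) (hz2 : z * z = 1) (ht2 : t * t = 1)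
    (hqz : q * z * q⁻¹ = z) (hqt : q * t * q⁻¹ = z * t)
    (hpz : p * z * p⁻¹ = z * t) (hpt : p * t * p⁻¹ = t)
    (K : Subgroup G) (hq : q ∈ K) (hp : p ∈ K) :
    ∀ u v : G, (u = z ∨ u = t ∨ u = z * t) → (v = z ∨ v = t ∨ v = z * t) → u ≠ v →
      ∃ x ∈ K, x * z * x⁻¹ = u ∧ x * t * x⁻¹ = v := by
  have hq_zt : q * (z * t) * q⁻¹ = t := by
    calc q * (z * t) * q⁻¹ = (q * z * q⁻¹) * (q * t * q⁻¹) := by group
      _ = z * (z * t) := by rw [hqz, hqt]
      _ = t := by rw [← mul_assoc, hz2, one_mul]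
  have hp_zt : p * (z * t) * p⁻¹ = z := by
    calc p * (z * t) * p⁻¹ = (p * z * p⁻¹) * (p * t * p⁻¹) := by group
      _ = z * t * t := by rw [hpz, hpt]
      _ = z := by rw [mul_assoc, ht2, mul_one]
  have hqi_t : q⁻¹ * t * q = z * t := by
    calc q⁻¹ * t * q = q⁻¹ * (q * (z * t) * q⁻¹) * q := by rw [hq_zt]
      _ = z * t := by group
  have hqi_z : q⁻¹ * z * q = z := by
    calc q⁻¹ * z * q = q⁻¹ * (q * z * q⁻¹) * q := by rw [hqz]
      _ = z := by group
  intro u v hu hv huv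
  rcases hu with hu | hu | hu <;> rcases hv with hv | hv | hv
  · exact absurd (hu.trans hv.symm) huv
  · rw [hu, hv]; exact ⟨1, K.one_mem, by group, by group⟩
  · rw [hu, hv]; exact ⟨q, hq, hqz, hqt⟩
  · rw [hu, hv]
    refine ⟨q * p * q⁻¹, K.mul_mem (K.mul_mem hq hp) (K.inv_mem hq), ?_, ?_⟩
    · calc q * p * q⁻¹ * z * (q * p * q⁻¹)⁻¹ = q * (p * (q⁻¹ * z * q) * p⁻¹) * q⁻¹ := by group
        _ = q * (p * z * p⁻¹) * q⁻¹ := by rw [hqi_z]
        _ = q * (z * t) * q⁻¹ := by rw [hpz]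
        _ = t := hq_zt
    · calc q * p * q⁻¹ * t * (q * p * q⁻¹)⁻¹ = q * (p * (q⁻¹ * t * q) * p⁻¹) * q⁻¹ := by group
        _ = q * (p * (z * t) * p⁻¹) * q⁻¹ := by rw [hqi_t]
        _ = q * z * q⁻¹ := by rw [hp_zt]
        _ = z := hqz
  · exact absurd (hu.trans hv.symm) huv
  · rw [hu, hv]
    refine ⟨q * p, K.mul_mem hq hp, ?_, ?_⟩
    · calc q * p * z * (q * p)⁻¹ = q * (p * z * p⁻¹) * q⁻¹ := by group
        _ = q * (z * t) * q⁻¹ := by rw [hpz]
        _ = t := hq_zt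
    · calc q * p * t * (q * p)⁻¹ = q * (p * t * p⁻¹) * q⁻¹ := by group
        _ = q * t * q⁻¹ := by rw [hpt]
        _ = z * t := hqt
  · rw [hu, hv]
    refine ⟨p * q, K.mul_mem hp hq, ?_, ?_⟩
    · calc p * q * z * (p * q)⁻¹ = p * (q * z * q⁻¹) * p⁻¹ := by group
        _ = p * z * p⁻¹ := by rw [hqz]
        _ = z * t := hpz
    · calc p * q * t * (p * q)⁻¹ = p * (q * t * q⁻¹) * p⁻¹ := by group
        _ = p * (z * t) * p⁻¹ := by rw [hqt]
        _ = z := hp_zt
  · rw [hu, hv]; exact ⟨p, hp, hpz, hpt⟩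
  · exact absurd (hu.trans hv.symm) huv

variable {G : Type*} [Group G]

/-- The ambient facts for `Q = F*(C_G(z))` of symplectic type and exponent dividing four. -/
theorem symp_exp_four_ambient [Finite G] (z : G) (hz : orderOf z = 2)
    (hQ : Cfsg.IsOfSymplecticType
      ↥(Cfsg.generalizedFittingSubgroup ↥(Subgroup.centralizer ({z} : Set G))))
    (h4 : ∀ q ∈ (Cfsg.generalizedFittingSubgroup ↥(Subgroup.centralizer ({z} : Set G))).map
      (Subgroup.centralizer ({z} : Set G)).subtype, q ^ 4 = 1) :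
    z ∈ (Cfsg.generalizedFittingSubgroup ↥(Subgroup.centralizer ({z} : Set G))).map
        (Subgroup.centralizer ({z} : Set G)).subtype ∧
    z * z = 1 ∧ z ≠ 1 ∧
    (∀ q ∈ (Cfsg.generalizedFittingSubgroup ↥(Subgroup.centralizer ({z} : Set G))).map
        (Subgroup.centralizer ({z} : Set G)).subtype, q * z = z * q) ∧
    (∀ x ∈ (Cfsg.generalizedFittingSubgroup ↥(Subgroup.centralizer ({z} : Set G))).map
        (Subgroup.centralizer ({z} : Set G)).subtype,
      ∀ y ∈ (Cfsg.generalizedFittingSubgroup ↥(Subgroup.centralizer ({z} : Set G))).map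
        (Subgroup.centralizer ({z} : Set G)).subtype,
        x * y * x⁻¹ * y⁻¹ = 1 ∨ x * y * x⁻¹ * y⁻¹ = z) ∧
    (∀ ζ ∈ (Cfsg.generalizedFittingSubgroup ↥(Subgroup.centralizer ({z} : Set G))).map
        (Subgroup.centralizer ({z} : Set G)).subtype,
      (∀ q ∈ (Cfsg.generalizedFittingSubgroup ↥(Subgroup.centralizer ({z} : Set G))).map
        (Subgroup.centralizer ({z} : Set G)).subtype, q * ζ = ζ * q) → ζ * ζ = 1 → ζ = 1 ∨ ζ = z) ∧
    (∀ h : G, h⁻¹ * z * h ∈ (Cfsg.generalizedFittingSubgroup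
        ↥(Subgroup.centralizer ({z} : Set G))).map (Subgroup.centralizer ({z} : Set G)).subtype →
      h * z * h⁻¹ ∈ (Cfsg.generalizedFittingSubgroup
        ↥(Subgroup.centralizer ({z} : Set G))).map (Subgroup.centralizer ({z} : Set G)).subtype) := by
  classical
  generalize hCdef : Subgroup.centralizer ({z} : Set G) = C at *
  generalize hFdef : Cfsg.generalizedFittingSubgroup ↥C = F at *
  have hFn : F.Normal := by rw [← hFdef]; infer_instance
  have hz1 : z ≠ 1 := by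
    intro h
    rw [h, orderOf_one] at hz
    exact absurd hz (by norm_num)
  have hz2 : z * z = 1 := by
    have := pow_orderOf_eq_one z
    rw [hz, pow_two] at this
    exact this
  have hzC : z ∈ C := by rw [← hCdef]; exact Subgroup.mem_centralizer_singleton_iff.mpr rfl
  have hCmem : ∀ x : G, x ∈ C ↔ x * z = z * x := by
    intro x; rw [← hCdef]; exact Subgroup.mem_centralizer_singleton_iff
  have hzCcen : ∀ x : ↥C, x * (⟨z, hzC⟩ : ↥C) = ⟨z, hzC⟩ * x := by
    intro x; exact Subtype.ext ((hCmem x).mp x.2)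
  have hcentF : Subgroup.centralizer (F : Set ↥C) ≤ F := by
    rw [← hFdef]; exact Cfsg.Agent.Lib.Helper28.centralizer_genFitting_le
  have hzF : (⟨z, hzC⟩ : ↥C) ∈ F := by
    apply hcentF
    rw [Subgroup.mem_centralizer_iff]
    intro f _
    exact hzCcen f
  have hmemQ : ∀ x : G, x ∈ F.map C.subtype ↔ ∃ hx : x ∈ C, (⟨x, hx⟩ : ↥C) ∈ F := by
    intro x
    constructor
    · rintro ⟨xc, hxc, rfl⟩
      exact ⟨xc.2, hxc⟩
    · rintro ⟨hx, hxF⟩
      exact ⟨⟨x, hx⟩, hxF, rfl⟩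
  have hζc : (⟨⟨z, hzC⟩, hzF⟩ : ↥F) ∈ Subgroup.center ↥F := by
    rw [Subgroup.mem_center_iff]
    intro f
    exact Subtype.ext (hzCcen f)
  have hζ1 : (⟨⟨z, hzC⟩, hzF⟩ : ↥F) ≠ 1 := by
    intro h0
    exact hz1 (congrArg (fun a : ↥F => ((a : ↥C) : G)) h0)
  have hζ2 : (⟨⟨z, hzC⟩, hzF⟩ : ↥F) * ⟨⟨z, hzC⟩, hzF⟩ = 1 := by
    apply Subtype.ext; apply Subtype.ext; exact hz2
  have h4F : ∀ x : ↥F, x ^ 4 = 1 := by
    intro x
    apply Subtype.ext; apply Subtype.ext
    have := h4 ((x : ↥C) : G) ⟨(x : ↥C), x.2, rfl⟩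
    simpa using this
  obtain ⟨hcmF, hsqF, hinvF⟩ := symp_exp_four_structure hQ h4F _ hζc hζ1 hζ2
  have hzQ : z ∈ F.map C.subtype := (hmemQ z).mpr ⟨hzC, hzF⟩
  have hzc : ∀ q ∈ F.map C.subtype, q * z = z * q := by
    intro q hq
    obtain ⟨hqC, -⟩ := (hmemQ q).mp hq
    exact (hCmem q).mp hqC
  have hcm : ∀ x ∈ F.map C.subtype, ∀ y ∈ F.map C.subtype,
      x * y * x⁻¹ * y⁻¹ = 1 ∨ x * y * x⁻¹ * y⁻¹ = z := by
    intro x hx y hy
    obtain ⟨hxC, hxF⟩ := (hmemQ x).mp hx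
    obtain ⟨hyC, hyF⟩ := (hmemQ y).mp hy
    rcases hcmF ⟨⟨x, hxC⟩, hxF⟩ ⟨⟨y, hyC⟩, hyF⟩ with h1 | h1
    · left; exact congrArg (fun a : ↥F => ((a : ↥C) : G)) h1
    · right; exact congrArg (fun a : ↥F => ((a : ↥C) : G)) h1
  have hsq : ∀ x ∈ F.map C.subtype, x * x = 1 ∨ x * x = z := by
    intro x hx
    obtain ⟨hxC, hxF⟩ := (hmemQ x).mp hx
    rcases hsqF ⟨⟨x, hxC⟩, hxF⟩ with h1 | h1
    · left; exact congrArg (fun a : ↥F => ((a : ↥C) : G)) h1
    · right; exact congrArg (fun a : ↥F => ((a : ↥C) : G)) h1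
  have hcenF : ∀ (w : G) (hwC : w ∈ C) (hwF : (⟨w, hwC⟩ : ↥C) ∈ F),
      (∀ q ∈ F.map C.subtype, q * w = w * q) →
      (⟨⟨w, hwC⟩, hwF⟩ : ↥F) ∈ Subgroup.center ↥F := by
    intro w hwC hwF hcen
    rw [Subgroup.mem_center_iff]
    intro f
    apply Subtype.ext; apply Subtype.ext
    exact hcen ((f : ↥C) : G) ⟨(f : ↥C), f.2, rfl⟩
  have hinv : ∀ ζ ∈ F.map C.subtype, (∀ q ∈ F.map C.subtype, q * ζ = ζ * q) → ζ * ζ = 1 →
      ζ = 1 ∨ ζ = z := by
    intro w hw hcen hw2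
    obtain ⟨hwC, hwF⟩ := (hmemQ w).mp hw
    have h2 : (⟨⟨w, hwC⟩, hwF⟩ : ↥F) * ⟨⟨w, hwC⟩, hwF⟩ = 1 := by
      apply Subtype.ext; apply Subtype.ext; exact hw2
    rcases hinvF _ (hcenF w hwC hwF hcen) h2 with h1 | h1
    · left; exact congrArg (fun a : ↥F => ((a : ↥C) : G)) h1
    · right; exact congrArg (fun a : ↥F => ((a : ↥C) : G)) h1
  have hCQ : Subgroup.centralizer ((F.map C.subtype : Subgroup G) : Set G) ≤ F.map C.subtype := by
    intro x hx
    rw [Subgroup.mem_centralizer_iff] at hx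
    have hxC : x ∈ C := (hCmem x).mpr (hx z hzQ).symm
    refine (hmemQ x).mpr ⟨hxC, ?_⟩
    apply hcentF
    rw [Subgroup.mem_centralizer_iff]
    intro f hf
    apply Subtype.ext
    exact hx (f : G) ⟨f, hf, rfl⟩
  have hconjQ : ∀ x ∈ C, ∀ q ∈ F.map C.subtype, x * q * x⁻¹ ∈ F.map C.subtype := by
    intro x hxC q hq
    obtain ⟨hqC, hqF⟩ := (hmemQ q).mp hq
    have := hFn.conj_mem _ hqF ⟨x, hxC⟩
    exact ⟨_, this, rfl⟩
  have hN : C ≤ Subgroup.normalizer ((F.map C.subtype : Subgroup G) : Set G) := by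
    intro x hxC
    rw [Subgroup.mem_normalizer_iff]
    intro q
    constructor
    · exact hconjQ x hxC q
    · intro hq
      have := hconjQ x⁻¹ (C.inv_mem hxC) _ hq
      have h2 : x⁻¹ * (x * q * x⁻¹) * x⁻¹⁻¹ = q := by group
      rwa [h2] at this
  have hN' : Subgroup.centralizer ({z} : Set G) ≤
      Subgroup.normalizer ((F.map C.subtype : Subgroup G) : Set G) := by
    rw [hCdef]; exact hN
  refine ⟨hzQ, hz2, hz1, hzc, hcm, hinv, ?_⟩
  intro h htQ
  by_cases hc0 : ∃ c₀ ∈ F.map C.subtype, (∀ q ∈ F.map C.subtype, q * c₀ = c₀ * q) ∧ c₀ * c₀ = z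
  · obtain ⟨c₀, hc₀Q, hc₀c, hc₀sq⟩ := hc0
    exact conj_mem_of_conj_inv_mem_cfour (F.map C.subtype) z hzQ hzc hz1 hz2 hcm hsq hinv
      c₀ hc₀Q hc₀c hc₀sq hCQ hN' h htQ
  · push Not at hc0
    have hf2 : Fact (Nat.Prime 2) := ⟨Nat.prime_two⟩
    have hP : IsPGroup 2 ↥(F.map C.subtype) := hQ.1.map C.subtype
    have hzQc : (⟨z, hzQ⟩ : ↥(F.map C.subtype)) ∈ Subgroup.center ↥(F.map C.subtype) := by
      rw [Subgroup.mem_center_iff]; intro q; exact Subtype.ext (hzc q q.2)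
    have hcenter : ∀ w : ↥(F.map C.subtype), w ∈ Subgroup.center ↥(F.map C.subtype) →
        w = 1 ∨ w = ⟨z, hzQ⟩ := by
      intro w hw
      have hcen : ∀ q ∈ F.map C.subtype, q * (w : G) = (w : G) * q := by
        intro q hq
        have := Subgroup.mem_center_iff.mp hw ⟨q, hq⟩
        exact congrArg Subtype.val this
      rcases hsq (w : G) w.2 with h1 | h1
      · rcases hinv (w : G) w.2 hcen h1 with h2 | h2
        · left; exact Subtype.ext h2
        · right; exact Subtype.ext h2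
      · exact absurd h1 (hc0 (w : G) w.2 hcen)
    have hcomm : commutator ↥(F.map C.subtype) ≤ Subgroup.center ↥(F.map C.subtype) := by
      rw [commutator_def, Subgroup.commutator_le]
      intro a _ b _
      rcases hcm (a : G) a.2 (b : G) b.2 with h1 | h1
      · have : ⁅a, b⁆ = 1 := by
          apply Subtype.ext
          simpa [commutatorElement_def] using h1
        rw [this]; exact Subgroup.one_mem _
      · have : ⁅a, b⁆ = ⟨z, hzQ⟩ := by
          apply Subtype.ext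
          simpa [commutatorElement_def] using h1
        rw [this]; exact hzQc
    have hcard : Nat.card (Subgroup.center ↥(F.map C.subtype)) = 2 := by
      rw [Nat.card_eq_two_iff]
      refine ⟨1, ⟨⟨z, hzQ⟩, hzQc⟩, ?_, ?_⟩
      · intro h0
        apply hz1
        have := congrArg (fun a : ↥(Subgroup.center ↥(F.map C.subtype)) => ((a : ↥(F.map C.subtype)) : G)) h0
        exact this.symm
      · ext w
        simp only [Set.mem_insert_iff, Set.mem_singleton_iff, Set.mem_univ, iff_true]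
        rcases hcenter (w : ↥(F.map C.subtype)) w.2 with h1 | h1
        · left; exact Subtype.ext h1
        · right; exact Subtype.ext h1
    have hsq' : ∀ x : ↥(F.map C.subtype), x ^ 2 ∈ Subgroup.center ↥(F.map C.subtype) := by
      intro x
      rcases hsq (x : G) x.2 with h1 | h1
      · have : x ^ 2 = 1 := by
          apply Subtype.ext
          simpa [pow_two] using h1
        rw [this]; exact Subgroup.one_mem _
      · have : x ^ 2 = ⟨z, hzQ⟩ := by
          apply Subtype.ext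
          simpa [pow_two] using h1
        rw [this]; exact hzQc
    exact conj_mem_of_conj_inv_mem (F.map C.subtype) hP hcomm hcard hsq' z hzQ hzc hz1 hCQ hN' h htQ

end Cfsg.Agent.Lib.Helper38
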