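import Mathlib
import Cfsg.Agent.Lib.Helper40.T1904Defs
import Cfsg.Agent.Lib.Helper32.Aut32A

/-!
# K-S1904-6d (for helper40's S1904): an extraspecial-like group of order 32 in which normal abelian
subgroups have at most four elements of square one has exactly eleven involutions.
-/

set_option autoImplicit false

namespace Cfsg.Agent.Lib.Helper38.T1904

open Cfsg.Agent.Lib.Helper40.T1904
open scoped commutatorElement

universe u_1

variable {X : Type u_1} [Group X]

/-- the data of a centre of order two -/
theorem exists_center_gen (hZ : Nat.card (Subgroup.center X) = 2) :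
    ∃ z : X, z ∈ Subgroup.center X ∧ z ≠ 1 ∧ z * z = 1 ∧
      ∀ c ∈ Subgroup.center X, c = 1 ∨ c = z := by
  obtain ⟨⟨z, hz⟩, hz1, huniq⟩ := (Nat.card_eq_two_iff' (1 : Subgroup.center X)).mp hZ
  have hz1' : z ≠ 1 := fun h => hz1 (Subtype.ext h)
  have hall : ∀ c ∈ Subgroup.center X, c = 1 ∨ c = z := by
    intro c hc
    by_cases h : c = 1
    · exact Or.inl h
    · right
      have := huniq ⟨c, hc⟩ (fun h' => h (congrArg Subtype.val h'))
      exact congrArg Subtype.val this
  refine ⟨z, hz, hz1', ?_, hall⟩
  rcases hall (z * z) (Subgroup.mul_mem _ hz hz) with h | h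
  · exact h
  · exfalso
    apply hz1'
    have : z * z = z * 1 := by rw [h, mul_one]
    exact mul_left_cancel this

theorem xs_thirtytwo [Finite X] {A : Subgroup (MulAut X)} (h : Ctx X A)
    (hna : ¬ IsMulCommutative X) (hea : EAmodZ X) (hZ : Nat.card (Subgroup.center X) = 2)
    (h32 : Nat.card X = 32) : Nat.card {x : X // orderOf x = 2} = 11 := by
  classical
  obtain ⟨z, hzc, hz1, hzz, hall⟩ := exists_center_gen hZ
  have hzcomm : ∀ a : X, a * z = z * a := fun a => (Subgroup.mem_center_iff.mp hzc a)
  have hcz : ∀ c ∈ Subgroup.center X, c ∈ Subgroup.zpowers z := by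
    intro c hc
    rcases hall c hc with rfl | rfl
    · exact one_mem _
    · exact Subgroup.mem_zpowers _
  have hxs : Cfsg.Agent.Lib.Helper32.IsXS 2 (⊤ : Subgroup X) z :=
    { z_mem := Subgroup.mem_top z
      z_ne := hz1
      z_pow := by rw [pow_two]; exact hzz
      z_comm := fun a _ => hzcomm a
      comm_mem := fun a _ b _ => hcz _ (hea.2 a b)
      pow_mem := fun a _ => by rw [pow_two]; exact hcz _ (hea.1 a)
      center := fun a _ ha => hcz a (Subgroup.mem_center_iff.mpr fun g => (ha g (Subgroup.mem_top g)).symm) }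
  have hminus : ∀ E : Subgroup X, (∀ a ∈ E, ∀ b ∈ E, a * b = b * a) → (∀ a ∈ E, a * a = 1) →
      Nat.card E ≤ 4 := by
    intro E hEc hEs
    set N : Subgroup X := E ⊔ Subgroup.center X with hN
    have hmem : ∀ n ∈ N, ∃ e ∈ E, ∃ c ∈ Subgroup.center X, n = e * c := by
      intro n hn
      rw [hN, Subgroup.mem_sup_of_normal_right] at hn
      obtain ⟨e, he, c, hc, rfl⟩ := hn
      exact ⟨e, he, c, hc, rfl⟩
    have hNn : N.Normal := by
      constructor
      intro n hn g
      have h1 : g * n * g⁻¹ = ⁅g, n⁆ * n := by
        rw [commutatorElement_def]; group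
      rw [h1]
      exact N.mul_mem (le_sup_right (a := E) (hea.2 g n)) hn
    have hNab : Ab N := by
      intro a ha b hb
      obtain ⟨e, he, c, hc, rfl⟩ := hmem a ha
      obtain ⟨e', he', c', hc', rfl⟩ := hmem b hb
      have hc1 : ∀ g : X, g * c = c * g := fun g => Subgroup.mem_center_iff.mp hc g
      have hc2 : ∀ g : X, g * c' = c' * g := fun g => Subgroup.mem_center_iff.mp hc' g
      calc e * c * (e' * c') = e * (c * e') * c' := by group
        _ = e * (e' * c) * c' := by rw [hc1 e']
        _ = (e * e') * (c * c') := by group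
        _ = (e' * e) * (c' * c) := by rw [hEc e he e' he', hc2 c]
        _ = e' * (e * c') * c := by group
        _ = e' * (c' * e) * c := by rw [hc2 e]
        _ = e' * c' * (e * c) := by group
    have hR := h.hR N hNn hNab
    have hinj : Function.Injective
        (fun e : E => (⟨e.1, le_sup_left (a := E) e.2, hEs e.1 e.2⟩ :
          {t : X // t ∈ N ∧ t * t = 1})) := by
      intro a b hab
      exact Subtype.ext (congrArg (fun t : {t : X // t ∈ N ∧ t * t = 1} => t.1) hab)
    exact (Nat.card_le_card_of_injective _ hinj).trans hR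
  have hM : Cfsg.Agent.Lib.Helper32.Aut32.M32 X z := ⟨hxs, h32, hminus⟩
  have h12 := hM.card_sq_one
  have : Fintype X := Fintype.ofFinite X
  rw [Nat.card_eq_fintype_card, Fintype.card_subtype] at h12 ⊢
  have hsplit : (Finset.univ.filter fun e : X => e * e = 1) =
      insert 1 (Finset.univ.filter fun x : X => orderOf x = 2) := by
    ext e
    simp only [Finset.mem_filter, Finset.mem_univ, true_and, Finset.mem_insert]
    rw [orderOf_eq_prime_iff (p := 2), pow_two]
    constructor
    · intro he
      by_cases h1 : e = 1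
      · exact Or.inl h1
      · exact Or.inr ⟨he, h1⟩
    · rintro (rfl | ⟨he, -⟩)
      · exact mul_one 1
      · exact he
  have hnot : (1 : X) ∉ Finset.univ.filter fun x : X => orderOf x = 2 := by
    simp
  rw [hsplit, Finset.card_insert_of_notMem hnot] at h12
  omega

end Cfsg.Agent.Lib.Helper38.T1904
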