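import Mathlib
import Cfsg.Agent.Lib.Helper38.Conj
import Cfsg.Agent.Lib.Helper03.PGroupFrattini
import Cfsg.Agent.S1782

set_option autoImplicit false

namespace Cfsg.Agent.Lib.Helper38

variable {X : Type*} [Group X]

/-- Relative form of `S1782`: a family `Δ` of subgroups of a 2-subgroup `P` of a finite group, closed
under `P`-conjugation, of constant order, each with a non-involution, pairwise TI: distinct members
commute. -/
theorem ti_family_commute [Finite X] (P : Subgroup X) (hP : IsPGroup 2 ↥P) (Δ : Set (Subgroup X))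
    (hle : ∀ R ∈ Δ, R ≤ P)
    (hinv : ∀ s ∈ P, ∀ R ∈ Δ, R.map (MulAut.conj s).toMonoidHom ∈ Δ)
    (hsq : ∀ R ∈ Δ, ∃ r ∈ R, r ^ 2 ≠ 1)
    (hord : ∀ R ∈ Δ, ∀ T ∈ Δ, Nat.card ↥R = Nat.card ↥T)
    (hti : ∀ R ∈ Δ, ∀ T ∈ Δ, R = T ∨ R ⊓ T = ⊥) :
    ∀ R ∈ Δ, ∀ T ∈ Δ, R ≠ T → ⁅R, T⁆ = ⊥ := by
  have : Fact (Nat.Prime 2) := ⟨Nat.prime_two⟩
  have hinj : Function.Injective P.subtype := P.subtype_injective
  set Δ' : Set (Subgroup ↥P) := {R' | R'.map P.subtype ∈ Δ} with hΔ'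
  have hinv' : ∀ s : ↥P, ∀ R' ∈ Δ', R'.map (MulAut.conj s).toMonoidHom ∈ Δ' := by
    intro s R' hR'
    show (R'.map (MulAut.conj s).toMonoidHom).map P.subtype ∈ Δ
    have hcomp : P.subtype.comp (MulAut.conj s).toMonoidHom
        = (MulAut.conj (s : X)).toMonoidHom.comp P.subtype := by
      ext x
      simp
    rw [Subgroup.map_map, hcomp, ← Subgroup.map_map]
    exact hinv s s.2 _ hR'
  have hΦ' : ∀ R' ∈ Δ', frattini ↥R' ≠ ⊥ := by
    intro R' hR' hbot
    obtain ⟨r, hr, hr2⟩ := hsq _ hR'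
    obtain ⟨r', hr', rfl⟩ := hr
    have hPR : IsPGroup 2 ↥R' := hP.to_subgroup R'
    have hmem := Cfsg.Agent.Lib.Helper03.pow_mem_frattini_of_isPGroup hPR (⟨r', hr'⟩ : ↥R')
    rw [hbot, Subgroup.mem_bot] at hmem
    apply hr2
    have h1 : (r' : ↥P) ^ 2 = 1 := by
      have := congrArg (Subtype.val) hmem
      simpa using this
    have h2 := congrArg (P.subtype) h1
    simpa using h2
  have hord' : ∀ R' ∈ Δ', ∀ T' ∈ Δ', Nat.card ↥R' = Nat.card ↥T' := by
    intro R' hR' T' hT'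
    have h1 : Nat.card ↥(R'.map P.subtype) = Nat.card ↥R' := Subgroup.card_map_of_injective hinj
    have h2 : Nat.card ↥(T'.map P.subtype) = Nat.card ↥T' := Subgroup.card_map_of_injective hinj
    rw [← h1, ← h2]
    exact hord _ hR' _ hT'
  have hti' : ∀ R' ∈ Δ', ∀ T' ∈ Δ', R' = T' ∨ R' ⊓ T' = ⊥ := by
    intro R' hR' T' hT'
    rcases hti _ hR' _ hT' with h | h
    · left
      exact Subgroup.map_injective hinj h
    · right
      rw [← Subgroup.map_inf _ _ _ hinj] at h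
      exact (Subgroup.map_eq_bot_iff_of_injective _ hinj).mp h
  intro R hR T hT hne
  have hR' : (R.subgroupOf P).map P.subtype = R := Subgroup.map_subgroupOf_eq_of_le (hle R hR)
  have hT' : (T.subgroupOf P).map P.subtype = T := Subgroup.map_subgroupOf_eq_of_le (hle T hT)
  have hRm : R.subgroupOf P ∈ Δ' := by
    show (R.subgroupOf P).map P.subtype ∈ Δ
    rw [hR']; exact hR
  have hTm : T.subgroupOf P ∈ Δ' := by
    show (T.subgroupOf P).map P.subtype ∈ Δ
    rw [hT']; exact hT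
  have hne' : R.subgroupOf P ≠ T.subgroupOf P := by
    intro h
    apply hne
    rw [← hR', ← hT', h]
  have key := Cfsg.Agent.S1782.result hP Δ' hinv' hΦ' hord' hti' _ hRm _ hTm hne'
  have := congrArg (Subgroup.map P.subtype) key
  rw [Subgroup.map_commutator, hR', hT', Subgroup.map_bot] at this
  exact this

/-- Conjugates of an abelian TI-subgroup `A` (with a non-involution) lying in a common 2-subgroup
commute elementwise. -/
theorem ti_conj_commute [Finite X] (A : Subgroup X) (hAa : IsMulCommutative ↥A)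
    (hti : ∀ h : X, A.map (MulAut.conj h).toMonoidHom = A ∨
      A.map (MulAut.conj h).toMonoidHom ⊓ A = ⊥)
    (a0 : X) (ha0 : a0 ∈ A) (ha02 : a0 ^ 2 ≠ 1) (P : Subgroup X) (hP : IsPGroup 2 ↥P) (g h : X)
    (hg : A.map (MulAut.conj g).toMonoidHom ≤ P) (hh : A.map (MulAut.conj h).toMonoidHom ≤ P) :
    A.map (MulAut.conj g).toMonoidHom ≤
      Subgroup.centralizer ((A.map (MulAut.conj h).toMonoidHom : Subgroup X) : Set X) := by
  by_cases heq : A.map (MulAut.conj g).toMonoidHom = A.map (MulAut.conj h).toMonoidHom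
  · rw [← heq]
    intro x hx
    rw [Subgroup.mem_centralizer_iff]
    intro y hy
    rw [SetLike.mem_coe, mem_map_conj] at hy
    rw [mem_map_conj] at hx
    have hc : (g⁻¹ * y * g) * (g⁻¹ * x * g) = (g⁻¹ * x * g) * (g⁻¹ * y * g) := by
      have := hAa.is_comm.comm (⟨_, hy⟩ : ↥A) ⟨_, hx⟩
      exact congrArg Subtype.val this
    have h1 : y * x = g * ((g⁻¹ * y * g) * (g⁻¹ * x * g)) * g⁻¹ := by group
    have h2 : x * y = g * ((g⁻¹ * x * g) * (g⁻¹ * y * g)) * g⁻¹ := by group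
    rw [h1, h2, hc]
  · set Δ : Set (Subgroup X) := {R | R ≤ P ∧ ∃ k : X, R = A.map (MulAut.conj k).toMonoidHom} with hΔ
    have hle : ∀ R ∈ Δ, R ≤ P := fun R hR => hR.1
    have hinv : ∀ s ∈ P, ∀ R ∈ Δ, R.map (MulAut.conj s).toMonoidHom ∈ Δ := by
      rintro s hs R ⟨hRP, k, rfl⟩
      refine ⟨?_, s * k, map_conj_conj A k s⟩
      intro y hy
      rw [mem_map_conj] at hy
      have h1 : y = s * (s⁻¹ * y * s) * s⁻¹ := by group
      rw [h1]
      exact P.mul_mem (P.mul_mem hs (hRP hy)) (P.inv_mem hs)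
    have hsq : ∀ R ∈ Δ, ∃ r ∈ R, r ^ 2 ≠ 1 := by
      rintro R ⟨_, k, rfl⟩
      refine ⟨k * a0 * k⁻¹, conj_mem_map_conj A k a0 ha0, ?_⟩
      intro h1
      apply ha02
      have h2 : (k * a0 * k⁻¹) ^ 2 = k * a0 ^ 2 * k⁻¹ := by rw [sq, sq]; group
      rw [h2] at h1
      have h3 : a0 ^ 2 = k⁻¹ * (k * a0 ^ 2 * k⁻¹) * k := by group
      rw [h3, h1]; group
    have hord : ∀ R ∈ Δ, ∀ T ∈ Δ, Nat.card ↥R = Nat.card ↥T := by
      rintro R ⟨_, k, rfl⟩ T ⟨_, l, rfl⟩
      rw [card_map_conj, card_map_conj]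
    have hti' : ∀ R ∈ Δ, ∀ T ∈ Δ, R = T ∨ R ⊓ T = ⊥ := by
      rintro R ⟨_, k, rfl⟩ T ⟨_, l, rfl⟩
      have := ti_conj A hti k (l * k⁻¹)
      rw [map_conj_conj] at this
      have hlk : l * k⁻¹ * k = l := by group
      rw [hlk] at this
      rcases this with h1 | h1
      · left; exact h1.symm
      · right; rw [inf_comm]; exact h1
    have key := ti_family_commute P hP Δ hle hinv hsq hord hti' _ ⟨hg, g, rfl⟩ _ ⟨hh, h, rfl⟩ heq
    exact Subgroup.commutator_eq_bot_iff_le_centralizer.mp key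

end Cfsg.Agent.Lib.Helper38
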