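import Mathlib
import Cfsg.Prelude.Def_TwoFusion
import Cfsg.Prelude.Def_CaseTheorems
import Cfsg.Prelude.Def_Solvable
import Cfsg.Agent.Lib.Helper27.Isolated
import Cfsg.Agent.Lib.Helper42.PPrimeCore
import Cfsg.Agent.Lib.Helper77.HallSylow

/-!
# Consequences of Glauberman's `Z*`-theorem

Everything here takes the statement of the `Z*`-theorem (for involutions, statement S0215) as an
explicit hypothesis `ZStarHyp`, so that the corollaries can be closed as soon as that statement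
is available.
-/

set_option autoImplicit false

namespace Cfsg.Agent.Lib.Helper38.ZStarCor

open Cfsg

universe u

/-- The statement of Glauberman's `Z*`-theorem for groups in universe `u`. -/
def ZStarHyp : Prop :=
  ∀ (G : Type u) [Group G] [Finite G] (P : Sylow 2 G) (t : G), orderOf t = 2 → t ∈ P →
    (∀ g : G, g * t * g⁻¹ ∈ P → g * t * g⁻¹ = t) →
    ∃ N : Subgroup G, N.Normal ∧ Odd (Nat.card N) ∧ ∀ g : G, (t * g * t⁻¹ * g⁻¹) ∈ N

section basic

variable {G : Type u} [Group G]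

/-- an element of a `2`-group whose order is odd is trivial -/
theorem eq_one_of_mem_sylow_of_odd (P : Sylow 2 G) {x : G} (hx : x ∈ P) (ho : Odd (orderOf x)) :
    x = 1 := by
  obtain ⟨k, hk⟩ := (IsPGroup.iff_orderOf.mp P.isPGroup') ⟨x, hx⟩
  have h1 : orderOf x = 2 ^ k := by
    rw [← hk]; exact (Subgroup.orderOf_mk x hx).symm
  rcases Nat.eq_zero_or_pos k with h0 | hpos
  · rw [h0, pow_zero] at h1; exact orderOf_eq_one_iff.mp h1
  · exfalso
    rw [h1] at ho
    have : Even (2 ^ k) := (Nat.even_pow.mpr ⟨even_two, hpos.ne'⟩)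
    exact (Nat.not_odd_iff_even.mpr this) ho

/-- `Z*` for an isolated involution (in the sense of `Cfsg.IsIsolatedInvolution`). -/
theorem zstar_isolated [Finite G] (hZ : ZStarHyp.{u}) (z : G) (hz : IsIsolatedInvolution z) :
    ∃ N : Subgroup G, N.Normal ∧ Odd (Nat.card N) ∧ ∀ g : G, (z * g * z⁻¹ * g⁻¹) ∈ N := by
  have h2 : IsPGroup 2 (Subgroup.zpowers z) :=
    IsPGroup.of_card (n := 1) (by rw [Nat.card_zpowers, hz.1, pow_one])
  obtain ⟨P, hP⟩ := h2.exists_le_sylow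
  have hzP : z ∈ P := hP (Subgroup.mem_zpowers z)
  refine hZ G P z hz.1 hzP ?_
  intro g hg
  have hodd := Cfsg.Agent.Lib.Helper27.odd_orderOf_conj_mul hz g
  have hmem : g * z * g⁻¹ * z ∈ P := P.mul_mem hg hzP
  have h1 := eq_one_of_mem_sylow_of_odd P hmem hodd
  have hzinv : z⁻¹ = z := Cfsg.Agent.Lib.Helper27.iso_inv hz
  calc g * z * g⁻¹ = (g * z * g⁻¹ * z) * z⁻¹ := by group
    _ = z := by rw [h1, one_mul, hzinv]

/-- a normal subgroup of odd order lies in the odd core -/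
theorem le_oddCore_of_normal_of_odd (N : Subgroup G) [hN : N.Normal] (ho : Odd (Nat.card N)) :
    N ≤ oddCore G := by
  apply le_sSup
  refine ⟨hN, ?_⟩
  exact Nat.coprime_two_right.mpr ho

/-- The soluble `Z*`-theorem (S1188) from `Z*`. -/
theorem soluble_zstar [Finite G] (hZ : ZStarHyp.{u}) (z : G) (hz : IsIsolatedInvolution z) :
    ∀ g : G, z * g * z⁻¹ * g⁻¹ ∈ oddCore G := by
  obtain ⟨N, hN, ho, h⟩ := zstar_isolated hZ z hz
  intro g
  exact le_oddCore_of_normal_of_odd N ho (h g)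

end basic

section inverted

variable {G : Type u} [Group G]

/-- For an involution `d` normalizing the odd-order subgroup `X`, the number of elements of `X`
inverted by `d` is the index of `C_X(d)` in `X`. -/
theorem card_inverted_eq_relIndex [Finite G] (X : Subgroup G) (hodd : Odd (Nat.card X)) (d : G)
    (hd : d * d = 1) (hn : ∀ x ∈ X, d * x * d⁻¹ ∈ X) :
    Nat.card {x : G // x ∈ X ∧ d * x * d⁻¹ = x⁻¹} =
      (X ⊓ Subgroup.centralizer ({d} : Set G)).relIndex X := by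
  classical
  have hdinv : d⁻¹ = d := inv_eq_of_mul_eq_one_right hd
  set C : Subgroup X := (X ⊓ Subgroup.centralizer ({d} : Set G)).subgroupOf X with hC
  -- the map `x ↦ x * (d * x⁻¹ * d⁻¹)`
  have hf1 : ∀ x : X, (x : G) * (d * (x : G)⁻¹ * d⁻¹) ∈ X := fun x =>
    X.mul_mem x.2 (hn _ (X.inv_mem x.2))
  have hf2 : ∀ x : X, d * ((x : G) * (d * (x : G)⁻¹ * d⁻¹)) * d⁻¹ =
      ((x : G) * (d * (x : G)⁻¹ * d⁻¹))⁻¹ := by
    intro x
    rw [hdinv]
    have e1 : d * ((x : G) * (d * (x : G)⁻¹ * d)) * d = d * x * d * (x : G)⁻¹ * (d * d) := by group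
    have e2 : ((x : G) * (d * (x : G)⁻¹ * d))⁻¹ = d⁻¹ * x * d⁻¹ * (x : G)⁻¹ := by group
    rw [e1, e2, hd, mul_one, hdinv]
  let f : X → {x : G // x ∈ X ∧ d * x * d⁻¹ = x⁻¹} := fun x =>
    ⟨(x : G) * (d * (x : G)⁻¹ * d⁻¹), hf1 x, hf2 x⟩
  have hfiber : ∀ x y : X, f x = f y ↔ x⁻¹ * y ∈ C := by
    intro x y
    rw [hC, Subgroup.mem_subgroupOf, Subgroup.mem_inf, Subgroup.mem_centralizer_singleton_iff]
    simp only [f, Subtype.mk.injEq, Subgroup.coe_mul, Subgroup.coe_inv]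
    constructor
    · intro h
      refine ⟨X.mul_mem (X.inv_mem x.2) y.2, ?_⟩
      -- x d x⁻¹ = y d y⁻¹
      have h' : (x : G) * d * (x : G)⁻¹ = (y : G) * d * (y : G)⁻¹ := by
        have := congrArg (fun t => t * d) h
        calc (x : G) * d * (x : G)⁻¹ = (x : G) * (d * (x : G)⁻¹ * d⁻¹) * d := by group
          _ = (y : G) * (d * (y : G)⁻¹ * d⁻¹) * d := this
          _ = (y : G) * d * (y : G)⁻¹ := by group
      symm
      calc d * ((x : G)⁻¹ * (y : G)) = (x : G)⁻¹ * ((x : G) * d * (x : G)⁻¹) * (y : G) := by group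
        _ = (x : G)⁻¹ * ((y : G) * d * (y : G)⁻¹) * (y : G) := by rw [h']
        _ = (x : G)⁻¹ * (y : G) * d := by group
    · rintro ⟨-, h⟩
      have h' : (x : G) * d * (x : G)⁻¹ = (y : G) * d * (y : G)⁻¹ := by
        calc (x : G) * d * (x : G)⁻¹ = (x : G) * (d * ((x : G)⁻¹ * (y : G))) * (y : G)⁻¹ := by group
          _ = (x : G) * ((x : G)⁻¹ * (y : G) * d) * (y : G)⁻¹ := by rw [← h]
          _ = (y : G) * d * (y : G)⁻¹ := by group
      calc (x : G) * (d * (x : G)⁻¹ * d⁻¹) = ((x : G) * d * (x : G)⁻¹) * d⁻¹ := by group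
        _ = ((y : G) * d * (y : G)⁻¹) * d⁻¹ := by rw [h']
        _ = (y : G) * (d * (y : G)⁻¹ * d⁻¹) := by group
  have hsurj : Function.Surjective f := by
    rintro ⟨k, hkX, hk⟩
    -- `k` has odd order
    have hko : Odd (orderOf k) := by
      have h1 : orderOf k ∣ Nat.card X := by
        have := orderOf_dvd_natCard (⟨k, hkX⟩ : X)
        rwa [Subgroup.orderOf_mk] at this
      exact Odd.of_dvd_nat hodd h1
    obtain ⟨m, hm⟩ := hko
    -- h = k^(m+1), h*h = k
    have hpow : k ^ (m + 1) * k ^ (m + 1) = k := by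
      rw [← pow_add]
      have : m + 1 + (m + 1) = orderOf k + 1 := by omega
      rw [this, pow_succ, pow_orderOf_eq_one, one_mul]
    have hinvpow : d * k ^ (m + 1) * d⁻¹ = (k ^ (m + 1))⁻¹ := by
      have : d * k ^ (m + 1) * d⁻¹ = (d * k * d⁻¹) ^ (m + 1) := by
        rw [conj_pow]
      rw [this, hk, inv_pow]
    refine ⟨⟨k ^ (m + 1), X.pow_mem hkX _⟩, ?_⟩
    simp only [f, Subtype.mk.injEq]
    have : d * (k ^ (m + 1))⁻¹ * d⁻¹ = k ^ (m + 1) := by
      have h2 : d * (k ^ (m + 1))⁻¹ * d⁻¹ = (d * k ^ (m + 1) * d⁻¹)⁻¹ := by group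
      rw [h2, hinvpow, inv_inv]
    rw [this, hpow]
  -- pass to the quotient
  have hrel : (X ⊓ Subgroup.centralizer ({d} : Set G)).relIndex X = Nat.card (X ⧸ C) := by
    rw [Subgroup.relIndex, Subgroup.index, hC]
  rw [hrel]
  symm
  let g : X ⧸ C → {x : G // x ∈ X ∧ d * x * d⁻¹ = x⁻¹} :=
    Quotient.lift f (fun a b hab => (hfiber a b).mpr (QuotientGroup.leftRel_apply.mp hab))
  refine Nat.card_congr (Equiv.ofBijective g ⟨?_, ?_⟩)
  · intro a b
    refine Quotient.inductionOn₂ a b ?_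
    intro x y hxy
    have : f x = f y := hxy
    exact Quotient.sound (QuotientGroup.leftRel_apply.mpr ((hfiber x y).mp this))
  · intro k
    obtain ⟨x, hx⟩ := hsurj k
    exact ⟨Quotient.mk _ x, hx⟩

end inverted

section oddp

open Cfsg.Agent.Lib.Helper01 Cfsg.Agent.Lib.Helper77

variable {G : Type u} [Group G]

theorem centralizer_zpowers_eq (d : G) :
    Subgroup.centralizer ((Subgroup.zpowers d : Subgroup G) : Set G) =
      Subgroup.centralizer ({d} : Set G) := by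
  ext x
  rw [Subgroup.mem_centralizer_iff, Subgroup.mem_centralizer_singleton_iff]
  constructor
  · intro h
    exact (h d (Subgroup.mem_zpowers d)).symm
  · intro h a ha
    obtain ⟨k, rfl⟩ := Subgroup.mem_zpowers_iff.mp ha
    have hc : Commute x d := h
    exact (hc.zpow_right k).eq.symm

/-- arithmetic: `p^j * a = b * p^m` with `p ∤ a`, `p ∤ b` forces `j = m` -/
theorem pow_eq_of_mul_eq {p : ℕ} (hp : p.Prime) {j m a b : ℕ} (ha : ¬ p ∣ a) (hb : ¬ p ∣ b)
    (h : p ^ j * a = b * p ^ m) : j = m := by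
  have hca : Nat.Coprime (p ^ m) a := (Nat.Prime.coprime_iff_not_dvd hp).mpr ha |>.pow_left m
  have hcb : Nat.Coprime (p ^ j) b := (Nat.Prime.coprime_iff_not_dvd hp).mpr hb |>.pow_left j
  have h1 : p ^ j ∣ p ^ m := by
    have : p ^ j ∣ b * p ^ m := ⟨a, h.symm⟩
    exact hcb.dvd_of_dvd_mul_left this
  have h2 : p ^ m ∣ p ^ j := by
    have : p ^ m ∣ p ^ j * a := ⟨b, by rw [h, mul_comm]⟩
    exact hca.dvd_of_dvd_mul_right this
  have l1 := (Nat.pow_dvd_pow_iff_le_right hp.one_lt).mp h1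
  have l2 := (Nat.pow_dvd_pow_iff_le_right hp.one_lt).mp h2
  omega

/-- Core of S5560: an odd-order normal subgroup `M` normalized by the involution `d`, all of whose
`d`-inverted elements are `p`-elements and which is generated by `d`-inverted elements, is a
`p`-group. -/
theorem isPGroup_of_inverted_pElements [Finite G] {p : ℕ} (hp : p.Prime)
    (d : G) (hd : orderOf d = 2) (M : Subgroup G) [hMn : M.Normal] (hModd : Odd (Nat.card M))
    (hKp : ∀ x ∈ M, d * x * d⁻¹ = x⁻¹ → ∃ k : ℕ, orderOf x = p ^ k)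
    (hgen : ∀ S : Subgroup G, (∀ x ∈ M, d * x * d⁻¹ = x⁻¹ → x ∈ S) → M ≤ S) :
    IsPGroup p M := by
  classical
  have : Fact p.Prime := ⟨hp⟩
  have hdd : d * d = 1 := by rw [← sq, ← hd, pow_orderOf_eq_one]
  have hdinv : d⁻¹ = d := inv_eq_of_mul_eq_one_right hdd
  set A : Subgroup G := Subgroup.zpowers d with hA
  have hAcard : Nat.card A = 2 := by rw [hA, Nat.card_zpowers, hd]
  have hAM : A ≤ Subgroup.normalizer (M : Set G) := by
    rw [Subgroup.normalizer_eq_top]; exact le_top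
  have hcop : (Nat.card A).Coprime (Nat.card M) := by
    rw [hAcard]; exact Nat.coprime_two_left.mpr hModd
  have hsolv : Group.IsSolvable A ∨ Group.IsSolvable M := Or.inl inferInstance
  have hCeq := centralizer_zpowers_eq d
  set C : Subgroup G := Subgroup.centralizer ({d} : Set G) with hC
  -- `d` normalizes `M`
  have hdM : ∀ x ∈ M, d * x * d⁻¹ ∈ M := fun x hx => hMn.conj_mem x hx d
  -- primes other than `p` do not divide `|M : C_M(d)|`
  have hqnd : ∀ q : ℕ, q.Prime → q ≠ p → ¬ q ∣ (M ⊓ C).relIndex M := by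
    intro q hq hqp
    have : Fact q.Prime := ⟨hq⟩
    obtain ⟨Q, hQ, hAQ⟩ := exists_invariant_isSylowIn (A := A) (K := M) q hAM hcop hsolv
    have hdQ : ∀ x ∈ Q, d * x * d⁻¹ ∈ Q := by
      intro x hx
      exact (Subgroup.mem_normalizer_iff.mp (hAQ (Subgroup.mem_zpowers d)) x).mp hx
    have hQC : Q ≤ M ⊓ C := by
      intro x hx
      refine ⟨hQ.1 hx, ?_⟩
      -- y = x⁻¹ (d x d⁻¹) is inverted
      set y := x⁻¹ * (d * x * d⁻¹) with hy
      have hyQ : y ∈ Q := Q.mul_mem (Q.inv_mem hx) (hdQ x hx)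
      have hyinv : d * y * d⁻¹ = y⁻¹ := by
        rw [hy, hdinv]
        have e1 : d * (x⁻¹ * (d * x * d)) * d = d * x⁻¹ * d * x * (d * d) := by group
        have e2 : (x⁻¹ * (d * x * d))⁻¹ = d⁻¹ * x⁻¹ * d⁻¹ * x := by group
        rw [e1, e2, hdd, mul_one, hdinv]
      obtain ⟨k, hk⟩ := hKp y (hQ.1 hyQ) hyinv
      obtain ⟨j, hj⟩ := (IsPGroup.iff_orderOf.mp hQ.2.1) ⟨y, hyQ⟩
      have hj' : orderOf y = q ^ j := by rw [← hj]; exact (Subgroup.orderOf_mk y hyQ).symm
      have hk0 : k = 0 := by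
        by_contra hk0
        have : p ∣ q ^ j := by rw [← hj', hk]; exact dvd_pow_self p hk0
        have := (Nat.prime_dvd_prime_iff_eq hp hq).mp (hp.dvd_of_dvd_pow this)
        exact hqp this.symm
      rw [hk0, pow_zero] at hk
      have hy1 : y = 1 := orderOf_eq_one_iff.mp hk
      show x ∈ Subgroup.centralizer ({d} : Set G)
      rw [Subgroup.mem_centralizer_singleton_iff]
      have : d * x * d⁻¹ = x := by
        have : x * y = x := by rw [hy1, mul_one]
        rw [hy] at this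
        rw [← mul_assoc, mul_inv_cancel, one_mul] at this
        exact this
      calc x * d = (d * x * d⁻¹) * d := by rw [this]
        _ = d * x := by group
    have hmul := Subgroup.relIndex_mul_relIndex Q (M ⊓ C) M hQC inf_le_left
    intro hdvd
    exact hQ.2.2 (hmul ▸ Dvd.dvd.mul_left hdvd _)
  -- hence the index is a power of `p`
  have hr0 : (M ⊓ C).relIndex M ≠ 0 := by
    rw [Subgroup.relIndex]; exact Subgroup.index_ne_zero_of_finite
  have hrpow : ∃ m : ℕ, (M ⊓ C).relIndex M = p ^ m :=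
    ⟨_, Nat.eq_prime_pow_of_unique_prime_dvd hr0 (fun {q} hq hqd => by
      by_contra hne; exact hqnd q hq hne hqd)⟩
  obtain ⟨m, hm⟩ := hrpow
  -- an invariant Sylow p-subgroup
  obtain ⟨S, hS, hAS⟩ := exists_invariant_isSylowIn (A := A) (K := M) p hAM hcop hsolv
  have hdS : ∀ x ∈ S, d * x * d⁻¹ ∈ S := by
    intro x hx
    exact (Subgroup.mem_normalizer_iff.mp (hAS (Subgroup.mem_zpowers d)) x).mp hx
  have hSC := isSylowIn_inf_centralizer (A := A) (K := M) (Q := S) p hAM hcop hsolv hS hAS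
  rw [hCeq] at hSC
  -- counting
  have hSodd : Odd (Nat.card S) := Odd.of_dvd_nat hModd (Subgroup.card_dvd_of_le hS.1)
  have cK_M := card_inverted_eq_relIndex M hModd d hdd hdM
  have cK_S := card_inverted_eq_relIndex S hSodd d hdd hdS
  have e1 := card_mul_relIndex (H := M ⊓ C) (K := M) inf_le_left
  have e2 := card_mul_relIndex (H := S ⊓ C) (K := S) inf_le_left
  have e3 := card_mul_relIndex (H := S) (K := M) hS.1
  have e4 := card_mul_relIndex (H := S ⊓ C) (K := M ⊓ C) hSC.1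
  obtain ⟨s, hs⟩ := (IsPGroup.iff_card.mp hS.2.1)
  have hrS : ∃ j : ℕ, (S ⊓ C).relIndex S = p ^ j := by
    have : (S ⊓ C).relIndex S ∣ p ^ s := by rw [← hs, ← e2]; exact Dvd.intro_left _ rfl
    obtain ⟨j, -, hj⟩ := (Nat.dvd_prime_pow hp).mp this
    exact ⟨j, hj⟩
  obtain ⟨j, hj⟩ := hrS
  have hpos : 0 < Nat.card (S ⊓ C : Subgroup G) := Nat.card_pos
  have hjm : j = m := by
    apply pow_eq_of_mul_eq hp hS.2.2 hSC.2.2
    -- |S⊓C| * p^j * a = |S⊓C| * b * p^m
    have : Nat.card (S ⊓ C : Subgroup G) * (p ^ j * S.relIndex M) =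
        Nat.card (S ⊓ C : Subgroup G) * ((S ⊓ C).relIndex (M ⊓ C) * p ^ m) := by
      calc Nat.card (S ⊓ C : Subgroup G) * (p ^ j * S.relIndex M)
          = (Nat.card (S ⊓ C : Subgroup G) * (S ⊓ C).relIndex S) * S.relIndex M := by
            rw [hj]; ring
        _ = Nat.card M := by rw [e2, e3]
        _ = Nat.card (M ⊓ C : Subgroup G) * (M ⊓ C).relIndex M := e1.symm
        _ = Nat.card (S ⊓ C : Subgroup G) * ((S ⊓ C).relIndex (M ⊓ C) * p ^ m) := by
            rw [← e4, hm]; ring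
    exact Nat.eq_of_mul_eq_mul_left hpos this
  -- the inverted elements of `M` all lie in `S`
  have hKS : ∀ x ∈ M, d * x * d⁻¹ = x⁻¹ → x ∈ S := by
    let ι : {x : G // x ∈ S ∧ d * x * d⁻¹ = x⁻¹} → {x : G // x ∈ M ∧ d * x * d⁻¹ = x⁻¹} :=
      fun x => ⟨x.1, hS.1 x.2.1, x.2.2⟩
    have hinj : Function.Injective ι := by
      intro a b hab
      apply Subtype.ext
      have h1 : (ι a).1 = (ι b).1 := by rw [hab]
      exact h1
    have hcard : Nat.card {x : G // x ∈ M ∧ d * x * d⁻¹ = x⁻¹} ≤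
        Nat.card {x : G // x ∈ S ∧ d * x * d⁻¹ = x⁻¹} := by
      rw [cK_M, cK_S, hm, hj, hjm]
    have hbij : Function.Bijective ι := by
      rw [Nat.bijective_iff_injective_and_card]
      refine ⟨hinj, le_antisymm (Nat.card_le_card_of_injective ι hinj) hcard⟩
    intro x hxM hx
    obtain ⟨y, hy⟩ := hbij.2 ⟨x, hxM, hx⟩
    have : (y : G) = x := by
      have h1 : (ι y).1 = x := by rw [hy]
      exact h1
    rw [← this]; exact y.2.1
  exact hS.2.1.to_le (hgen S hKS)

/-- S5560 from `Z*`: if all products of two conjugates of the involution `d` are `p`-elements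
(`p` odd), these products lie in `O_p(G)`. -/
theorem zstar_odd_prime [Finite G] (hZ : ZStarHyp.{u}) {p : ℕ} (hp : p.Prime) (hp2 : p ≠ 2)
    (d : G) (hd : orderOf d = 2)
    (hprod : ∀ a ∈ conjugatesOf d, ∀ b ∈ conjugatesOf d, ∃ k : ℕ, orderOf (a * b) = p ^ k) :
    ∀ a ∈ conjugatesOf d, ∀ b ∈ conjugatesOf d, a * b ∈ Cfsg.pCore p G := by
  classical
  have hdd : d * d = 1 := by rw [← sq, ← hd, pow_orderOf_eq_one]
  have hdinv : d⁻¹ = d := inv_eq_of_mul_eq_one_right hdd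
  have hdc : d ∈ conjugatesOf d := mem_conjugatesOf_self
  have hconj : ∀ a ∈ conjugatesOf d, ∃ g : G, a = g * d * g⁻¹ := by
    intro a ha
    obtain ⟨g, hg⟩ := isConj_iff.mp (show IsConj d a from ha)
    exact ⟨g, hg.symm⟩
  have hconj_mem : ∀ g : G, g * d * g⁻¹ ∈ conjugatesOf d := fun g =>
    show IsConj d (g * d * g⁻¹) from isConj_iff.mpr ⟨g, rfl⟩
  have hasq : ∀ a ∈ conjugatesOf d, a * a = 1 := by
    intro a ha
    obtain ⟨g, rfl⟩ := hconj a ha
    calc g * d * g⁻¹ * (g * d * g⁻¹) = g * (d * d) * g⁻¹ := by group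
      _ = 1 := by rw [hdd]; group
  -- Sylow subgroup and isolation
  have h2 : IsPGroup 2 (Subgroup.zpowers d) :=
    IsPGroup.of_card (n := 1) (by rw [Nat.card_zpowers, hd, pow_one])
  obtain ⟨P, hP⟩ := h2.exists_le_sylow
  have hdP : d ∈ P := hP (Subgroup.mem_zpowers d)
  have hiso : ∀ g : G, g * d * g⁻¹ ∈ P → g * d * g⁻¹ = d := by
    intro g hg
    obtain ⟨k, hk⟩ := hprod _ (hconj_mem g) d hdc
    have hodd : Odd (orderOf (g * d * g⁻¹ * d)) := by
      rw [hk]; exact Odd.pow (hp.odd_of_ne_two hp2)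
    have h1 := eq_one_of_mem_sylow_of_odd P (P.mul_mem hg hdP) hodd
    calc g * d * g⁻¹ = (g * d * g⁻¹ * d) * d⁻¹ := by group
      _ = d := by rw [h1, one_mul, hdinv]
  obtain ⟨N, hN, hNodd, hNcomm⟩ := hZ G P d hd hdP hiso
  -- the normal subgroup generated by the products
  set S₀ : Set G := {x | ∃ a ∈ conjugatesOf d, ∃ b ∈ conjugatesOf d, x = a * b} with hS₀
  set M : Subgroup G := Subgroup.normalClosure S₀ with hM
  have hMn : M.Normal := Subgroup.normalClosure_normal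
  have hS₀M : S₀ ⊆ M := Subgroup.subset_normalClosure
  have hconjN : ∀ g : G, ∃ n ∈ N, g * d * g⁻¹ = n * d := by
    intro g
    refine ⟨(d * g * d⁻¹ * g⁻¹)⁻¹, N.inv_mem (hNcomm g), ?_⟩
    rw [hdinv]; 
    have : (d * g * d * g⁻¹)⁻¹ * d = g * d⁻¹ * g⁻¹ * (d⁻¹ * d) := by group
    rw [this, inv_mul_cancel, mul_one, hdinv]
  have hMN : M ≤ N := by
    apply Subgroup.normalClosure_le_normal
    rintro x ⟨a, ha, b, hb, rfl⟩
    obtain ⟨g, rfl⟩ := hconj a ha
    obtain ⟨h, rfl⟩ := hconj b hb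
    obtain ⟨n₁, hn₁, e₁⟩ := hconjN g
    obtain ⟨n₂, hn₂, e₂⟩ := hconjN h
    rw [e₁, e₂]
    have : n₁ * d * (n₂ * d) = n₁ * (d * n₂ * d⁻¹) * (d * d) := by group
    rw [this, hdd, mul_one]
    exact N.mul_mem hn₁ (hN.conj_mem n₂ hn₂ d)
  have hModd : Odd (Nat.card M) := Odd.of_dvd_nat hNodd (Subgroup.card_dvd_of_le hMN)
  -- inverted elements of `M` are `p`-elements
  have hKp : ∀ x ∈ M, d * x * d⁻¹ = x⁻¹ → ∃ k : ℕ, orderOf x = p ^ k := by
    intro x hxM hx
    have hxo : Odd (orderOf x) := by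
      have h1 : orderOf x ∣ Nat.card M := by
        have := orderOf_dvd_natCard (⟨x, hxM⟩ : M)
        rwa [Subgroup.orderOf_mk] at this
      exact Odd.of_dvd_nat hModd h1
    obtain ⟨m, hm⟩ := hxo
    have hpow : x ^ (m + 1) * x ^ (m + 1) = x := by
      rw [← pow_add]
      have : m + 1 + (m + 1) = orderOf x + 1 := by omega
      rw [this, pow_succ, pow_orderOf_eq_one, one_mul]
    set h := x ^ (m + 1) with hh
    have hinvh : d * h * d⁻¹ = h⁻¹ := by
      have : d * x ^ (m + 1) * d⁻¹ = (d * x * d⁻¹) ^ (m + 1) := by rw [conj_pow]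
      rw [hh, this, hx, inv_pow]
    have hx' : x = d * (h⁻¹ * d * h⁻¹⁻¹) := by
      rw [inv_inv]
      have e : d * (h⁻¹ * d * h) = (d * h * d⁻¹)⁻¹ * (d * d) * h := by group
      rw [e, hinvh, inv_inv, hdd, mul_one, hpow]
    rw [hx']
    exact hprod d hdc _ (hconj_mem h⁻¹)
  -- `M` is generated by inverted elements
  have hgen : ∀ S : Subgroup G, (∀ x ∈ M, d * x * d⁻¹ = x⁻¹ → x ∈ S) → M ≤ S := by
    intro S hS
    rw [hM, Subgroup.normalClosure]
    rw [Subgroup.closure_le]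
    intro x hx
    obtain ⟨y, hy, hyx⟩ := Group.mem_conjugatesOfSet_iff.mp hx
    obtain ⟨a, ha, b, hb, rfl⟩ := hy
    obtain ⟨c, rfl⟩ := isConj_iff.mp hyx
    obtain ⟨g, rfl⟩ := hconj a ha
    obtain ⟨h, rfl⟩ := hconj b hb
    -- a' = (c g) d (c g)⁻¹, b' = (c h) d (c h)⁻¹
    have ea : c * (g * d * g⁻¹ * (h * d * h⁻¹)) * c⁻¹ =
        ((c * g) * d * (c * g)⁻¹ * d) * (d * ((c * h) * d * (c * h)⁻¹)) := by
      have : ((c * g) * d * (c * g)⁻¹ * d) * (d * ((c * h) * d * (c * h)⁻¹)) =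
          (c * g) * d * (c * g)⁻¹ * (d * d) * ((c * h) * d * (c * h)⁻¹) := by group
      rw [this, hdd]; group
    rw [ea]
    have ha' := hconj_mem (c * g)
    have hb' := hconj_mem (c * h)
    refine S.mul_mem (hS _ (hS₀M ⟨_, ha', d, hdc, rfl⟩) ?_) (hS _ (hS₀M ⟨d, hdc, _, hb', rfl⟩) ?_)
    · -- d (a' d) d⁻¹ = (a' d)⁻¹
      have hsq := hasq _ ha'
      set a' := (c * g) * d * (c * g)⁻¹ with ha'def
      have hainv : a'⁻¹ = a' := inv_eq_of_mul_eq_one_right hsq
      rw [hdinv]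
      have e1 : d * (a' * d) * d = d * a' * (d * d) := by group
      have e2 : (a' * d)⁻¹ = d⁻¹ * a'⁻¹ := by group
      rw [e1, e2, hdd, mul_one, hdinv, hainv]
    · have hsq := hasq _ hb'
      set b' := (c * h) * d * (c * h)⁻¹ with hb'def
      have hbinv : b'⁻¹ = b' := inv_eq_of_mul_eq_one_right hsq
      rw [hdinv]
      have e1 : d * (d * b') * d = (d * d) * b' * d := by group
      have e2 : (d * b')⁻¹ = b'⁻¹ * d⁻¹ := by group
      rw [e1, e2, hdd, one_mul, hdinv, hbinv]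
  have hMp : IsPGroup p M := isPGroup_of_inverted_pElements hp d hd M hModd hKp hgen
  intro a ha b hb
  have : M ≤ Cfsg.pCore p G := le_sSup ⟨hMn, hMp⟩
  exact this (hS₀M ⟨a, ha, b, hb, rfl⟩)

end oddp

end Cfsg.Agent.Lib.Helper38.ZStarCor
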