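import Mathlib
import Cfsg.Prelude.Def_CaseTheorems
import Cfsg.Agent.Lib.Helper01.CoprimeSylow
import Cfsg.Agent.Lib.Helper38.ZStarCor

/-!
# Groups whose Sylow `2`-intersections are central (S3184), conditional on the `Z*`-theorem

If any two distinct Sylow `2`-subgroups of `G` meet inside the centre of some Sylow `2`-subgroup,
then the involution of a cyclic characteristic subgroup of a Sylow `2`-subgroup is isolated.
-/

set_option autoImplicit false

namespace Cfsg.Agent.Lib.Helper38.ZStarCI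

open Cfsg
open Cfsg.Agent.Lib.Helper01
open Cfsg.Agent.Lib.Helper38.ZStarCor
open scoped Pointwise

universe u

/-- two elements of order two of a finite cyclic group coincide -/
theorem cyclic_invol_unique {C : Type*} [Group C] [Finite C] [IsCyclic C] (a b : C)
    (ha : orderOf a = 2) (hb : orderOf b = 2) : a = b := by
  classical
  have : Fintype C := Fintype.ofFinite C
  by_contra hab
  have h1 := IsCyclic.card_pow_eq_one_le (α := C) (n := 2) (by norm_num)
  have hsub : ({1, a, b} : Finset C) ⊆ Finset.univ.filter (fun c : C => c ^ 2 = 1) := by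
    intro c hc
    simp only [Finset.mem_insert, Finset.mem_singleton] at hc
    simp only [Finset.mem_filter, Finset.mem_univ, true_and]
    rcases hc with rfl | rfl | rfl
    · exact one_pow 2
    · rw [← ha]; exact pow_orderOf_eq_one _
    · rw [← hb]; exact pow_orderOf_eq_one _
  have h2 := Finset.card_le_card hsub
  have ha1 : a ≠ 1 := by
    intro h; rw [h, orderOf_one] at ha; omega
  have hb1 : b ≠ 1 := by
    intro h; rw [h, orderOf_one] at hb; omega
  have h3 : ({1, a, b} : Finset C).card = 3 := by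
    rw [Finset.card_insert_of_notMem, Finset.card_insert_of_notMem, Finset.card_singleton]
    · simpa using hab
    · simp only [Finset.mem_insert, Finset.mem_singleton, not_or]
      exact ⟨ha1.symm, hb1.symm⟩
  omega

variable {G : Type u} [Group G]

/-- an element normalizing `S` centralizes the involution of a cyclic characteristic subgroup
of `S` -/
theorem conj_eq_of_normalizes [Finite G] (S : Subgroup G) (C : Subgroup ↥S) (hCc : IsCyclic ↥C)
    (hCh : C.Characteristic) (c : ↥S) (hc : c ∈ C) (hc2 : orderOf c = 2) (n : G)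
    (h1 : ∀ x ∈ S, n * x * n⁻¹ ∈ S) (h2 : ∀ x ∈ S, n⁻¹ * x * n ∈ S) :
    n * (c : G) * n⁻¹ = c := by
  let φ : ↥S ≃* ↥S :=
    { toFun := fun x => ⟨n * x * n⁻¹, h1 x x.2⟩
      invFun := fun x => ⟨n⁻¹ * x * n, h2 x x.2⟩
      left_inv := fun x => by ext; simp [mul_assoc]
      right_inv := fun x => by ext; simp [mul_assoc]
      map_mul' := fun x y => by ext; simp [mul_assoc] }
  have hφc : φ c ∈ C := by
    have h : c ∈ C.comap φ.toMonoidHom := by rw [hCh.fixed φ]; exact hc
    exact Subgroup.mem_comap.mp h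
  have ho : orderOf (φ c) = 2 := by rw [MulEquiv.orderOf_eq φ c, hc2]
  have e : (⟨φ c, hφc⟩ : ↥C) = ⟨c, hc⟩ := by
    apply cyclic_invol_unique
    · rw [Subgroup.orderOf_mk]; exact ho
    · rw [Subgroup.orderOf_mk]; exact hc2
  have e2 : φ c = c := congrArg Subtype.val e
  exact congrArg Subtype.val e2

theorem conj_smul_mem_iff (g x : G) (S : Subgroup G) :
    x ∈ MulAut.conj g • S ↔ g⁻¹ * x * g ∈ S := by
  rw [Subgroup.mem_pointwise_smul_iff_inv_smul_mem]
  simp [MulAut.smul_def]

theorem conj_mem_conj_smul (g x : G) (S : Subgroup G) (hx : x ∈ S) :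
    g * x * g⁻¹ ∈ MulAut.conj g • S := by
  rw [conj_smul_mem_iff]
  have : g⁻¹ * (g * x * g⁻¹) * g = x := by group
  rw [this]; exact hx

/-- a Sylow subgroup of `G` contained in `H` is a Sylow subgroup of `H` -/
theorem sylow_isSylowIn [Finite G] {p : ℕ} [Fact p.Prime] (P : Sylow p G) {H : Subgroup G}
    (h : (P : Subgroup G) ≤ H) : IsSylowIn p (P : Subgroup G) H :=
  ⟨h, P.isPGroup', fun hd => P.not_dvd_index
    (dvd_trans hd (Dvd.intro _ (Subgroup.relIndex_mul_index h)))⟩

theorem coe_smul_sylow {p : ℕ} (g : G) (P : Sylow p G) :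
    ((g • P : Sylow p G) : Subgroup G) = MulAut.conj g • (P : Subgroup G) := by
  rw [Sylow.smul_def, Sylow.pointwise_smul_def]

/-- a `p`-element of `H` lies in an `H`-conjugate of any Sylow subgroup of `G` inside `H` -/
theorem exists_mem_conj_of_le [Finite G] {p : ℕ} [Fact p.Prime] (P : Sylow p G) {H : Subgroup G}
    (h : (P : Subgroup G) ≤ H) (y : G) (hy : y ∈ H) (hyp : IsPGroup p (Subgroup.zpowers y)) :
    ∃ k ∈ H, y ∈ MulAut.conj k • (P : Subgroup G) := by
  have hq : IsPGroup p ((Subgroup.zpowers y).subgroupOf H) := hyp.comap_subtype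
  obtain ⟨Q₀, hQ₀⟩ := hq.exists_le_sylow
  obtain ⟨k, hk, hkP⟩ := (sylow_isSylowIn P h).exists_conj (isSylowIn_map Q₀)
  refine ⟨k, hk, ?_⟩
  rw [hkP]
  refine ⟨⟨y, hy⟩, hQ₀ ?_, rfl⟩
  rw [Subgroup.mem_subgroupOf]
  exact Subgroup.mem_zpowers y

section main

variable [Finite G]
  (S : Sylow 2 G) (C : Subgroup ↥(S : Subgroup G)) (hCc : IsCyclic ↥C) (hCh : C.Characteristic)
  (c : ↥(S : Subgroup G)) (hc : c ∈ C) (hc2 : orderOf c = 2)

include hCc hCh hc hc2

/-- `F1`: an element normalizing `S` centralizes `c` -/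
theorem conj_eq_of_smul_eq (n : G) (hn : MulAut.conj n • (S : Subgroup G) = S) :
    n * (c : G) * n⁻¹ = c := by
  apply conj_eq_of_normalizes (S : Subgroup G) C hCc hCh c hc hc2 n
  · intro x hx
    have := conj_mem_conj_smul n x _ hx
    rwa [hn] at this
  · intro x hx
    have : x ∈ MulAut.conj n • (S : Subgroup G) := by rw [hn]; exact hx
    exact (conj_smul_mem_iff n x _).mp this

/-- `c` is central in `S` -/
theorem central_in_sylow (x : G) (hx : x ∈ S) : x * (c : G) * x⁻¹ = c :=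
  conj_eq_of_smul_eq S C hCc hCh c hc hc2 x (Subgroup.conj_smul_eq_self_of_mem hx)

/-- `F2`: the involution attached to a conjugate of `S` is well defined -/
theorem conj_eq_conj_of_smul_eq (x y : G)
    (h : MulAut.conj x • (S : Subgroup G) = MulAut.conj y • (S : Subgroup G)) :
    x * (c : G) * x⁻¹ = y * (c : G) * y⁻¹ := by
  have hn : MulAut.conj (y⁻¹ * x) • (S : Subgroup G) = S := by
    rw [map_mul, mul_smul, h, map_inv, inv_smul_smul]
  have := conj_eq_of_smul_eq S C hCc hCh c hc hc2 (y⁻¹ * x) hn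
  calc x * (c : G) * x⁻¹ = y * ((y⁻¹ * x) * (c : G) * (y⁻¹ * x)⁻¹) * y⁻¹ := by group
    _ = y * (c : G) * y⁻¹ := by rw [this]

/-- the conjugate `x S x⁻¹` centralizes `x c x⁻¹` -/
theorem conj_smul_le_centralizer (x : G) :
    MulAut.conj x • (S : Subgroup G) ≤ Subgroup.centralizer {x * (c : G) * x⁻¹} := by
  intro y hy
  rw [conj_smul_mem_iff] at hy
  rw [Subgroup.mem_centralizer_singleton_iff]
  have := central_in_sylow S C hCc hCh c hc hc2 _ hy
  -- (x⁻¹ y x) c (x⁻¹ y x)⁻¹ = c
  have h2 : y * (x * (c : G) * x⁻¹) * y⁻¹ = x * (c : G) * x⁻¹ := by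
    calc y * (x * (c : G) * x⁻¹) * y⁻¹
        = x * ((x⁻¹ * y * x) * (c : G) * (x⁻¹ * y * x)⁻¹) * x⁻¹ := by group
      _ = x * (c : G) * x⁻¹ := by rw [this]
  symm
  calc x * (c : G) * x⁻¹ * y = (y * (x * (c : G) * x⁻¹) * y⁻¹) * y := by rw [h2]
    _ = y * (x * (c : G) * x⁻¹) := by group

/-- The involution of a cyclic characteristic subgroup of a Sylow `2`-subgroup is isolated when
Sylow `2`-intersections are central. -/
theorem isolated_of_central_intersections
    (hCI : ∀ S T : Sylow 2 G, S ≠ T → ∃ U : Sylow 2 G,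
      (S : Subgroup G) ⊓ (T : Subgroup G) ≤
        (Subgroup.center ↥(U : Subgroup G)).map (U : Subgroup G).subtype) :
    ∀ g : G, g * (c : G) * g⁻¹ ∈ S → g * (c : G) * g⁻¹ = c := by
  have : Fact (Nat.Prime 2) := ⟨Nat.prime_two⟩
  intro g hgS
  set t : G := (c : G) with ht
  set s : G := g * t * g⁻¹ with hs
  have htS : t ∈ S := c.2
  have ht2 : orderOf t = 2 := by rw [ht, Subgroup.orderOf_coe]; exact hc2
  have htz : IsPGroup 2 (Subgroup.zpowers t) :=
    IsPGroup.of_card (n := 1) (by rw [Nat.card_zpowers, ht2, pow_one])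
  -- `t` commutes with `s`
  have hts : t ∈ Subgroup.centralizer {s} := by
    rw [Subgroup.mem_centralizer_singleton_iff]
    have := central_in_sylow S C hCc hCh c hc hc2 s hgS
    symm
    calc s * t = (s * t * s⁻¹) * s := by group
      _ = t * s := by rw [this]
  have hT : ((g • S : Sylow 2 G) : Subgroup G) ≤ Subgroup.centralizer {s} := by
    rw [coe_smul_sylow]
    exact conj_smul_le_centralizer S C hCc hCh c hc hc2 g
  obtain ⟨k, hk, hkt⟩ := exists_mem_conj_of_le (g • S) hT t hts htz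
  rw [coe_smul_sylow, ← mul_smul, ← map_mul] at hkt
  rw [Subgroup.mem_centralizer_singleton_iff] at hk
  set g₁ : G := k * g with hg₁
  have hs₁ : g₁ * t * g₁⁻¹ = s := by
    calc g₁ * t * g₁⁻¹ = k * s * k⁻¹ := by rw [hg₁, hs]; group
      _ = (s * k) * k⁻¹ := by rw [hk]
      _ = s := by group
  have hsT₁ : s ∈ MulAut.conj g₁ • (S : Subgroup G) := by
    rw [← hs₁]; exact conj_mem_conj_smul g₁ t _ htS
  by_cases hST : S = g₁ • S
  · have h := congrArg (fun P : Sylow 2 G => (P : Subgroup G)) hST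
    simp only [coe_smul_sylow] at h
    rw [← hs₁]
    exact conj_eq_of_smul_eq S C hCc hCh c hc hc2 g₁ h.symm
  · obtain ⟨U, hU⟩ := hCI S (g₁ • S) hST
    rw [coe_smul_sylow] at hU
    have hcent : ∀ z : G, z ∈ (S : Subgroup G) ⊓ MulAut.conj g₁ • (S : Subgroup G) →
        (U : Subgroup G) ≤ Subgroup.centralizer {z} := by
      intro z hz
      obtain ⟨w, hw, hwz⟩ := hU hz
      intro y hy
      rw [Subgroup.mem_centralizer_singleton_iff, ← hwz]
      have := Subgroup.mem_center_iff.mp hw ⟨y, hy⟩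
      have h2 := congrArg Subtype.val this
      simpa using h2
    have hUt := hcent t ⟨htS, hkt⟩
    have hUs := hcent s ⟨hgS, hsT₁⟩
    -- conjugate `S` to `U` inside `C(t)`
    have hSt : (S : Subgroup G) ≤ Subgroup.centralizer {t} := by
      have := conj_smul_le_centralizer S C hCc hCh c hc hc2 1
      simpa using this
    obtain ⟨a, ha, haU⟩ := (sylow_isSylowIn S hSt).exists_conj (sylow_isSylowIn U hUt)
    -- conjugate `g₁ S g₁⁻¹` to `U` inside `C(s)`
    have hT₁s : ((g₁ • S : Sylow 2 G) : Subgroup G) ≤ Subgroup.centralizer {s} := by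
      rw [coe_smul_sylow, ← hs₁]
      exact conj_smul_le_centralizer S C hCc hCh c hc hc2 g₁
    obtain ⟨b, hb, hbU⟩ := (sylow_isSylowIn (g₁ • S) hT₁s).exists_conj (sylow_isSylowIn U hUs)
    rw [coe_smul_sylow, ← mul_smul, ← map_mul] at hbU
    have key := conj_eq_conj_of_smul_eq S C hCc hCh c hc hc2 a (b * g₁) (haU.trans hbU.symm)
    rw [Subgroup.mem_centralizer_singleton_iff] at ha hb
    have e1 : a * t * a⁻¹ = t := by
      calc a * t * a⁻¹ = a * t * a⁻¹ := rfl
        _ = (t * a)⁻¹⁻¹ * a⁻¹ := by rw [inv_inv, ha]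
        _ = t := by group
    have e2 : b * g₁ * t * (b * g₁)⁻¹ = s := by
      calc b * g₁ * t * (b * g₁)⁻¹ = b * (g₁ * t * g₁⁻¹) * b⁻¹ := by group
        _ = b * s * b⁻¹ := by rw [hs₁]
        _ = (s * b) * b⁻¹ := by rw [hb]
        _ = s := by group
    rw [← e2, ← key, e1]

end main

/-- S3184 from `Z*`. -/
theorem central_intersections_zstar [Finite G] (hZ : ZStarHyp.{u})
    (hCI : ∀ S T : Sylow 2 G, S ≠ T → ∃ U : Sylow 2 G,
      (S : Subgroup G) ⊓ (T : Subgroup G) ≤
        (Subgroup.center ↥(U : Subgroup G)).map (U : Subgroup G).subtype)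
    (S : Sylow 2 G) (C : Subgroup ↥(S : Subgroup G)) (hCc : IsCyclic ↥C) (hCh : C.Characteristic)
    (c : ↥(S : Subgroup G)) (hc : c ∈ C) (hc2 : orderOf c = 2) :
    ∀ g : G, (QuotientGroup.mk (s := Cfsg.oddCore G) (g * (c : G) * g⁻¹)) =
      QuotientGroup.mk (s := Cfsg.oddCore G) (c : G) := by
  have ht2 : orderOf (c : G) = 2 := by rw [Subgroup.orderOf_coe]; exact hc2
  obtain ⟨N, hN, ho, h⟩ := hZ G S (c : G) ht2 c.2
    (isolated_of_central_intersections S C hCc hCh c hc hc2 hCI)
  intro g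
  rw [QuotientGroup.eq]
  have hle := le_oddCore_of_normal_of_odd N ho
  apply hle
  have hinv : (c : G)⁻¹ = c := by
    have h1 : (c : G) ^ 2 = 1 := by
      have := pow_orderOf_eq_one (c : G)
      rwa [ht2] at this
    rw [pow_two] at h1
    exact inv_eq_of_mul_eq_one_right h1
  have h1 := h g
  have h2 := hN.conj_mem _ h1 (c : G)⁻¹
  have e : (g * (c : G) * g⁻¹)⁻¹ * (c : G) = (c : G)⁻¹ * ((c : G) * g * (c : G)⁻¹ * g⁻¹) * (c : G)⁻¹⁻¹ := by
    rw [inv_inv]
    calc (g * (c : G) * g⁻¹)⁻¹ * (c : G) = g * (c : G)⁻¹ * g⁻¹ * (c : G) := by group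
      _ = g * (c : G)⁻¹ * g⁻¹ * (c : G) := rfl
      _ = (c : G)⁻¹ * ((c : G) * g * (c : G)⁻¹ * g⁻¹) * (c : G) := by group
  rw [e]; exact h2

end Cfsg.Agent.Lib.Helper38.ZStarCI
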