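import Mathlib
import Cfsg.Agent.Lib.Helper38.ZStarCor

/-!
# Further consequences of the `Z*`-theorem: invariant Sylow subgroups for isolated involutions
-/

set_option autoImplicit false

namespace Cfsg.Agent.Lib.Helper38.ZStarCor

open Cfsg
open Cfsg.Agent.Lib.Helper01 Cfsg.Agent.Lib.Helper77
open scoped Pointwise

universe u

variable {G : Type u} [Group G]

/-- `Z*` for an isolated involution, with the factorization `G = O C_G(z)`. -/
theorem zstar_factor [Finite G] (hZ : ZStarHyp.{u}) (z : G) (hz : IsIsolatedInvolution z) :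
    ∃ N : Subgroup G, N.Normal ∧ Odd (Nat.card N) ∧ (∀ g : G, (z * g * z⁻¹ * g⁻¹) ∈ N) ∧
      N ⊔ Subgroup.centralizer ({z} : Set G) = ⊤ := by
  obtain ⟨N, hN, hodd, hc⟩ := zstar_isolated hZ z hz
  refine ⟨N, hN, hodd, hc, ?_⟩
  rw [eq_top_iff]
  intro g _
  obtain ⟨k, hk, hkg⟩ := Cfsg.Agent.Lib.Helper27.exists_K hz g
  have hkN : k ∈ N := by
    -- k⁻¹ * k⁻¹ = z k z⁻¹ k⁻¹ ∈ N, and k has odd order
    have h1 : k⁻¹ * k⁻¹ ∈ N := by
      have := hc k
      rwa [hk.2] at this
    have h2 : k * k ∈ N := by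
      have := N.inv_mem h1
      simpa using this
    obtain ⟨m, hm⟩ := hk.1
    have h3 : (k * k) ^ (m + 1) = k := by
      rw [← pow_two, ← pow_mul]
      have : 2 * (m + 1) = orderOf k + 1 := by omega
      rw [this, pow_succ, pow_orderOf_eq_one, one_mul]
    rw [← h3]; exact N.pow_mem h2 _
  have hkC : k⁻¹ * g ∈ Subgroup.centralizer ({z} : Set G) := by
    rw [Subgroup.mem_centralizer_singleton_iff]
    have : k⁻¹ * (g * z * g⁻¹) * k = z := by
      rw [← hkg]; group
    calc k⁻¹ * g * z = (k⁻¹ * (g * z * g⁻¹) * k) * (k⁻¹ * g) := by group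
      _ = z * (k⁻¹ * g) := by rw [this]
  have : g = k * (k⁻¹ * g) := by group
  rw [this]
  exact Subgroup.mul_mem _ (Subgroup.mem_sup_left hkN) (Subgroup.mem_sup_right hkC)

/-- if `[z, G] ≤ N` then `z` normalizes every subgroup containing `N` -/
theorem conj_mem_of_comm_le {z : G} {N H : Subgroup G} (hc : ∀ g : G, (z * g * z⁻¹ * g⁻¹) ∈ N)
    (hNH : N ≤ H) : ∀ h ∈ H, z * h * z⁻¹ ∈ H := by
  intro h hh
  have : z * h * z⁻¹ = (z * h * z⁻¹ * h⁻¹) * h := by group
  rw [this]
  exact H.mul_mem (hNH (hc h)) hh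

theorem zpowers_le_normalizer_of_conj_mem [Finite G] {z : G} {H : Subgroup G}
    (h : ∀ x ∈ H, z * x * z⁻¹ ∈ H) : Subgroup.zpowers z ≤ Subgroup.normalizer (H : Set G) := by
  rw [Subgroup.zpowers_le]
  rw [Subgroup.mem_normalizer_iff]
  intro x
  constructor
  · exact h x
  · intro hx
    -- conjugation by z is an injective self-map of the finite set H, hence surjective
    let f : H → H := fun y => ⟨z * y * z⁻¹, h y y.2⟩
    have hinj : Function.Injective f := by
      intro a b hab
      have : z * (a : G) * z⁻¹ = z * (b : G) * z⁻¹ := congrArg Subtype.val hab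
      apply Subtype.ext
      simpa using this
    obtain ⟨y, hy⟩ := (Finite.injective_iff_surjective.mp hinj) ⟨z * x * z⁻¹, hx⟩
    have : z * (y : G) * z⁻¹ = z * x * z⁻¹ := congrArg Subtype.val hy
    have hyx : (y : G) = x := by simpa using this
    rw [← hyx]; exact y.2

/-- S1187 from `Z*`. -/
theorem isolated_max_invariant_isSylow [Finite G] (hZ : ZStarHyp.{u}) (z : G)
    (hz : IsIsolatedInvolution z) {p : ℕ} [Fact p.Prime] (Q : Subgroup G) (hQ : IsPGroup p Q)
    (hzQ : z ∈ Subgroup.normalizer (Q : Set G))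
    (hmax : ∀ R : Subgroup G, IsPGroup p R → z ∈ Subgroup.normalizer (R : Set G) → Q ≤ R → R = Q) :
    ∃ P : Sylow p G, (P : Subgroup G) = Q := by
  classical
  have hp : p.Prime := Fact.out
  have hzz : z * z = 1 := Cfsg.Agent.Lib.Helper27.iso_sq hz
  have hzinv : z⁻¹ = z := Cfsg.Agent.Lib.Helper27.iso_inv hz
  by_cases hp2 : p = 2
  · subst hp2
    -- z ∈ Q
    have hA2 : IsPGroup 2 (Subgroup.zpowers z) :=
      IsPGroup.of_card (n := 1) (by rw [Nat.card_zpowers, hz.1, pow_one])
    have hzle : Subgroup.zpowers z ≤ Subgroup.normalizer (Q : Set G) := by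
      rw [Subgroup.zpowers_le]; exact hzQ
    have hR : IsPGroup 2 (Q ⊔ Subgroup.zpowers z : Subgroup G) :=
      IsPGroup.to_sup_of_normal_left' hQ hA2 hzle
    have hzR : z ∈ Subgroup.normalizer ((Q ⊔ Subgroup.zpowers z : Subgroup G) : Set G) :=
      Subgroup.le_normalizer (Subgroup.mem_sup_right (Subgroup.mem_zpowers z))
    have hRQ := hmax _ hR hzR le_sup_left
    have hzQ' : z ∈ Q := by
      rw [← hRQ]; exact Subgroup.mem_sup_right (Subgroup.mem_zpowers z)
    obtain ⟨T, hT⟩ := hQ.exists_le_sylow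
    have hzT : z ∈ T := hT hzQ'
    have hcent : ∀ t ∈ T, t * z * t⁻¹ = z := by
      intro t ht
      have hodd := Cfsg.Agent.Lib.Helper27.odd_orderOf_conj_mul hz t
      have hmem : t * z * t⁻¹ * z ∈ T :=
        T.mul_mem (T.mul_mem (T.mul_mem ht hzT) (T.inv_mem ht)) hzT
      have h1 := eq_one_of_mem_sylow_of_odd T hmem hodd
      calc t * z * t⁻¹ = (t * z * t⁻¹ * z) * z⁻¹ := by group
        _ = z := by rw [h1, one_mul, hzinv]
    have hzT' : z ∈ Subgroup.normalizer ((T : Subgroup G) : Set G) := Subgroup.le_normalizer hzT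
    exact ⟨T, hmax _ T.isPGroup' hzT' hT⟩
  · -- p odd
    obtain ⟨N, hN, hNodd, hc, -⟩ := zstar_factor hZ z hz
    obtain ⟨P₀, hP₀⟩ := hQ.exists_le_sylow
    set H : Subgroup G := N ⊔ P₀ with hH
    have hpodd : Odd p := hp.odd_of_ne_two hp2
    have hP₀odd : Odd (Nat.card (P₀ : Subgroup G)) := by
      obtain ⟨n, hn⟩ := IsPGroup.iff_card.mp P₀.isPGroup'
      rw [hn]; exact hpodd.pow
    have hHodd : Odd (Nat.card H) := by
      have hdvd : Nat.card H ∣ Nat.card N * Nat.card (P₀ : Subgroup G) := by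
        rw [hH, sup_comm]
        have := Cfsg.Agent.Lib.Helper42.card_sup_dvd (P₀ : Subgroup G) N
        exact this
      exact Odd.of_dvd_nat (hNodd.mul hP₀odd) hdvd
    have hzH : ∀ x ∈ H, z * x * z⁻¹ ∈ H := conj_mem_of_comm_le hc le_sup_left
    set A : Subgroup G := Subgroup.zpowers z with hA
    have hAH : A ≤ Subgroup.normalizer (H : Set G) := zpowers_le_normalizer_of_conj_mem hzH
    have hAcard : Nat.card A = 2 := by rw [hA, Nat.card_zpowers, hz.1]
    have hcop : (Nat.card A).Coprime (Nat.card H) := by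
      rw [hAcard]; exact Nat.coprime_two_left.mpr hHodd
    have hsolv : Group.IsSolvable A ∨ Group.IsSolvable H := Or.inl inferInstance
    have hQH : Q ≤ H := hP₀.trans le_sup_right
    have hAQ : A ≤ Subgroup.normalizer (Q : Set G) := by
      rw [hA, Subgroup.zpowers_le]; exact hzQ
    obtain ⟨R, hR, hQR, hAR⟩ := exists_invariant_isSylowIn_ge (A := A) (K := H) (U := Q) p hAH hcop
      hsolv hQH hQ hAQ
    have hRQ : R = Q := hmax R hR.2.1 (hAR (Subgroup.mem_zpowers z)) hQR
    rw [hRQ] at hR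
    -- Q is Sylow in H, and H contains a Sylow subgroup of G
    have h1 : ¬ p ∣ H.index := by
      intro hd
      have := Subgroup.relIndex_mul_index (H := (P₀ : Subgroup G)) (K := H) le_sup_right
      exact P₀.not_dvd_index (this ▸ Dvd.dvd.mul_left hd _)
    have h2 : ¬ p ∣ Q.index := by
      rw [← Subgroup.relIndex_mul_index hQH]
      intro hd
      rcases (Nat.Prime.dvd_mul hp).mp hd with h | h
      · exact hR.2.2 h
      · exact h1 h
    exact ⟨hQ.toSylow h2, rfl⟩

/-- S1253 from `Z*`. -/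
theorem isolated_invariant_sylow_meets_centralizer [Finite G] (hZ : ZStarHyp.{u}) (z : G)
    (hz : IsIsolatedInvolution z) {p : ℕ} [Fact p.Prime] (hp2 : p ≠ 2) (P : Sylow p G)
    (hzP : z ∈ Subgroup.normalizer ((P : Subgroup G) : Set G)) :
    ¬ p ∣ ((P : Subgroup G) ⊓ Subgroup.centralizer ({z} : Set G)).relIndex
        (Subgroup.centralizer ({z} : Set G)) ∧
      ((P : Subgroup G) ⊓ Subgroup.centralizer ({z} : Set G)).relIndex (P : Subgroup G) =
        Nat.card {x : G // x ∈ P ∧ z * x * z⁻¹ = x⁻¹} := by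
  classical
  have hp : p.Prime := Fact.out
  have hzz : z * z = 1 := Cfsg.Agent.Lib.Helper27.iso_sq hz
  have hpodd : Odd p := hp.odd_of_ne_two hp2
  have hPodd : Odd (Nat.card (P : Subgroup G)) := by
    obtain ⟨n, hn⟩ := IsPGroup.iff_card.mp P.isPGroup'
    rw [hn]; exact hpodd.pow
  have hzP' : ∀ x ∈ (P : Subgroup G), z * x * z⁻¹ ∈ (P : Subgroup G) := by
    intro x hx
    exact (Subgroup.mem_normalizer_iff.mp hzP x).mp hx
  refine ⟨?_, (card_inverted_eq_relIndex (P : Subgroup G) hPodd z hzz hzP').symm⟩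
  obtain ⟨N, hN, hNodd, hc, hNC⟩ := zstar_factor hZ z hz
  set C : Subgroup G := Subgroup.centralizer ({z} : Set G) with hC
  set H : Subgroup G := N ⊔ P with hH
  have hHodd : Odd (Nat.card H) := by
    have hdvd : Nat.card H ∣ Nat.card N * Nat.card (P : Subgroup G) := by
      rw [hH, sup_comm]
      have := Cfsg.Agent.Lib.Helper42.card_sup_dvd (P : Subgroup G) N
      exact this
    exact Odd.of_dvd_nat (hNodd.mul hPodd) hdvd
  have hzH : ∀ x ∈ H, z * x * z⁻¹ ∈ H := conj_mem_of_comm_le hc le_sup_left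
  set A : Subgroup G := Subgroup.zpowers z with hA
  have hAH : A ≤ Subgroup.normalizer (H : Set G) := zpowers_le_normalizer_of_conj_mem hzH
  have hAcard : Nat.card A = 2 := by rw [hA, Nat.card_zpowers, hz.1]
  have hcop : (Nat.card A).Coprime (Nat.card H) := by
    rw [hAcard]; exact Nat.coprime_two_left.mpr hHodd
  have hsolv : Group.IsSolvable A ∨ Group.IsSolvable H := Or.inl inferInstance
  have hPH : (P : Subgroup G) ≤ H := le_sup_right
  have hNH : N ≤ H := le_sup_left
  have hAP : A ≤ Subgroup.normalizer ((P : Subgroup G) : Set G) := by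
    rw [hA, Subgroup.zpowers_le]; exact hzP
  have hHidx : ¬ p ∣ H.index := by
    intro hd
    have := Subgroup.relIndex_mul_index (H := (P : Subgroup G)) (K := H) hPH
    exact P.not_dvd_index (this ▸ Dvd.dvd.mul_left hd _)
  have hPsyl : IsSylowIn p (P : Subgroup G) H := by
    refine ⟨hPH, P.isPGroup', ?_⟩
    intro hd
    have := Subgroup.relIndex_mul_index (H := (P : Subgroup G)) (K := H) hPH
    exact P.not_dvd_index (this ▸ Dvd.dvd.mul_right hd _)
  have hSC := isSylowIn_inf_centralizer (A := A) (K := H) (Q := (P : Subgroup G)) p hAH hcop hsolv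
    hPsyl hAP
  rw [hA, centralizer_zpowers_eq z, ← hC] at hSC
  -- (H ⊓ C).relIndex C = H.index
  have hr : (H ⊓ C).relIndex C = H.index := by
    have hNCle : N ⊓ C ≤ H ⊓ C := inf_le_inf_right C hNH
    have e1 : (N ⊓ C).relIndex C = N.index := by
      rw [Subgroup.inf_relIndex_right, ← Subgroup.relIndex_sup_left (K := N) (H := C), hNC,
        Subgroup.relIndex_top_right]
    have hsup : N ⊔ (H ⊓ C) = H := by
      apply le_antisymm (sup_le hNH inf_le_left)
      intro h hh
      have hmem : h ∈ N ⊔ C := by rw [hNC]; exact Subgroup.mem_top h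
      have hmem' : h ∈ (N : Set G) * (C : Set G) := by
        rw [← Subgroup.normal_mul]; exact hmem
      obtain ⟨n, hn, c, hcC, rfl⟩ := Set.mem_mul.mp hmem'
      have hcH : c ∈ H := by
        have : c = n⁻¹ * (n * c) := by group
        rw [this]; exact H.mul_mem (H.inv_mem (hNH hn)) hh
      exact Subgroup.mul_mem _ (Subgroup.mem_sup_left hn) (Subgroup.mem_sup_right ⟨hcH, hcC⟩)
    have e2 : (N ⊓ C).relIndex (H ⊓ C) = N.relIndex H := by
      have : N ⊓ C = N ⊓ (H ⊓ C) := by
        rw [← inf_assoc, inf_of_le_left hNH]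
      rw [this, Subgroup.inf_relIndex_right, ← Subgroup.relIndex_sup_left (K := N) (H := H ⊓ C),
        hsup]
    have e3 := Subgroup.relIndex_mul_relIndex (N ⊓ C) (H ⊓ C) C hNCle inf_le_right
    have e4 := Subgroup.relIndex_mul_index hNH
    rw [e1, e2, ← e4] at e3
    have hne : N.relIndex H ≠ 0 := by
      rw [Subgroup.relIndex]; exact Subgroup.index_ne_zero_of_finite
    exact Nat.eq_of_mul_eq_mul_left (Nat.pos_of_ne_zero hne) e3
  have e5 := Subgroup.relIndex_mul_relIndex ((P : Subgroup G) ⊓ C) (H ⊓ C) C hSC.1 inf_le_right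
  rw [← e5, hr]
  intro hd
  rcases (Nat.Prime.dvd_mul hp).mp hd with h | h
  · exact hSC.2.2 h
  · exact hHidx h

end Cfsg.Agent.Lib.Helper38.ZStarCor
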