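import Mathlib
import Cfsg.Prelude.Def_FusionSystem
import Cfsg.Prelude.Def_CaseTheorems
import Cfsg.Agent.Lib.Helper27.ZStarWeak
import Cfsg.Agent.Lib.Helper88.FusionBasic
import Cfsg.Agent.Lib.Helper88.FusionGrun2
import Cfsg.Agent.Lib.Helper15.Lifting
import Cfsg.Agent.Lib.Helper01.CoprimeSylow

/-!
# The `Z*`-theorem in fusion language (S5094), conditional on the `Z*`-theorem
-/

set_option autoImplicit false

namespace Cfsg.Agent.Lib.Helper38.ZStarFusion

open Cfsg
open Cfsg.Agent.Lib.Helper01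
open scoped Pointwise

universe u

variable {G : Type u} [Group G]

/-- Coprime conjugacy inside a centralizer: if the `2`-element `x` and `x' ∈ x O` (with `O` normal of
odd order, `x'` of the same order as `x`) both centralize `P`, they are conjugate under `C_G(P)`. -/
theorem exists_conj_in_centralizer [Finite G] (O : Subgroup G) [hOn : O.Normal]
    (hO : Odd (Nat.card O)) (x x' : G) (hx2 : IsPGroup 2 (Subgroup.zpowers x)) (P : Subgroup G)
    (hxP : ∀ y ∈ P, x * y = y * x) (hx'P : ∀ y ∈ P, x' * y = y * x') (hxx' : x⁻¹ * x' ∈ O)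
    (hord : orderOf x' = orderOf x) :
    ∃ c : G, (∀ y ∈ P, c * y = y * c) ∧ c * x * c⁻¹ = x' := by
  classical
  have : Fact (Nat.Prime 2) := ⟨Nat.prime_two⟩
  set X : Subgroup G := Subgroup.zpowers x with hX
  set Y : Subgroup G := Subgroup.zpowers x' with hY
  set M₀ : Subgroup G := X ⊔ O with hM₀
  set M : Subgroup G := M₀ ⊓ Subgroup.centralizer (P : Set G) with hM
  have hcop : (Nat.card O).Coprime 2 := Nat.coprime_two_right.mpr hO
  have hxM₀ : x ∈ M₀ := Subgroup.mem_sup_left (Subgroup.mem_zpowers x)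
  have hx'M₀ : x' ∈ M₀ := by
    have : x' = x * (x⁻¹ * x') := by group
    rw [this]
    exact M₀.mul_mem hxM₀ (Subgroup.mem_sup_right hxx')
  have hYM₀ : Y ≤ M₀ := by rw [hY, Subgroup.zpowers_le]; exact hx'M₀
  have hcard : Nat.card Y = Nat.card X := by rw [hY, hX, Nat.card_zpowers, Nat.card_zpowers, hord]
  have h1 : ¬ 2 ∣ X.relIndex M₀ :=
    Cfsg.Agent.Lib.Helper15.not_dvd_relIndex_sup_of_coprime hcop X le_sup_left rfl
  have h2 : ¬ 2 ∣ Y.relIndex M₀ :=
    Cfsg.Agent.Lib.Helper15.not_dvd_relIndex_sup_of_coprime hcop Y hYM₀ hcard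
  have hxC : x ∈ Subgroup.centralizer (P : Set G) := by
    rw [Subgroup.mem_centralizer_iff]; intro y hy; exact (hxP y hy).symm
  have hx'C : x' ∈ Subgroup.centralizer (P : Set G) := by
    rw [Subgroup.mem_centralizer_iff]; intro y hy; exact (hx'P y hy).symm
  have hXM : X ≤ M := by
    rw [hX, Subgroup.zpowers_le]; exact ⟨hxM₀, hxC⟩
  have hYM : Y ≤ M := by
    rw [hY, Subgroup.zpowers_le]; exact ⟨hx'M₀, hx'C⟩
  have hY2 : IsPGroup 2 Y := by
    obtain ⟨n, hn⟩ := IsPGroup.iff_card.mp hx2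
    exact IsPGroup.of_card (n := n) (by rw [hcard, ← hn])
  have hXs : IsSylowIn 2 X M := by
    refine ⟨hXM, hx2, fun hd => h1 ?_⟩
    rw [← Subgroup.relIndex_mul_relIndex X M M₀ hXM inf_le_left]
    exact Dvd.dvd.mul_right hd _
  have hYs : IsSylowIn 2 Y M := by
    refine ⟨hYM, hY2, fun hd => h2 ?_⟩
    rw [← Subgroup.relIndex_mul_relIndex Y M M₀ hYM inf_le_left]
    exact Dvd.dvd.mul_right hd _
  obtain ⟨k, hkM, hk⟩ := hXs.exists_conj hYs
  have hkx : k * x * k⁻¹ ∈ Y := by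
    rw [← hk]
    have := Subgroup.smul_mem_pointwise_smul x (MulAut.conj k) X (Subgroup.mem_zpowers x)
    simpa [MulAut.smul_def, MulAut.conj_apply] using this
  obtain ⟨j, hj⟩ := Subgroup.mem_zpowers_iff.mp hkx
  -- work modulo O
  have hπxx' : (QuotientGroup.mk' O) x' = (QuotientGroup.mk' O) x := by
    symm
    exact (QuotientGroup.eq).mpr hxx'
  have hπk : (QuotientGroup.mk' O) (k * x * k⁻¹) = (QuotientGroup.mk' O) x := by
    have hk₀ : k ∈ (X : Set G) * (O : Set G) := by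
      rw [← Subgroup.mul_normal]; exact hkM.1
    obtain ⟨a, ha, o, ho, rfl⟩ := Set.mem_mul.mp hk₀
    obtain ⟨i, rfl⟩ := Subgroup.mem_zpowers_iff.mp ha
    have ho' : (QuotientGroup.mk' O) o = 1 := by
      rw [← MonoidHom.mem_ker, QuotientGroup.ker_mk']; exact ho
    simp only [map_mul, map_inv, map_zpow, ho', mul_one, mul_inv_rev, inv_one, one_mul]
    have hc : Commute ((QuotientGroup.mk' O) x ^ i) ((QuotientGroup.mk' O) x) :=
      (Commute.refl _).zpow_left i
    rw [hc.eq, mul_assoc, mul_inv_cancel, mul_one]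
  have hxj : x ^ j = x := by
    have h3 : (QuotientGroup.mk' O) (x ^ j * x⁻¹) = 1 := by
      rw [map_mul, map_zpow, map_inv, ← hπxx', ← map_zpow, hj, hπk, hπxx', mul_inv_cancel]
    have h4 : x ^ j * x⁻¹ ∈ O := by
      rw [← QuotientGroup.ker_mk' O, MonoidHom.mem_ker]; exact h3
    have h5 : x ^ j * x⁻¹ ∈ X :=
      X.mul_mem (Subgroup.zpow_mem_zpowers x j) (X.inv_mem (Subgroup.mem_zpowers x))
    have h6 : x ^ j * x⁻¹ ∈ X ⊓ O := ⟨h5, h4⟩
    rw [Cfsg.Agent.Lib.Helper15.isPGroup_inf_coprime_eq_bot hx2 hcop, Subgroup.mem_bot] at h6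
    exact mul_inv_eq_one.mp h6
  have hx'j : x' ^ j = x' := by
    have h7 : x ^ (j - 1) = 1 := by
      rw [zpow_sub_one, hxj, mul_inv_cancel]
    have h8 : (orderOf x : ℤ) ∣ j - 1 := orderOf_dvd_iff_zpow_eq_one.mpr h7
    rw [← hord] at h8
    have h9 : x' ^ (j - 1) = 1 := orderOf_dvd_iff_zpow_eq_one.mp h8
    have : x' ^ j = x' ^ (j - 1) * x' := by rw [← zpow_add_one, sub_add_cancel]
    rw [this, h9, one_mul]
  refine ⟨k, ?_, ?_⟩
  · intro y hy
    exact ((Subgroup.mem_centralizer_iff.mp hkM.2) y hy).symm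
  · rw [← hj, hx'j]

section main

variable [Finite G]

theorem odd_card_oddCore' : Odd (Nat.card (oddCore G)) :=
  Nat.coprime_two_right.mp (Cfsg.Agent.Lib.Helper29.coprime_card_of_le_pPrimeCore 2 _ le_rfl)

theorem sylow_inf_oddCore' (S : Sylow 2 G) : (S : Subgroup G) ⊓ oddCore G = ⊥ := by
  have : Fact (Nat.Prime 2) := ⟨Nat.prime_two⟩
  exact Cfsg.Agent.Lib.Helper15.isPGroup_inf_coprime_eq_bot S.isPGroup'
    (Cfsg.Agent.Lib.Helper29.coprime_card_of_le_pPrimeCore 2 _ le_rfl)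

omit [Finite G] in
/-- elements central modulo the odd core: commutator form -/
theorem comm_mem_oddCore_of_central {x : G}
    (hx : x ∈ (Subgroup.center (G ⧸ oddCore G)).comap (QuotientGroup.mk' (oddCore G))) (h : G) :
    x⁻¹ * h⁻¹ * x * h ∈ oddCore G := by
  rw [Subgroup.mem_comap, Subgroup.mem_center_iff] at hx
  have h1 := hx ((QuotientGroup.mk' (oddCore G)) h)
  rw [← map_mul, ← map_mul] at h1
  have h2 := (QuotientGroup.eq).mp h1
  have : x⁻¹ * h⁻¹ * x * h = (h * x)⁻¹ * (x * h) := by group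
  rw [this]; exact h2

/-- `⊇` of S5094 (no `Z*` needed). -/
theorem le_center (S : Sylow 2 G) :
    (S : Subgroup G) ⊓ (Subgroup.center (G ⧸ oddCore G)).comap (QuotientGroup.mk' (oddCore G)) ≤
      (groupFusionSystem (S : Subgroup G)).center := by
  classical
  have : Fact (Nat.Prime 2) := ⟨Nat.prime_two⟩
  rintro x ⟨hxS, hxc⟩
  have hxS' : x ∈ (S : Subgroup G) := hxS
  set F := groupFusionSystem (S : Subgroup G) with hF
  suffices hcen : F.IsCentral (Subgroup.zpowers x) from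
    (le_sSup (show Subgroup.zpowers x ∈ {Q : Subgroup G | F.IsCentral Q} from hcen))
      (Subgroup.mem_zpowers x)
  have hcomm := comm_mem_oddCore_of_central hxc
  have hQS : Subgroup.zpowers x ≤ (S : Subgroup G) := by rw [Subgroup.zpowers_le]; exact hxS'
  -- x is central in S
  have hxZS : ∀ s ∈ (S : Subgroup G), x * s = s * x := by
    intro s hs
    have h1 : x⁻¹ * s⁻¹ * x * s ∈ (S : Subgroup G) ⊓ oddCore G :=
      ⟨(S : Subgroup G).mul_mem ((S : Subgroup G).mul_mem ((S : Subgroup G).mul_mem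
        ((S : Subgroup G).inv_mem hxS') ((S : Subgroup G).inv_mem hs)) hxS') hs, hcomm s⟩
    rw [sylow_inf_oddCore' S, Subgroup.mem_bot] at h1
    calc x * s = s * x * (x⁻¹ * s⁻¹ * x * s) := by group
      _ = s * x := by rw [h1, mul_one]
  have hx2 : IsPGroup 2 (Subgroup.zpowers x) := S.isPGroup'.to_le hQS
  refine ⟨hQS, ?_⟩
  rintro P φ ⟨hPS, hφS, g, hg⟩
  set x' := g⁻¹ * x * g with hx'
  have hxP : ∀ y ∈ P, x * y = y * x := fun y hy => hxZS y (hPS hy)
  have hx'P : ∀ y ∈ P, x' * y = y * x' := by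
    intro y hy
    have h1 : g * y * g⁻¹ ∈ (S : Subgroup G) := by
      rw [← hg ⟨y, hy⟩]; exact hφS ⟨y, hy⟩
    have h2 := hxZS _ h1
    calc x' * y = g⁻¹ * (x * (g * y * g⁻¹)) * g := by rw [hx']; group
      _ = g⁻¹ * ((g * y * g⁻¹) * x) * g := by rw [h2]
      _ = y * x' := by rw [hx']; group
  have hxx' : x⁻¹ * x' ∈ oddCore G := by
    have := hcomm g
    have e : x⁻¹ * x' = x⁻¹ * g⁻¹ * x * g := by rw [hx']; group
    rw [e]; exact this
  have hord : orderOf x' = orderOf x := by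
    have : x' = (MulAut.conj g⁻¹) x := by rw [hx', MulAut.conj_apply, inv_inv]
    rw [this, MulEquiv.orderOf_eq]
  obtain ⟨c, hcP, hcx⟩ := exists_conj_in_centralizer (oddCore G) odd_card_oddCore' x x' hx2 P hxP hx'P
    hxx' hord
  have hg'x : (g * c) * x * (g * c)⁻¹ = x := by
    calc (g * c) * x * (g * c)⁻¹ = g * (c * x * c⁻¹) * g⁻¹ := by group
      _ = g * x' * g⁻¹ := by rw [hcx]
      _ = x := by rw [hx']; group
  have hg'P : ∀ y ∈ P, (g * c) * y * (g * c)⁻¹ = g * y * g⁻¹ := by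
    intro y hy
    calc (g * c) * y * (g * c)⁻¹ = g * (c * y) * c⁻¹ * g⁻¹ := by group
      _ = g * (y * c) * c⁻¹ * g⁻¹ := by rw [hcP y hy]
      _ = g * y * g⁻¹ := by group
  have hsup : P ⊔ Subgroup.zpowers x ≤ (S : Subgroup G) := sup_le hPS hQS
  have hval : ∀ y ∈ P ⊔ Subgroup.zpowers x, (g * c) * y * (g * c)⁻¹ ∈ (S : Subgroup G) := by
    have hle : P ⊔ Subgroup.zpowers x ≤
        (S : Subgroup G).comap (MulAut.conj (g * c)).toMonoidHom := by
      refine sup_le ?_ ?_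
      · intro y hy
        show (MulAut.conj (g * c)) y ∈ (S : Subgroup G)
        rw [MulAut.conj_apply, hg'P y hy, ← hg ⟨y, hy⟩]; exact hφS ⟨y, hy⟩
      · rw [Subgroup.zpowers_le]
        show (MulAut.conj (g * c)) x ∈ (S : Subgroup G)
        rw [MulAut.conj_apply, hg'x]; exact hxS'
    intro y hy
    have h1 : (MulAut.conj (g * c)) y ∈ (S : Subgroup G) := hle hy
    rwa [MulAut.conj_apply] at h1
  refine ⟨conjHom (P ⊔ Subgroup.zpowers x) (g * c), ⟨hsup, fun y => hval y y.2, g * c, fun y => rfl⟩,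
    ?_, ?_⟩
  · intro y
    show (g * c) * (y : G) * (g * c)⁻¹ = φ y
    rw [hg'P y y.2, hg y]
  · intro y
    show (g * c) * (y : G) * (g * c)⁻¹ = (y : G)
    obtain ⟨i, hi⟩ := Subgroup.mem_zpowers_iff.mp y.2
    have hc : Commute (g * c) x := by
      have : (g * c) * x = x * (g * c) := by
        calc (g * c) * x = ((g * c) * x * (g * c)⁻¹) * (g * c) := by group
          _ = x * (g * c) := by rw [hg'x]
      exact this
    have hc' : Commute (g * c) (y : G) := by rw [← hi]; exact hc.zpow_right i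
    rw [hc'.eq, mul_assoc, mul_inv_cancel, mul_one]

/-- `⊆` of S5094, from the `Z*`-theorem. -/
theorem center_le (hZ : ∀ (H : Type u) [Group H] [Finite H], Cfsg.Agent.Lib.Helper27.ZStarHyp H)
    (S : Sylow 2 G) :
    (groupFusionSystem (S : Subgroup G)).center ≤
      (S : Subgroup G) ⊓ (Subgroup.center (G ⧸ oddCore G)).comap (QuotientGroup.mk' (oddCore G)) := by
  classical
  set F := groupFusionSystem (S : Subgroup G) with hF
  have hc : F.IsCentral F.center := Cfsg.Agent.Lib.Helper88.isCentral_center F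
  have hW : Cfsg.Agent.Lib.Helper27.WCC S F.center := by
    refine ⟨hc.1, fun a ha s hs => (Cfsg.Agent.Lib.Helper88.IsCentral.commute F hc ha hs).eq, ?_⟩
    intro B hB
    refine ⟨hB.trans hc.1, ?_⟩
    intro g hmap
    have hmem : conjHom B g ∈ F.Hom B := by
      refine ⟨hB.trans hc.1, ?_, g, fun y => rfl⟩
      intro y
      exact hmap ⟨(y : G), y.2, rfl⟩
    have hfix : ∀ w : B, g * (w : G) * g⁻¹ = w := fun w =>
      Cfsg.Agent.Lib.Helper88.IsCentral.hom_fix F hc hmem w (hB w.2)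
    ext y
    constructor
    · rintro ⟨w, hw, rfl⟩
      show (MulAut.conj g) w ∈ B
      rw [MulAut.conj_apply, hfix ⟨w, hw⟩]; exact hw
    · intro hy
      refine ⟨y, hy, ?_⟩
      show (MulAut.conj g) y = y
      rw [MulAut.conj_apply]; exact hfix ⟨y, hy⟩
  intro x hx
  refine ⟨hc.1 hx, ?_⟩
  show x ∈ (Subgroup.center (G ⧸ oddCore G)).comap (QuotientGroup.mk' (oddCore G))
  rw [Subgroup.mem_comap, Subgroup.mem_center_iff]
  intro q
  obtain ⟨h, rfl⟩ := QuotientGroup.mk'_surjective (oddCore G) q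
  rw [← map_mul, ← map_mul]
  apply (QuotientGroup.eq).mpr
  have h1 := Cfsg.Agent.Lib.Helper27.wcc_commutator hZ S F.center hW x⁻¹ (F.center.inv_mem hx) h⁻¹
  have : (h * x)⁻¹ * (x * h) = x⁻¹ * h⁻¹ * x⁻¹⁻¹ * h⁻¹⁻¹ := by group
  rw [this]; exact h1

end main

end Cfsg.Agent.Lib.Helper38.ZStarFusion
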