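import Mathlib
import Cfsg.Prelude.Def_TwoFusion
import Cfsg.Prelude.Def_CaseTheorems
import Cfsg.Agent.Lib.Helper27.ZStarWeak
import Cfsg.Agent.Lib.Helper01.CoprimeSylow
import Cfsg.Agent.Lib.Helper38.ZStarCor
import Cfsg.Agent.Lib.Helper38.ZStarCI
import Cfsg.Agent.Lib.Helper38.ZStarFusion

/-!
# Strongly closed `2`-subgroups centralize core-free subgroups they normalize and avoid (S1251),
conditional on the `Z*`-theorem
-/

set_option autoImplicit false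

namespace Cfsg.Agent.Lib.Helper38.ZStarGold

open Cfsg
open Cfsg.Agent.Lib.Helper01
open Cfsg.Agent.Lib.Helper38.ZStarCor
open Cfsg.Agent.Lib.Helper38.ZStarCI
open scoped Pointwise

universe u

variable {G : Type u} [Group G]

/-- a `p`-subgroup of `K` lies in a Sylow `p`-subgroup of `K` -/
theorem exists_isSylowIn_ge [Finite G] {p : ℕ} [Fact p.Prime] {A K : Subgroup G} (hAK : A ≤ K)
    (hAp : IsPGroup p A) : ∃ P, IsSylowIn p P K ∧ A ≤ P := by
  have hq : IsPGroup p (A.subgroupOf K) := hAp.comap_subtype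
  obtain ⟨Q₀, hQ₀⟩ := hq.exists_le_sylow
  refine ⟨_, isSylowIn_map Q₀, ?_⟩
  intro x hx
  exact ⟨⟨x, hAK hx⟩, hQ₀ (by rw [Subgroup.mem_subgroupOf]; exact hx), rfl⟩

/-- a `p`-subgroup of `K` lies in a `K`-conjugate of a given Sylow `p`-subgroup of `K` -/
theorem exists_conj_ge_of_isSylowIn [Finite G] {p : ℕ} [Fact p.Prime] {P K R : Subgroup G}
    (hP : IsSylowIn p P K) (hRK : R ≤ K) (hRp : IsPGroup p R) :
    ∃ k ∈ K, R ≤ MulAut.conj k • P := by
  obtain ⟨Q, hQ, hRQ⟩ := exists_isSylowIn_ge hRK hRp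
  obtain ⟨k, hk, hkP⟩ := hP.exists_conj hQ
  exact ⟨k, hk, hkP ▸ hRQ⟩

/-- S1251 from `Z*`. -/
theorem strongly_closed_centralizes [Finite G]
    (hZ : ∀ (H : Type u) [Group H] [Finite H], Cfsg.Agent.Lib.Helper27.ZStarHyp H)
    (S : Sylow 2 G) (A : Subgroup G) (hA : Cfsg.IsStronglyClosed A (S : Subgroup G))
    (H : Subgroup G) (hAH : A ≤ Subgroup.normalizer (H : Set G)) (hO : Cfsg.oddCore ↥H = ⊥)
    (hdisj : A ⊓ H = ⊥) : A ≤ Subgroup.centralizer (H : Set G) := by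
  have : Fact (Nat.Prime 2) := ⟨Nat.prime_two⟩
  have hA2 : IsPGroup 2 A := S.isPGroup'.to_le hA.1
  set G₁ : Subgroup G := H ⊔ A with hG₁
  have hG₁N : G₁ ≤ Subgroup.normalizer (H : Set G) := sup_le Subgroup.le_normalizer hAH
  -- a Sylow subgroup `S₁` of `G₁` containing `A`
  obtain ⟨S₁, hS₁, hAS₁⟩ := exists_isSylowIn_ge (p := 2) (le_sup_right : A ≤ G₁) hA2
  obtain ⟨Q, hQ⟩ := hS₁.2.1.exists_le_sylow
  obtain ⟨w, hw⟩ := MulAction.exists_smul_eq G S Q
  have hS₁w : ∀ x ∈ S₁, w⁻¹ * x * w ∈ (S : Subgroup G) := by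
    intro x hx
    have h1 : x ∈ ((w • S : Sylow 2 G) : Subgroup G) := by rw [hw]; exact hQ hx
    rw [coe_smul_sylow, conj_smul_mem_iff] at h1
    exact h1
  have hwA : ∀ x ∈ A, w⁻¹ * x * w ∈ A := by
    intro x hx
    have := hA.2 x hx w⁻¹ (by simpa using hS₁w x (hAS₁ hx))
    simpa using this
  have hwA' : ∀ y ∈ A, w * y * w⁻¹ ∈ A := by
    intro y hy
    let f : A → A := fun x => ⟨w⁻¹ * x * w, hwA x x.2⟩
    have hinj : Function.Injective f := by
      intro x y hxy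
      have := congrArg Subtype.val hxy
      simp only [f] at this
      ext
      exact mul_left_cancel (mul_right_cancel this)
    obtain ⟨x, hx⟩ := (Finite.injective_iff_surjective.mp hinj) ⟨y, hy⟩
    have := congrArg Subtype.val hx
    simp only [f] at this
    rw [← this]
    have e : w * (w⁻¹ * (x : G) * w) * w⁻¹ = x := by group
    rw [e]; exact x.2
  -- strong closure in `S₁`
  have hscl : ∀ x ∈ A, ∀ g : G, g * x * g⁻¹ ∈ S₁ → g * x * g⁻¹ ∈ A := by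
    intro x hx g hg
    have h1 := hS₁w _ hg
    have e0 : (w⁻¹ * g) * x * (w⁻¹ * g)⁻¹ = w⁻¹ * (g * x * g⁻¹) * w := by group
    have h2 : (w⁻¹ * g) * x * (w⁻¹ * g)⁻¹ ∈ A := by
      apply hA.2 x hx
      rw [e0]; exact h1
    have h3 := hwA' _ h2
    have e : w * ((w⁻¹ * g) * x * (w⁻¹ * g)⁻¹) * w⁻¹ = g * x * g⁻¹ := by group
    rwa [e] at h3
  have key : ∀ a ∈ A, ∀ b ∈ Subgroup.zpowers a, ∀ k ∈ H ⊔ Subgroup.zpowers a, ∀ R : Subgroup G,
      R ≤ G₁ → IsPGroup 2 R → b ∈ R → k * b * k⁻¹ ∈ R → k * b * k⁻¹ = b := by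
    intro a ha b hb k hk R hRG hR2 hbR hkbR
    have hzA : Subgroup.zpowers a ≤ A := by rw [Subgroup.zpowers_le]; exact ha
    have hbA : b ∈ A := hzA hb
    obtain ⟨u, hu, hRu⟩ := exists_conj_ge_of_isSylowIn hS₁ hRG hR2
    have h1 : u⁻¹ * b * u ∈ S₁ := (conj_smul_mem_iff u b S₁).mp (hRu hbR)
    have h2 : u⁻¹ * (k * b * k⁻¹) * u ∈ S₁ := (conj_smul_mem_iff u _ S₁).mp (hRu hkbR)
    have h1A : u⁻¹ * b * u ∈ A := by
      have := hscl b hbA u⁻¹ (by simpa using h1)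
      simpa using this
    have e0 : (u⁻¹ * k) * b * (u⁻¹ * k)⁻¹ = u⁻¹ * (k * b * k⁻¹) * u := by group
    have h2A : u⁻¹ * (k * b * k⁻¹) * u ∈ A := by
      have := hscl b hbA (u⁻¹ * k) (by rw [e0]; exact h2)
      rwa [e0] at this
    -- decompose `k`
    have hzN : Subgroup.zpowers a ≤ Subgroup.normalizer (H : Set G) := hzA.trans hAH
    have hk' : k ∈ ((H ⊔ Subgroup.zpowers a : Subgroup G) : Set G) := hk
    rw [Subgroup.coe_mul_of_right_le_normalizer_left H _ hzN] at hk'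
    obtain ⟨h, hh, z, hz, rfl⟩ := hk'
    have hzb : z * b = b * z := by
      obtain ⟨i, rfl⟩ := Subgroup.mem_zpowers_iff.mp hz
      obtain ⟨j, rfl⟩ := Subgroup.mem_zpowers_iff.mp hb
      rw [← zpow_add, ← zpow_add, add_comm]
    have e1 : h * z * b * (h * z)⁻¹ = h * b * h⁻¹ := by
      calc h * z * b * (h * z)⁻¹ = h * (z * b) * z⁻¹ * h⁻¹ := by group
        _ = h * (b * z) * z⁻¹ * h⁻¹ := by rw [hzb]
        _ = h * b * h⁻¹ := by group
    have hbN := hAH hbA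
    have h3 : h * b * h⁻¹ * b⁻¹ ∈ H := by
      have : b * h⁻¹ * b⁻¹ ∈ H := (Subgroup.mem_normalizer_iff.mp hbN h⁻¹).mp (H.inv_mem hh)
      have e : h * b * h⁻¹ * b⁻¹ = h * (b * h⁻¹ * b⁻¹) := by group
      rw [e]; exact H.mul_mem hh this
    have huN := hG₁N hu
    have h4 : u⁻¹ * (h * b * h⁻¹ * b⁻¹) * u ∈ H := by
      have := (Subgroup.mem_normalizer_iff.mp (Subgroup.inv_mem _ huN) _).mp h3
      simpa using this
    have h5 : u⁻¹ * (h * b * h⁻¹ * b⁻¹) * u ∈ A := by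
      have e : u⁻¹ * (h * b * h⁻¹ * b⁻¹) * u =
          (u⁻¹ * (h * b * h⁻¹) * u) * (u⁻¹ * b * u)⁻¹ := by group
      rw [e]; rw [e1] at h2A; exact A.mul_mem h2A (A.inv_mem h1A)
    have h6 : u⁻¹ * (h * b * h⁻¹ * b⁻¹) * u = 1 := by
      have : u⁻¹ * (h * b * h⁻¹ * b⁻¹) * u ∈ A ⊓ H := ⟨h5, h4⟩
      rw [hdisj] at this
      exact Subgroup.mem_bot.mp this
    have h7 : h * b * h⁻¹ * b⁻¹ = 1 := by
      have : h * b * h⁻¹ * b⁻¹ = u * (u⁻¹ * (h * b * h⁻¹ * b⁻¹) * u) * u⁻¹ := by group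
      rw [this, h6]; group
    rw [e1]
    exact mul_inv_eq_one.mp h7
  -- now the main argument
  intro a ha
  rw [Subgroup.mem_centralizer_iff]
  intro h hh
  set K : Subgroup G := H ⊔ Subgroup.zpowers a with hK
  have hzA : Subgroup.zpowers a ≤ A := by rw [Subgroup.zpowers_le]; exact ha
  have hKG₁ : K ≤ G₁ := sup_le le_sup_left (hzA.trans le_sup_right)
  have haK : a ∈ K := Subgroup.mem_sup_right (Subgroup.mem_zpowers a)
  have hHK : H ≤ K := le_sup_left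
  set a' : ↥K := ⟨a, haK⟩ with ha'
  have hz2 : IsPGroup 2 (Subgroup.zpowers a') := by
    obtain ⟨n, hn⟩ := (IsPGroup.iff_orderOf.mp hA2) ⟨a, ha⟩
    rw [Subgroup.orderOf_mk] at hn
    exact IsPGroup.of_card (n := n) (by rw [Nat.card_zpowers, ha', Subgroup.orderOf_mk, hn])
  obtain ⟨SK, hSK⟩ := hz2.exists_le_sylow
  set R : Subgroup G := (SK : Subgroup ↥K).map K.subtype with hR
  have hRK : R ≤ K := Subgroup.map_subtype_le _
  have hR2 : IsPGroup 2 R := SK.isPGroup'.map _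
  have hmemR : ∀ x : ↥K, x ∈ SK ↔ (x : G) ∈ R := by
    intro x
    constructor
    · intro hx; exact ⟨x, hx, rfl⟩
    · rintro ⟨y, hy, hyx⟩
      have : y = x := Subtype.ext hyx
      rwa [← this]
  have hzpow : ∀ x : ↥K, x ∈ Subgroup.zpowers a' → (x : G) ∈ Subgroup.zpowers a := by
    intro x hx
    obtain ⟨i, rfl⟩ := Subgroup.mem_zpowers_iff.mp hx
    exact Subgroup.mem_zpowers_iff.mpr ⟨i, by simp [ha']⟩
  have key' : ∀ b : ↥K, b ∈ Subgroup.zpowers a' → ∀ k : ↥K, k * b * k⁻¹ ∈ SK →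
      k * b * k⁻¹ = b := by
    intro b hb k hkb
    apply Subtype.ext
    have := key a ha (b : G) (hzpow b hb) (k : G) k.2 R (hRK.trans hKG₁) hR2
      ((hmemR b).mp (hSK hb)) (by have := (hmemR _).mp hkb; simpa using this)
    simpa using this
  have hWCC : Cfsg.Agent.Lib.Helper27.WCC SK (Subgroup.zpowers a') := by
    refine ⟨hSK, ?_, ?_⟩
    · intro x hx s hs
      have h1 : s * x * s⁻¹ ∈ SK := SK.mul_mem (SK.mul_mem hs (hSK hx)) (SK.inv_mem hs)
      have h2 := key' x hx s h1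
      calc x * s = (s * x * s⁻¹) * s := by rw [h2]
        _ = s * x := by group
    · intro B hB
      refine ⟨hB.trans hSK, ?_⟩
      intro g hg
      ext y
      constructor
      · rintro ⟨b, hb, rfl⟩
        have h1 : g * b * g⁻¹ ∈ SK := hg ⟨b, hb, rfl⟩
        have h2 := key' b (hB hb) g h1
        show g * b * g⁻¹ ∈ B
        rw [h2]; exact hb
      · intro hy
        have h1 : g * y * g⁻¹ ∈ SK := hg ⟨y, hy, rfl⟩
        have h2 := key' y (hB hy) g h1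
        exact ⟨y, hy, h2⟩
  have hcomm := Cfsg.Agent.Lib.Helper27.wcc_commutator hZ SK (Subgroup.zpowers a') hWCC a'
    (Subgroup.mem_zpowers a') ⟨h, hHK hh⟩
  -- pull the odd core of `K` back to `H`
  set N : Subgroup ↥H := (Cfsg.oddCore ↥K).comap (Subgroup.inclusion hHK) with hN
  have hNn : N.Normal := Subgroup.Normal.comap inferInstance _
  have hNo : Odd (Nat.card N) := by
    have hdvd : Nat.card N ∣ Nat.card (Cfsg.oddCore ↥K) :=
      Subgroup.card_comap_dvd_of_injective _ _ (Subgroup.inclusion_injective hHK)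
    exact Odd.of_dvd_nat Cfsg.Agent.Lib.Helper38.ZStarFusion.odd_card_oddCore' hdvd
  have hNbot : N = ⊥ := by
    have := le_oddCore_of_normal_of_odd N hNo
    rw [hO] at this; exact le_bot_iff.mp this
  have haN := hAH ha
  have hcH : a * h * a⁻¹ * h⁻¹ ∈ H :=
    H.mul_mem ((Subgroup.mem_normalizer_iff.mp haN h).mp hh) (H.inv_mem hh)
  have hcN : (⟨a * h * a⁻¹ * h⁻¹, hcH⟩ : ↥H) ∈ N := by
    rw [hN, Subgroup.mem_comap]
    have e : Subgroup.inclusion hHK ⟨a * h * a⁻¹ * h⁻¹, hcH⟩ =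
        a' * ⟨h, hHK hh⟩ * a'⁻¹ * (⟨h, hHK hh⟩ : ↥K)⁻¹ := by
      apply Subtype.ext; simp [ha']
    rw [e]; exact hcomm
  rw [hNbot, Subgroup.mem_bot] at hcN
  have hc1 : a * h * a⁻¹ * h⁻¹ = 1 := congrArg Subtype.val hcN
  have h8 := mul_inv_eq_one.mp hc1
  calc h * a = (a * h * a⁻¹) * a := by rw [h8]
    _ = a * h := by group

end Cfsg.Agent.Lib.Helper38.ZStarGold
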