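import Mathlib
import Cfsg.Prelude.Def_TwoFusion
import Cfsg.Prelude.Def_CaseTheorems
import Cfsg.Agent.Lib.Helper01.CoprimeSylow
import Cfsg.Agent.Lib.Helper38.ZStarCor
import Cfsg.Agent.Lib.Helper38.ZStarCI

/-!
# Sylow `2`-subgroups with a generalized quaternion direct factor (S3269),
conditional on the `Z*`-theorem

If `S = Q × R` with `Q` generalized quaternion and all involutions of `R` central in `R`, the product
of the `N_G(S)`-conjugates of the involution of `Q` is an isolated involution.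
-/

set_option autoImplicit false

namespace Cfsg.Agent.Lib.Helper38.ZStarQuat

open Cfsg
open Cfsg.Agent.Lib.Helper01
open Cfsg.Agent.Lib.Helper38.ZStarCor
open Cfsg.Agent.Lib.Helper38.ZStarCI
open scoped Pointwise

universe u

section quaternion

open QuaternionGroup

variable {m : ℕ}

theorem zmod_add_self_eq_zero [NeZero m] (i : ZMod (2 * m)) (h : i + i = 0) :
    i = 0 ∨ i = (m : ZMod (2 * m)) := by
  have hv : ((i.val + i.val : ℕ) : ZMod (2 * m)) = 0 := by
    rw [Nat.cast_add, ZMod.natCast_zmod_val]; exact h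
  rw [ZMod.natCast_eq_zero_iff] at hv
  have hlt : i.val < 2 * m := ZMod.val_lt i
  have hm : m ∣ i.val := by
    have : 2 * m ∣ 2 * i.val := by rwa [two_mul i.val]
    exact (Nat.mul_dvd_mul_iff_left (by norm_num)).mp this
  obtain ⟨k, hk⟩ := hm
  have hm0 : 0 < m := Nat.pos_of_ne_zero (NeZero.ne m)
  have hk2 : k < 2 := by
    by_contra hcon
    have hcon' : 2 ≤ k := by omega
    have : 2 * m ≤ m * k := by nlinarith
    omega
  interval_cases k
  · left
    have : i.val = 0 := by rw [hk]; ring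
    exact (ZMod.val_eq_zero i).mp this
  · right
    have h4 : i.val = m := by rw [hk]; ring
    calc i = ((i.val : ℕ) : ZMod (2 * m)) := (ZMod.natCast_zmod_val i).symm
      _ = (m : ZMod (2 * m)) := congrArg (fun t : ℕ => (t : ZMod (2 * m))) h4

theorem two_ne_zero_zmod (hm : 2 ≤ m) : (2 : ZMod (2 * m)) ≠ 0 := by
  intro h
  have h' : ((2 : ℕ) : ZMod (2 * m)) = 0 := by exact_mod_cast h
  rw [ZMod.natCast_eq_zero_iff] at h'
  have := Nat.le_of_dvd (by norm_num) h'
  omega

theorem cast_ne_zero_zmod (hm : 1 ≤ m) : (m : ZMod (2 * m)) ≠ 0 := by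
  intro h
  rw [ZMod.natCast_eq_zero_iff] at h
  have := Nat.le_of_dvd (by omega) h
  omega

theorem quat_sq_eq_one [NeZero m] (g : QuaternionGroup m) (h : g * g = 1) :
    g = 1 ∨ g = a (m : ZMod (2 * m)) := by
  have hm : 1 ≤ m := Nat.one_le_iff_ne_zero.mpr (NeZero.ne m)
  cases g with
  | a i =>
    rw [a_mul_a, one_def] at h
    have := a.inj h
    rcases zmod_add_self_eq_zero i this with h0 | h1
    · left; rw [h0, one_def]
    · right; rw [h1]
  | xa i =>
    exfalso
    rw [xa_mul_xa, one_def] at h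
    have := a.inj h
    apply cast_ne_zero_zmod hm
    rw [← this]; ring

theorem quat_center (hm : 2 ≤ m) [NeZero m] (g : QuaternionGroup m)
    (h1 : g * a 1 = a 1 * g) (h2 : g * xa 0 = xa 0 * g) :
    g = 1 ∨ g = a (m : ZMod (2 * m)) := by
  cases g with
  | a i =>
    rw [a_mul_xa, xa_mul_a] at h2
    have := xa.inj h2
    have h3 : i + i = 0 := by linear_combination -this
    rcases zmod_add_self_eq_zero i h3 with h0 | h1'
    · left; rw [h0, one_def]
    · right; rw [h1']
  | xa i =>
    exfalso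
    rw [xa_mul_a, a_mul_xa] at h1
    have := xa.inj h1
    apply two_ne_zero_zmod hm
    linear_combination this

theorem quat_noncomm (hm : 2 ≤ m) : (a 1 : QuaternionGroup m) * xa 0 ≠ xa 0 * a 1 := by
  intro h
  rw [a_mul_xa, xa_mul_a] at h
  have := xa.inj h
  apply two_ne_zero_zmod hm
  linear_combination -this

end quaternion

/-- The properties of a generalized quaternion subgroup `Q` with involution `z` that are used. -/
structure QuatLike {G : Type u} [Group G] (Q : Subgroup G) (z : G) : Prop where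
  mem : z ∈ Q
  ne_one : z ≠ 1
  sq_one : z * z = 1
  uniq : ∀ x ∈ Q, x * x = 1 → x = 1 ∨ x = z
  center : ∀ x ∈ Q, (∀ y ∈ Q, x * y = y * x) → x = 1 ∨ x = z
  sq : ∃ y ∈ Q, y * y = z
  noncomm : ∃ x ∈ Q, ∃ y ∈ Q, x * y ≠ y * x

open QuaternionGroup in
theorem quatLike_of_equiv {G : Type u} [Group G] (Q : Subgroup G) (m : ℕ) (hm : 2 ≤ m)
    (e : ↥Q ≃* QuaternionGroup m) :
    QuatLike Q ((e.symm (a (m : ZMod (2 * m))) : ↥Q) : G) := by
  have : NeZero m := ⟨by omega⟩
  set z' : ↥Q := e.symm (a (m : ZMod (2 * m))) with hz'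
  have hez : e z' = a (m : ZMod (2 * m)) := by simp [hz']
  have key : ∀ x : ↥Q, e x = 1 ∨ e x = a (m : ZMod (2 * m)) → (x : G) = 1 ∨ (x : G) = z' := by
    intro x hx
    rcases hx with h | h
    · left
      have : x = 1 := (map_eq_one_iff e e.injective).mp h
      rw [this]; rfl
    · right
      have : x = z' := by rw [hz', ← h]; simp
      rw [this]
  refine ⟨z'.2, ?_, ?_, ?_, ?_, ?_, ?_⟩
  · intro h
    have h1 : z' = 1 := Subtype.ext h
    rw [h1, map_one, one_def] at hez
    exact cast_ne_zero_zmod (by omega) (a.inj hez).symm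
  · have : z' * z' = 1 := by
      apply e.injective
      rw [map_mul, hez, map_one, a_mul_a, one_def]
      congr 1
      have : ((m : ZMod (2 * m)) + m) = ((2 * m : ℕ) : ZMod (2 * m)) := by push_cast; ring
      rw [this, ZMod.natCast_self]
    exact congrArg Subtype.val this
  · intro x hx hxx
    apply key ⟨x, hx⟩
    apply quat_sq_eq_one
    rw [← map_mul]
    have : (⟨x, hx⟩ : ↥Q) * ⟨x, hx⟩ = 1 := Subtype.ext hxx
    rw [this, map_one]
  · intro x hx hc
    apply key ⟨x, hx⟩
    apply quat_center hm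
    · have h0 := hc (e.symm (a 1) : ↥Q) (e.symm (a 1)).2
      have h' : (⟨x, hx⟩ : ↥Q) * e.symm (a 1) = e.symm (a 1) * ⟨x, hx⟩ := Subtype.ext h0
      have := congrArg e h'
      simpa using this
    · have h0 := hc (e.symm (xa 0) : ↥Q) (e.symm (xa 0)).2
      have h' : (⟨x, hx⟩ : ↥Q) * e.symm (xa 0) = e.symm (xa 0) * ⟨x, hx⟩ := Subtype.ext h0
      have := congrArg e h'
      simpa using this
  · refine ⟨(e.symm (xa 0) : ↥Q), (e.symm (xa 0)).2, ?_⟩
    have : (e.symm (xa 0)) * (e.symm (xa 0)) = z' := by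
      apply e.injective
      rw [map_mul, hez]; simp [xa_mul_xa]
    exact congrArg Subtype.val this
  · refine ⟨(e.symm (a 1) : ↥Q), (e.symm (a 1)).2, (e.symm (xa 0) : ↥Q), (e.symm (xa 0)).2, ?_⟩
    intro h
    have h' : (e.symm (a 1)) * (e.symm (xa 0)) = e.symm (xa 0) * e.symm (a 1) := Subtype.ext h
    rw [← map_mul, ← map_mul] at h'
    exact quat_noncomm hm (e.symm.injective h')

section main

variable {G : Type u} [Group G]

theorem exists_pow_involution {x : G} (hx : x ≠ 1) (k : ℕ) (hk : orderOf x = 2 ^ k) :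
    ∃ j : ℕ, (x ^ j) * (x ^ j) = 1 ∧ x ^ j ≠ 1 := by
  have hk1 : 1 ≤ k := by
    rcases Nat.eq_zero_or_pos k with h0 | hpos
    · exfalso; rw [h0, pow_zero] at hk; exact hx (orderOf_eq_one_iff.mp hk)
    · exact hpos
  refine ⟨2 ^ (k - 1), ?_, ?_⟩
  · rw [← pow_add]
    have : 2 ^ (k - 1) + 2 ^ (k - 1) = 2 ^ k := by
      have : k = (k - 1) + 1 := by omega
      conv_rhs => rw [this, pow_succ]
      ring
    rw [this, ← hk, pow_orderOf_eq_one]
  · apply pow_ne_one_of_lt_orderOf
    · positivity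
    · rw [hk]; exact Nat.pow_lt_pow_right (by norm_num) (by omega)

variable [Finite G]

/-- Burnside's fusion lemma. -/
theorem burnside_fusion' {p : ℕ} [Fact p.Prime] (S : Sylow p G) (x y : G)
    (hx : ∀ s ∈ (S : Subgroup G), s * x = x * s) (hy : ∀ s ∈ (S : Subgroup G), s * y = y * s)
    (g : G) (h : g * x * g⁻¹ = y) :
    ∃ n : G, MulAut.conj n • (S : Subgroup G) = S ∧ n * x * n⁻¹ = y := by
  set H := Subgroup.centralizer ({y} : Set G) with hH
  have hSH : (S : Subgroup G) ≤ H := by
    intro s hs; rw [hH, Subgroup.mem_centralizer_singleton_iff]; exact hy s hs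
  have hgSH : ((g • S : Sylow p G) : Subgroup G) ≤ H := by
    rw [coe_smul_sylow]
    intro s hs
    rw [conj_smul_mem_iff] at hs
    rw [hH, Subgroup.mem_centralizer_singleton_iff, ← h]
    have := hx _ hs
    calc s * (g * x * g⁻¹) = g * ((g⁻¹ * s * g) * x) * g⁻¹ := by group
      _ = g * (x * (g⁻¹ * s * g)) * g⁻¹ := by rw [this]
      _ = g * x * g⁻¹ * s := by group
  obtain ⟨c, hc, hcS⟩ := (sylow_isSylowIn (g • S) hgSH).exists_conj (sylow_isSylowIn S hSH)
  rw [coe_smul_sylow, ← mul_smul, ← map_mul] at hcS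
  refine ⟨c * g, hcS, ?_⟩
  rw [hH, Subgroup.mem_centralizer_singleton_iff] at hc
  calc c * g * x * (c * g)⁻¹ = c * (g * x * g⁻¹) * c⁻¹ := by group
    _ = c * y * c⁻¹ := by rw [h]
    _ = y * c * c⁻¹ := by rw [hc]
    _ = y := by group

/-- S3269 from `Z*`. -/
theorem not_simple_of_quat_factor (hZ : ZStarHyp.{u}) (S : Sylow 2 G) (Q R : Subgroup G)
    (hQR : Cfsg.IsInternalDirectProduct Q R (S : Subgroup G)) (z : G) (hq : QuatLike Q z)
    (hR : ∀ r ∈ R, orderOf r = 2 → ∀ s ∈ R, r * s = s * r) : ¬ IsSimpleGroup G := by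
  classical
  have : Fact (Nat.Prime 2) := ⟨Nat.prime_two⟩
  obtain ⟨hQS, hRS, hcomm, hdisj, hsup⟩ := hQR
  intro hsimple
  -- decomposition of elements of `S`
  have hdec : ∀ s ∈ (S : Subgroup G), ∃ q ∈ Q, ∃ r ∈ R, s = q * r := by
    intro s hs
    have hQN : Q ≤ Subgroup.normalizer (R : Set G) := by
      intro q hq'
      rw [Subgroup.mem_normalizer_iff]
      intro r
      constructor
      · intro hr
        have e : q * r * q⁻¹ = r := by rw [hcomm q hq' r hr]; group
        rw [e]; exact hr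
      · intro hr
        have e : r = q⁻¹ * (q * r * q⁻¹) * q := by group
        rw [e, hcomm q⁻¹ (Q.inv_mem hq') _ hr]
        have e2 : q * r * q⁻¹ * q⁻¹ * q = q * r * q⁻¹ := by group
        rw [e2]; exact hr
    have : s ∈ ((Q ⊔ R : Subgroup G) : Set G) := by rw [hsup]; exact hs
    rw [Subgroup.coe_mul_of_left_le_normalizer_right Q R hQN] at this
    obtain ⟨q, hq', r, hr, rfl⟩ := this
    exact ⟨q, hq', r, hr, rfl⟩
  -- `z` is central in `Q`
  have hzQ : ∀ x ∈ Q, x * z = z * x := by
    intro x hx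
    have h1 : x * z * x⁻¹ ∈ Q := Q.mul_mem (Q.mul_mem hx hq.mem) (Q.inv_mem hx)
    have h2 : (x * z * x⁻¹) * (x * z * x⁻¹) = 1 := by
      have : (x * z * x⁻¹) * (x * z * x⁻¹) = x * (z * z) * x⁻¹ := by group
      rw [this, hq.sq_one]; group
    rcases hq.uniq _ h1 h2 with h3 | h3
    · exfalso; apply hq.ne_one
      have : z = x⁻¹ * (x * z * x⁻¹) * x := by group
      rw [this, h3]; group
    · calc x * z = (x * z * x⁻¹) * x := by group
        _ = z * x := by rw [h3]
  -- involutions of `S` are central in `S`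
  have hinvS : ∀ s ∈ (S : Subgroup G), s * s = 1 → ∀ t ∈ (S : Subgroup G), s * t = t * s := by
    intro s hs hss t ht
    obtain ⟨q, hq', r, hr, rfl⟩ := hdec s hs
    obtain ⟨q₁, hq₁, r₁, hr₁, rfl⟩ := hdec t ht
    have h1 : (q * q) * (r * r) = 1 := by
      have : (q * r) * (q * r) = (q * q) * (r * r) := by
        calc (q * r) * (q * r) = q * (r * q) * r := by group
          _ = q * (q * r) * r := by rw [hcomm q hq' r hr]
          _ = (q * q) * (r * r) := by group
      rw [← this]; exact hss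
    have h2 : q * q ∈ Q ⊓ R := by
      refine ⟨Q.mul_mem hq' hq', ?_⟩
      have : q * q = (r * r)⁻¹ := eq_inv_of_mul_eq_one_left h1
      rw [this]; exact R.inv_mem (R.mul_mem hr hr)
    rw [hdisj, Subgroup.mem_bot] at h2
    have h3 : r * r = 1 := by rw [h2, one_mul] at h1; exact h1
    have hqq₁ : q * q₁ = q₁ * q := by
      rcases hq.uniq q hq' h2 with h | h
      · rw [h]; group
      · rw [h]; exact (hzQ q₁ hq₁).symm
    have hrr₁ : r * r₁ = r₁ * r := by
      by_cases hr1 : r = 1
      · rw [hr1]; group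
      · apply hR r hr _ r₁ hr₁
        exact orderOf_eq_prime (by rw [pow_two]; exact h3) hr1
    have hqr₁ := hcomm q hq' r₁ hr₁
    have hq₁r := hcomm q₁ hq₁ r hr
    calc q * r * (q₁ * r₁) = q * (r * q₁) * r₁ := by group
      _ = q * (q₁ * r) * r₁ := by rw [hq₁r]
      _ = (q * q₁) * (r * r₁) := by group
      _ = (q₁ * q) * (r₁ * r) := by rw [hqq₁, hrr₁]
      _ = q₁ * (q * r₁) * r := by group
      _ = q₁ * (r₁ * q) * r := by rw [hqr₁]
      _ = q₁ * r₁ * (q * r) := by group
  -- `Q` is normal in `S`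
  have hQnS : ∀ s ∈ (S : Subgroup G), ∀ x ∈ Q, s * x * s⁻¹ ∈ Q := by
    intro s hs x hx
    obtain ⟨q, hq', r, hr, rfl⟩ := hdec s hs
    have e1 : q * r * x * (q * r)⁻¹ = q * (r * x) * r⁻¹ * q⁻¹ := by group
    rw [e1, ← hcomm x hx r hr]
    have e2 : q * (x * r) * r⁻¹ * q⁻¹ = q * x * q⁻¹ := by group
    rw [e2]; exact Q.mul_mem (Q.mul_mem hq' hx) (Q.inv_mem hq')
  -- normalizing elements
  have hn1' : ∀ n : G, MulAut.conj n • (S : Subgroup G) = S →
      ∀ s ∈ (S : Subgroup G), n * s * n⁻¹ ∈ (S : Subgroup G) := by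
    intro n hn s hs
    have := conj_mem_conj_smul n s _ hs
    rwa [hn] at this
  have hn2' : ∀ n : G, MulAut.conj n • (S : Subgroup G) = S →
      ∀ s ∈ (S : Subgroup G), n⁻¹ * s * n ∈ (S : Subgroup G) := by
    intro n hn s hs
    have : s ∈ MulAut.conj n • (S : Subgroup G) := by rw [hn]; exact hs
    exact (conj_smul_mem_iff n s _).mp this
  -- conjugates of `z` under the normalizer other than `z` lie in `R`
  have hB : ∀ n : G, MulAut.conj n • (S : Subgroup G) = S → n * z * n⁻¹ ≠ z →
      n * z * n⁻¹ ∈ R := by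
    intro n hn hne
    have hn1 := hn1' n hn
    have hn2 := hn2' n hn
    have hcommQ : ∀ x ∈ Q, ∀ y ∈ Q, x * (n * y * n⁻¹) = (n * y * n⁻¹) * x := by
      intro x hx y hy
      set y' := n * y * n⁻¹ with hy'
      have hy'S : y' ∈ (S : Subgroup G) := hn1 y (hQS hy)
      set c := x * y' * x⁻¹ * y'⁻¹ with hc
      have hcQ : c ∈ Q := by
        have h0 : y' * x⁻¹ * y'⁻¹ ∈ Q := hQnS y' hy'S x⁻¹ (Q.inv_mem hx)
        have e : c = x * (y' * x⁻¹ * y'⁻¹) := by rw [hc]; group
        rw [e]; exact Q.mul_mem hx h0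
      have hcQ' : n⁻¹ * c * n ∈ Q := by
        have hxS : n⁻¹ * x * n ∈ (S : Subgroup G) := hn2 x (hQS hx)
        have h0 : (n⁻¹ * x * n) * y * (n⁻¹ * x * n)⁻¹ ∈ Q := hQnS _ hxS y hy
        have e : n⁻¹ * c * n = ((n⁻¹ * x * n) * y * (n⁻¹ * x * n)⁻¹) * y⁻¹ := by
          rw [hc, hy']; group
        rw [e]; exact Q.mul_mem h0 (Q.inv_mem hy)
      have hc1 : c = 1 := by
        by_contra hcne
        obtain ⟨k, hk⟩ := (IsPGroup.iff_orderOf.mp S.isPGroup') ⟨c, hQS hcQ⟩
        rw [Subgroup.orderOf_mk] at hk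
        obtain ⟨j, hj1, hj2⟩ := exists_pow_involution hcne k hk
        have hiQ : c ^ j ∈ Q := Q.pow_mem hcQ j
        have hi : c ^ j = z := by
          rcases hq.uniq _ hiQ hj1 with h | h
          · exact absurd h hj2
          · exact h
        have hi'Q : (n⁻¹ * c * n) ^ j ∈ Q := Q.pow_mem hcQ' j
        have hconj : (n⁻¹ * c * n) ^ j = n⁻¹ * c ^ j * n := by
          have := conj_pow (a := n⁻¹) (b := c) (i := j)
          simpa using this
        have hi'2 : (n⁻¹ * c * n) ^ j * (n⁻¹ * c * n) ^ j = 1 := by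
          rw [hconj]
          have : n⁻¹ * c ^ j * n * (n⁻¹ * c ^ j * n) = n⁻¹ * (c ^ j * c ^ j) * n := by group
          rw [this, hj1]; group
        have hi'ne : (n⁻¹ * c * n) ^ j ≠ 1 := by
          rw [hconj]; intro h
          apply hj2
          have : c ^ j = n * (n⁻¹ * c ^ j * n) * n⁻¹ := by group
          rw [this, h]; group
        have hi' : (n⁻¹ * c * n) ^ j = z := by
          rcases hq.uniq _ hi'Q hi'2 with h | h
          · exact absurd h hi'ne
          · exact h
        apply hne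
        calc n * z * n⁻¹ = n * ((n⁻¹ * c * n) ^ j) * n⁻¹ := by rw [hi']
          _ = n * (n⁻¹ * c ^ j * n) * n⁻¹ := by rw [hconj]
          _ = c ^ j := by group
          _ = z := hi
      have h5 : x * y' * x⁻¹ = y' := mul_inv_eq_one.mp (by rw [← hc]; exact hc1)
      calc x * y' = (x * y' * x⁻¹) * x := by group
        _ = y' * x := by rw [h5]
    obtain ⟨y, hyQ, hyz⟩ := hq.sq
    set y₀ := n * y * n⁻¹ with hy₀
    have hy₀S : y₀ ∈ (S : Subgroup G) := hn1 y (hQS hyQ)
    obtain ⟨q, hq', r, hr, hqr⟩ := hdec y₀ hy₀S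
    have hqc : ∀ x ∈ Q, q * x = x * q := by
      intro x hx
      have h1 := hcommQ x hx y hyQ
      rw [← hy₀, hqr] at h1
      have h2 := hcomm x hx r hr
      have : x * q = q * x := by
        calc x * q = x * (q * r) * r⁻¹ := by group
          _ = (q * r * x) * r⁻¹ := by rw [h1]
          _ = q * (r * x) * r⁻¹ := by group
          _ = q * (x * r) * r⁻¹ := by rw [h2]
          _ = q * x := by group
      exact this.symm
    have hqq : q * q = 1 := by
      rcases hq.center q hq' hqc with h | h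
      · rw [h]; group
      · rw [h]; exact hq.sq_one
    have e : n * z * n⁻¹ = r * r := by
      calc n * z * n⁻¹ = n * (y * y) * n⁻¹ := by rw [hyz]
        _ = y₀ * y₀ := by rw [hy₀]; group
        _ = (q * r) * (q * r) := by rw [hqr]
        _ = q * (r * q) * r := by group
        _ = q * (q * r) * r := by rw [hcomm q hq' r hr]
        _ = (q * q) * (r * r) := by group
        _ = r * r := by rw [hqq, one_mul]
    rw [e]; exact R.mul_mem hr hr
  -- the orbit of `z`
  set Dset : Set G := {d | ∃ n : G, MulAut.conj n • (S : Subgroup G) = S ∧ n * z * n⁻¹ = d}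
    with hDset
  set D : Finset G := (Set.toFinite Dset).toFinset with hD
  have hmemD : ∀ d, d ∈ D ↔
      ∃ n : G, MulAut.conj n • (S : Subgroup G) = S ∧ n * z * n⁻¹ = d := by
    intro d; rw [hD, Set.Finite.mem_toFinset]; rfl
  have hzD : z ∈ D := (hmemD z).mpr ⟨1, by simp, by group⟩
  have hDprop : ∀ d ∈ D, d ∈ (S : Subgroup G) ∧ d * d = 1 ∧
      ∀ s ∈ (S : Subgroup G), s * d = d * s := by
    intro d hd
    obtain ⟨n, hn, rfl⟩ := (hmemD d).mp hd
    have hdS : n * z * n⁻¹ ∈ (S : Subgroup G) := hn1' n hn z (hQS hq.mem)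
    have hdd : (n * z * n⁻¹) * (n * z * n⁻¹) = 1 := by
      have : (n * z * n⁻¹) * (n * z * n⁻¹) = n * (z * z) * n⁻¹ := by group
      rw [this, hq.sq_one]; group
    exact ⟨hdS, hdd, fun s hs => (hinvS _ hdS hdd s hs).symm⟩
  have hDcomm : (D : Set G).Pairwise (Function.onFun Commute id) := by
    intro a ha b hb _
    exact ((hDprop b hb).2.2 a (hDprop a ha).1)
  set w : G := D.noncommProd id hDcomm with hw
  have hwprop : w ∈ (S : Subgroup G) ∧ w * w = 1 ∧ ∀ s ∈ (S : Subgroup G), s * w = w * s := by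
    rw [hw]
    refine Finset.noncommProd_induction D id hDcomm
      (fun x => x ∈ (S : Subgroup G) ∧ x * x = 1 ∧ ∀ s ∈ (S : Subgroup G), s * x = x * s)
      ?_ ?_ ?_
    · rintro a b ⟨haS, haa, hac⟩ ⟨hbS, hbb, hbc⟩
      refine ⟨Subgroup.mul_mem _ haS hbS, ?_, ?_⟩
      · calc a * b * (a * b) = a * (b * a) * b := by group
          _ = a * (a * b) * b := by rw [hac b hbS]
          _ = (a * a) * (b * b) := by group
          _ = 1 := by rw [haa, hbb, one_mul]
      · intro s hs
        calc s * (a * b) = (s * a) * b := by group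
          _ = (a * s) * b := by rw [hac s hs]
          _ = a * (s * b) := by group
          _ = a * (b * s) := by rw [hbc s hs]
          _ = a * b * s := by group
    · exact ⟨Subgroup.one_mem _, by group, fun s _ => by group⟩
    · intro x hx; exact hDprop x hx
  obtain ⟨hwS, hww, hwc⟩ := hwprop
  -- `w ≠ 1`
  have hw1 : w ≠ 1 := by
    intro h1
    have hsplit := Finset.mul_noncommProd_erase D hzD id hDcomm
    have hw'R : (D.erase z).noncommProd id
        (fun _ hx _ hy hxy ↦ hDcomm (D.mem_of_mem_erase hx) (D.mem_of_mem_erase hy) hxy) ∈ R := by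
      apply Subgroup.noncommProd_mem
      intro c hc
      have hcz : c ≠ z := Finset.ne_of_mem_erase hc
      obtain ⟨n, hn, rfl⟩ := (hmemD c).mp (Finset.mem_of_mem_erase hc)
      exact hB n hn hcz
    rw [← hw, h1] at hsplit
    have hzR : z ∈ R := by
      have : z = ((D.erase z).noncommProd id
        (fun _ hx _ hy hxy ↦ hDcomm (D.mem_of_mem_erase hx) (D.mem_of_mem_erase hy) hxy))⁻¹ :=
        eq_inv_of_mul_eq_one_left hsplit
      rw [this]; exact R.inv_mem hw'R
    have : z ∈ Q ⊓ R := ⟨hq.mem, hzR⟩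
    rw [hdisj, Subgroup.mem_bot] at this
    exact hq.ne_one this
  have hw2 : orderOf w = 2 := orderOf_eq_prime (by rw [pow_two]; exact hww) hw1
  -- invariance of `w`
  have hgen : ∀ (m₁ m₂ : Multiset G) (_ : m₁ = m₂) (c₁ : {x | x ∈ m₁}.Pairwise Commute)
      (c₂ : {x | x ∈ m₂}.Pairwise Commute), m₁.noncommProd c₁ = m₂.noncommProd c₂ := by
    intro m₁ m₂ h c₁ c₂; subst h; rfl
  have hwinv : ∀ n : G, MulAut.conj n • (S : Subgroup G) = S → n * w * n⁻¹ = w := by
    intro n hn
    have h1 := Finset.map_noncommProd D id hDcomm (MulAut.conj n).toMonoidHom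
    have himg : D.image (fun d => n * d * n⁻¹) = D := by
      ext d
      rw [Finset.mem_image]
      constructor
      · rintro ⟨d', hd', rfl⟩
        obtain ⟨k, hk, rfl⟩ := (hmemD d').mp hd'
        refine (hmemD _).mpr ⟨n * k, ?_, by group⟩
        rw [map_mul, mul_smul, hk, hn]
      · intro hd
        obtain ⟨k, hk, rfl⟩ := (hmemD d).mp hd
        refine ⟨n⁻¹ * k * z * (n⁻¹ * k)⁻¹, (hmemD _).mpr ⟨n⁻¹ * k, ?_, rfl⟩, by group⟩
        rw [map_mul, mul_smul, hk, map_inv, inv_smul_eq_iff, hn]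
    have hval : D.val.map (fun d => n * d * n⁻¹) = D.val := by
      have hinj : Set.InjOn (fun d => n * d * n⁻¹) (D : Set G) := by
        intro a _ b _ hab
        simpa using hab
      rw [← Finset.image_val_of_injOn hinj, himg]
    have hmeq : Multiset.map (fun i => (MulAut.conj n).toMonoidHom (id i)) D.val =
        Multiset.map id D.val := by
      rw [Multiset.map_id]
      conv_rhs => rw [← hval]
      apply Multiset.map_congr rfl
      intro x _
      simp [MulAut.conj_apply]
    calc n * w * n⁻¹ = (MulAut.conj n).toMonoidHom w := by simp [MulAut.conj_apply]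
      _ = D.noncommProd (fun i => (MulAut.conj n).toMonoidHom (id i)) _ := h1
      _ = w := hgen _ _ hmeq _ _
  -- `w` is isolated
  have hiso : ∀ g : G, g * w * g⁻¹ ∈ S → g * w * g⁻¹ = w := by
    intro g hg
    have hgg : (g * w * g⁻¹) * (g * w * g⁻¹) = 1 := by
      have : (g * w * g⁻¹) * (g * w * g⁻¹) = g * (w * w) * g⁻¹ := by group
      rw [this, hww]; group
    have hcent : ∀ s ∈ (S : Subgroup G), s * (g * w * g⁻¹) = (g * w * g⁻¹) * s :=
      fun s hs => (hinvS _ hg hgg s hs).symm
    obtain ⟨n, hn, hnw⟩ := burnside_fusion' S w (g * w * g⁻¹) hwc hcent g rfl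
    rw [← hnw]; exact hwinv n hn
  obtain ⟨N₀, hN₀, hodd, hcN⟩ := hZ G S w hw2 hwS hiso
  rcases hN₀.eq_bot_or_eq_top with hbot | htop
  · -- `w` is central in `G`
    have hwcen : w ∈ Subgroup.center G := by
      rw [Subgroup.mem_center_iff]
      intro g
      have := hcN g
      rw [hbot, Subgroup.mem_bot] at this
      have h5 : w * g * w⁻¹ = g := mul_inv_eq_one.mp this
      calc g * w = (w * g * w⁻¹) * w := by rw [h5]
        _ = w * g := by group
    rcases (inferInstance : (Subgroup.center G).Normal).eq_bot_or_eq_top with hb | ht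
    · rw [hb, Subgroup.mem_bot] at hwcen; exact hw1 hwcen
    · obtain ⟨x, _, y, _, hxy⟩ := hq.noncomm
      apply hxy
      have : y ∈ Subgroup.center G := by rw [ht]; exact Subgroup.mem_top y
      exact (Subgroup.mem_center_iff.mp this x)
  · -- `G` has odd order, impossible
    rw [htop] at hodd
    have hz2 : orderOf z = 2 := orderOf_eq_prime (by rw [pow_two]; exact hq.sq_one) hq.ne_one
    have hdvd : 2 ∣ Nat.card G := hz2 ▸ orderOf_dvd_natCard z
    rw [Subgroup.card_top] at hodd
    have : Odd 2 := Odd.of_dvd_nat hodd hdvd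
    exact absurd this (by decide)

end main

end Cfsg.Agent.Lib.Helper38.ZStarQuat
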